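import Cfsg.Agent.Lib.TwoTransAFive.Basic
import Mathlib.Algebra.BigOperators.Ring.Finset
import Mathlib.Tactic.LinearCombination
import Mathlib.Data.ZMod.Basic
import Mathlib.Combinatorics.Enumerative.DoubleCounting
import Mathlib.Data.Set.Card.Arithmetic

/-!
`S3262`: the counts.

* at most sixteen involutions swap two points;
* `|T| * f * (f - 1) = 15 * n * (n - 1)`, `f < n`, the parities of `h`, `f`, `n`;
* `15 * (n - f) + u * (f * (f - 1)) ≤ 16 * (f * (f - 1))` for the number `u` of involutions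
  whose only fixed point is a given one.
-/

set_option autoImplicit false

namespace CfsgLib.TwoTransAFive

open Subgroup MulAction

variable {G : Type*} [Group G] {Ω : Type*} [MulAction G Ω]

/-- The involutions moving `a` to `b`. -/
def swappers (a b : Ω) : Set G := {g | g * g = 1 ∧ g • a = b}

variable (Ω) in
/-- The involutions with exactly one fixed point, `a`. -/
def onlyFix (G : Type*) [Group G] [MulAction G Ω] (a : Ω) : Set G :=
  {g | g * g = 1 ∧ g ≠ 1 ∧ fix Ω g = {a}}

theorem fix_eq_of_not_isT {g : G} (h2 : g * g = 1) (h1 : g ≠ 1) (hT : ¬ IsT Ω g) :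
    (fix Ω g).Subsingleton := fun x hx y hy => by
  by_contra hxy
  exact hT ⟨h2, h1, x, y, hxy, hx, hy⟩

/-- an involution on a finite set moves an even number of points of an invariant set -/
theorem ncard_mod_two {α : Type*} (S : Set α) (hS : S.Finite) (σ : α → α) (hσ : ∀ x ∈ S, σ x ∈ S)
    (hσ2 : ∀ x ∈ S, σ (σ x) = x) : S.ncard % 2 = {x ∈ S | σ x = x}.ncard % 2 := by
  classical
  have hF : {x ∈ S | σ x = x} ⊆ S := Set.sep_subset _ _
  rw [← Set.ncard_sdiff_add_ncard_of_subset hF hS]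
  obtain ⟨M, hM⟩ : ∃ M : Finset α, (M : Set α) = S \ {x ∈ S | σ x = x} :=
    ⟨(hS.subset Set.sdiff_subset).toFinset, Set.Finite.coe_toFinset _⟩
  rw [← hM, Set.ncard_coe_finset]
  have hmem : ∀ x, x ∈ M ↔ x ∈ S ∧ σ x ≠ x := fun x => by
    rw [← Finset.mem_coe, hM]; simp
  have h0 : (∑ _x ∈ M, (1 : ZMod 2)) = 0 := by
    refine Finset.sum_involution (fun x _ => σ x) (fun x _ => by decide) (fun x hx _ => ((hmem x).1 hx).2)
      (fun x hx => (hmem _).2 ⟨hσ x ((hmem x).1 hx).1, fun h => ((hmem x).1 hx).2 ?_⟩)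
      (fun x hx => hσ2 x ((hmem x).1 hx).1)
    rw [hσ2 x ((hmem x).1 hx).1] at h
    exact h.symm
  rw [Finset.sum_const, nsmul_one, ZMod.natCast_eq_zero_iff_even] at h0
  obtain ⟨k, hk⟩ := h0
  omega

namespace Hyp

variable (H : Hyp G Ω)
include H

/-- at most sixteen involutions swap two given points -/
theorem ncard_swappers_le [Finite G] {a b : Ω} (hab : a ≠ b) :
    (swappers a b : Set G).ncard ≤ 16 := by
  classical
  rcases Set.eq_empty_or_nonempty (swappers a b : Set G) with h0 | ⟨s, hs2, hsa⟩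
  · simp [h0]
  have hsb : s • b = a := by rw [← hsa, ← mul_smul, hs2, one_smul]
  obtain ⟨e⟩ := H.iso a b hab
  have hinv : s⁻¹ = s := inv_eq_of_mul_eq_one_left hs2
  have hconj : ∀ g ∈ (pairStab a b : Subgroup G), s * g * s ∈ (pairStab a b : Subgroup G) := fun g hg => by
    obtain ⟨h1, h2⟩ := mem_pairStab.1 hg
    rw [mem_pairStab, mul_smul, mul_smul, mul_smul, mul_smul, hsa, h2, hsb, h1, hsa]
    exact ⟨rfl, rfl⟩
  have hcc : ∀ g : G, s * (s * g * s) * s = g := fun g => by
    calc s * (s * g * s) * s = (s * s) * g * (s * s) := by group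
      _ = g := by rw [hs2, one_mul, mul_one]
  let φ : (pairStab a b : Subgroup G) ≃* (pairStab a b : Subgroup G) :=
    { toFun := fun g => ⟨s * g * s, hconj g g.2⟩
      invFun := fun g => ⟨s * g * s, hconj g g.2⟩
      left_inv := fun g => Subtype.ext (hcc g)
      right_inv := fun g => Subtype.ext (hcc g)
      map_mul' := fun g g' => Subtype.ext (by
        show s * ((g : G) * g') * s = s * g * s * (s * g' * s)
        calc s * ((g : G) * g') * s = s * g * 1 * g' * s := by group
          _ = s * g * (s * s) * g' * s := by rw [hs2]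
          _ = _ := by group) }
  have hle := Model.card_inverted (e.symm.trans (φ.trans e))
  refine le_trans ?_ hle
  rw [← Set.ncard_coe_finset]
  have hmem : ∀ g ∈ (swappers a b : Set G), s * g ∈ (pairStab a b : Subgroup G) := fun g hg => by
    obtain ⟨hg2, hga⟩ := hg
    have hgb : g • b = a := by rw [← hga, ← mul_smul, hg2, one_smul]
    rw [mem_pairStab, mul_smul, mul_smul, hga, hgb, hsa, hsb]
    exact ⟨rfl, rfl⟩
  refine Set.ncard_le_ncard_of_injOn
    (fun g => if hg : s * g ∈ (pairStab a b : Subgroup G) then e ⟨s * g, hg⟩ else 1) ?_ ?_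
  · intro g hg
    obtain ⟨hg2, -⟩ := id hg
    simp only [dif_pos (hmem g hg)]
    refine Finset.mem_filter.2 ⟨Finset.mem_univ _, ?_⟩
    simp only [MulEquiv.trans_apply, MulEquiv.symm_apply_apply]
    refine (congrArg e (Subtype.ext ?_)).trans (map_inv e _)
    show s * (s * g) * s = (s * g)⁻¹
    rw [mul_inv_rev, hinv, inv_eq_of_mul_eq_one_left hg2, ← mul_assoc, hs2, one_mul]
  · intro g hg g' hg' heq
    simp only [dif_pos (hmem g hg), dif_pos (hmem g' hg')] at heq
    exact mul_left_cancel (congrArg Subtype.val (e.injective heq))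

theorem fix_ne_univ [FaithfulSMul G Ω] {t : G} (ht1 : t ≠ 1) : fix Ω t ≠ Set.univ := fun h => by
  refine ht1 (eq_of_smul_eq_smul (α := Ω) fun x => ?_)
  rw [one_smul]
  exact (Set.eq_univ_iff_forall.1 h) x

theorem exists_isT : ∃ t : G, IsT Ω t := by
  obtain ⟨a, b, hab⟩ := H.exists_pair
  obtain ⟨t, ht, ht2, ht1⟩ := H.exists_invol hab
  exact ⟨t, H.isT_of_mem hab ht ht2 ht1⟩

variable [Finite Ω]

theorem fNum_lt [FaithfulSMul G Ω] : H.fNum < Nat.card Ω := by
  obtain ⟨t, ht⟩ := H.exists_isT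
  rw [← H.ncard_fix ht, ← Set.ncard_univ]
  exact Set.ncard_lt_ncard ((Set.subset_univ _).ssubset_of_ne (H.fix_ne_univ ht.2.1))

theorem card_mod_two : Nat.card Ω % 2 = H.fNum % 2 := by
  obtain ⟨t, ht⟩ := H.exists_isT
  rw [← H.ncard_fix ht, ← Set.ncard_univ,
    ncard_mod_two Set.univ Set.finite_univ (fun x => t • x) (fun x _ => Set.mem_univ _)
      (fun x _ => by rw [← mul_smul, ht.1, one_smul])]
  simp [fix]

theorem hNum_mod_two : H.hNum % 2 = H.fNum % 2 := by
  obtain ⟨a, b, hab⟩ := H.exists_pair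
  obtain ⟨t, ht, ht2, ht1⟩ := H.exists_invol hab
  obtain ⟨e⟩ := H.iso a b hab
  have hV := H.isFour_four hab ht ht2 ht1
  obtain ⟨y, hy, hy2, hy1, -, hty, hiff⟩ := Five.four_elems e ht ht2 ht1
  rw [← H.ncard_fixSub hV, ← H.ncard_fix (H.isT_of_mem hab ht ht2 ht1),
    ncard_mod_two (fix Ω t) (Set.toFinite _) (fun x => y • x) ?_ ?_]
  · refine congrArg (fun S : Set Ω => S.ncard % 2) ?_
    ext x
    constructor
    · intro hx
      exact ⟨hx t ((hiff t).2 (by simp)), hx y ((hiff y).2 (by simp))⟩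
    · rintro ⟨hxt, hxy⟩ g hg
      rcases (hiff g).1 hg with rfl | rfl | rfl | rfl
      · exact one_smul _ _
      · exact hxt
      · exact hxy
      · rw [mul_smul, hxy]; exact hxt
  · intro x hx
    show t • y • x = y • x
    rw [← mul_smul, hty, mul_smul, hx]
  · intro x _
    rw [← mul_smul, hy2, one_smul]

variable [Finite G]

/-- `|T| * f * (f - 1) = 15 * n * (n - 1)` -/
theorem card_T : {g : G | IsT Ω g}.ncard * (H.fNum * (H.fNum - 1)) =
    15 * (Nat.card Ω * (Nat.card Ω - 1)) := by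
  classical
  have := Fintype.ofFinite G
  have := Fintype.ofFinite Ω
  let T : Finset G := Finset.univ.filter fun g => IsT Ω g
  let P : Finset (Ω × Ω) := Finset.univ.filter fun p => p.1 ≠ p.2
  let r : G → Ω × Ω → Prop := fun g p => g • p.1 = p.1 ∧ g • p.2 = p.2
  have hT : {g : G | IsT Ω g}.ncard = T.card := by rw [← Set.ncard_coe_finset]; simp [T]
  have hP : P.card = Nat.card Ω * (Nat.card Ω - 1) := by
    rw [show P = (Finset.univ : Finset Ω).offDiag by ext; simp [P, Finset.mem_offDiag],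
      Finset.offDiag_card, Finset.card_univ, Nat.card_eq_fintype_card, Nat.mul_sub_one]
  have h1 : ∀ g ∈ T, (P.bipartiteAbove r g).card = H.fNum * (H.fNum - 1) := by
    intro g hg
    rw [← H.ncard_fix (Finset.mem_filter.1 hg).2, Nat.mul_sub_one, Set.ncard_eq_toFinset_card',
      ← Finset.offDiag_card]
    refine congrArg Finset.card (Finset.ext fun p => ?_)
    simp only [Finset.bipartiteAbove, P, r, Finset.mem_filter, Finset.mem_univ, true_and,
      Finset.mem_offDiag, Set.mem_toFinset]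
    exact ⟨fun h => ⟨h.2.1, h.2.2, h.1⟩, fun h => ⟨h.2.2, h.1, h.2.1⟩⟩
  have h2 : ∀ p ∈ P, (T.bipartiteBelow r p).card = 15 := by
    intro p hp
    have hp' : p.1 ≠ p.2 := (Finset.mem_filter.1 hp).2
    rw [← Five.card_invol (H.iso p.1 p.2 hp').some, ← Set.ncard_coe_finset]
    congr 1
    ext g
    simp only [Finset.bipartiteBelow, T, r, Finset.coe_filter, Finset.mem_filter, Finset.mem_univ,
      true_and, Set.mem_setOf_eq, mem_pairStab]
    exact ⟨fun ⟨h, h'⟩ => ⟨h', h.1, h.2.1⟩, fun ⟨h, h', h''⟩ => ⟨⟨h', h'', _, _, hp', h.1, h.2⟩, h⟩⟩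
  have := Finset.card_mul_eq_card_mul r h1 h2
  rw [hT, this, hP, mul_comm]

/-- the count of all involutions by the pairs they swap -/
theorem count_le [FaithfulSMul G Ω] :
    {g : G | IsT Ω g}.ncard * (Nat.card Ω - H.fNum) +
      {g : G | g * g = 1 ∧ g ≠ 1 ∧ (fix Ω g).ncard = 1}.ncard * (Nat.card Ω - 1) ≤
      16 * (Nat.card Ω * (Nat.card Ω - 1)) := by
  classical
  have := Fintype.ofFinite G
  have := Fintype.ofFinite Ω
  let T : Finset G := Finset.univ.filter fun g => IsT Ω g
  let U : Finset G := Finset.univ.filter fun g => g * g = 1 ∧ g ≠ 1 ∧ (fix Ω g).ncard = 1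
  let P : Finset (Ω × Ω) := Finset.univ.filter fun p => p.1 ≠ p.2
  let r : G → Ω × Ω → Prop := fun g p => g • p.1 = p.2
  have hP : P.card = Nat.card Ω * (Nat.card Ω - 1) := by
    rw [show P = (Finset.univ : Finset Ω).offDiag by ext; simp [P, Finset.mem_offDiag],
      Finset.offDiag_card, Finset.card_univ, Nat.card_eq_fintype_card, Nat.mul_sub_one]
  have hdis : Disjoint T U := by
    rw [Finset.disjoint_left]
    intro g hgT hgU
    obtain ⟨-, -, x, y, hxy, hx, hy⟩ := (Finset.mem_filter.1 hgT).2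
    obtain ⟨z, hz⟩ := Set.ncard_eq_one.1 (Finset.mem_filter.1 hgU).2.2.2
    have hx' : x ∈ fix Ω g := hx
    have hy' : y ∈ fix Ω g := hy
    rw [hz, Set.mem_singleton_iff] at hx' hy'
    exact hxy (hx'.trans hy'.symm)
  have h1 : ∀ g : G, (P.bipartiteAbove r g).card = Nat.card Ω - (fix Ω g).ncard := by
    intro g
    have himg : P.bipartiteAbove r g =
        ((Finset.univ : Finset Ω).filter fun x => g • x ≠ x).image fun x => (x, g • x) := by
      ext ⟨x, y⟩
      simp only [Finset.bipartiteAbove, P, r, Finset.mem_filter, Finset.mem_univ, true_and,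
        Finset.mem_image, Prod.mk.injEq]
      exact ⟨fun ⟨h, h'⟩ => ⟨x, fun hc => h (hc.symm.trans h'), rfl, h'⟩,
        fun ⟨z, hz, hzx, hzy⟩ => by subst hzx hzy; exact ⟨fun hc => hz hc.symm, rfl⟩⟩
    rw [himg, Finset.card_image_of_injective _ (fun x y h => (Prod.mk.injEq _ _ _ _ ▸ h).1),
      Finset.filter_not, Finset.card_sdiff_of_subset (Finset.filter_subset _ _), Finset.card_univ,
      Nat.card_eq_fintype_card, ← Set.ncard_coe_finset]
    simp [fix]
  have h2 : ∀ p ∈ P, ((T ∪ U).bipartiteBelow r p).card ≤ 16 := by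
    intro p hp
    refine le_trans ?_ (H.ncard_swappers_le (Finset.mem_filter.1 hp).2)
    rw [← Set.ncard_coe_finset]
    refine Set.ncard_le_ncard (fun g hg => ?_) (Set.toFinite _)
    simp only [Finset.bipartiteBelow, Finset.coe_filter, Set.mem_setOf_eq, T, U, Finset.mem_union,
      Finset.mem_filter, Finset.mem_univ, true_and] at hg
    exact ⟨hg.1.elim (fun h => h.1) (fun h => h.1), hg.2⟩
  have hsum := Finset.sum_card_bipartiteAbove_eq_sum_card_bipartiteBelow r (s := T ∪ U) (t := P)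
  rw [Finset.sum_union hdis] at hsum
  have e1 : ∑ g ∈ T, (P.bipartiteAbove r g).card = T.card * (Nat.card Ω - H.fNum) := by
    rw [Finset.card_eq_sum_ones, Finset.sum_mul, one_mul]
    exact Finset.sum_congr rfl fun g hg => by rw [h1, H.ncard_fix (Finset.mem_filter.1 hg).2]
  have e2 : ∑ g ∈ U, (P.bipartiteAbove r g).card = U.card * (Nat.card Ω - 1) := by
    rw [Finset.card_eq_sum_ones, Finset.sum_mul, one_mul]
    exact Finset.sum_congr rfl fun g hg => by rw [h1, (Finset.mem_filter.1 hg).2.2.2]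
  have e3 : ∑ p ∈ P, ((T ∪ U).bipartiteBelow r p).card ≤ P.card * 16 := by
    simpa using Finset.sum_le_sum h2
  have hT : {g : G | IsT Ω g}.ncard = T.card := by rw [← Set.ncard_coe_finset]; simp [T]
  have hU : {g : G | g * g = 1 ∧ g ≠ 1 ∧ (fix Ω g).ncard = 1}.ncard = U.card := by
    rw [← Set.ncard_coe_finset]; simp [U]
  rw [hT, hU, ← hP, ← e1, ← e2, hsum]
  omega

theorem ncard_onlyFix_eq (a b : Ω) : (onlyFix Ω G a).ncard = (onlyFix Ω G b).ncard := by
  obtain ⟨g, hg⟩ : ∃ g : G, g • a = b := by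
    by_cases h : a = b
    · exact ⟨1, by rw [one_smul, h]⟩
    · obtain ⟨g, hg, -⟩ := H.pre a b b a h (Ne.symm h)
      exact ⟨g, hg⟩
  have : onlyFix Ω G b = (fun z => g * z * g⁻¹) '' onlyFix Ω G a := by
    ext z
    simp only [Set.mem_image]
    constructor
    · rintro ⟨h2, h1, hf⟩
      refine ⟨g⁻¹ * z * g, ⟨?_, ?_, ?_⟩, by group⟩
      · calc g⁻¹ * z * g * (g⁻¹ * z * g) = g⁻¹ * (z * z) * g := by group
          _ = 1 := by rw [h2]; group
      · intro hc; apply h1
        calc z = g * (g⁻¹ * z * g) * g⁻¹ := by group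
          _ = 1 := by rw [hc]; group
      · have := fix_conj (Ω := Ω) g⁻¹ z
        rw [inv_inv] at this
        rw [this, hf, Set.image_singleton, ← hg, inv_smul_smul]
    · rintro ⟨y, ⟨h2, h1, hf⟩, rfl⟩
      refine ⟨?_, ?_, ?_⟩
      · calc g * y * g⁻¹ * (g * y * g⁻¹) = g * (y * y) * g⁻¹ := by group
          _ = 1 := by rw [h2]; group
      · intro hc; apply h1
        calc y = g⁻¹ * (g * y * g⁻¹) * g := by group
          _ = 1 := by rw [hc]; group
      · rw [fix_conj, hf, Set.image_singleton, hg]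
  rw [this, Set.ncard_image_of_injective _ fun x y h => mul_left_cancel (mul_right_cancel h)]

theorem card_onlyFix (a : Ω) : {g : G | g * g = 1 ∧ g ≠ 1 ∧ (fix Ω g).ncard = 1}.ncard =
    Nat.card Ω * (onlyFix Ω G a).ncard := by
  classical
  have := Fintype.ofFinite G
  have := Fintype.ofFinite Ω
  have hu : {g : G | g * g = 1 ∧ g ≠ 1 ∧ (fix Ω g).ncard = 1} = ⋃ b ∈ (Set.univ : Set Ω), onlyFix Ω G b := by
    ext g
    simp only [Set.mem_setOf_eq, Set.mem_iUnion, Set.mem_univ, exists_true_left, onlyFix, Set.ncard_eq_one]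
    exact ⟨fun ⟨h2, h1, b, hb⟩ => ⟨b, h2, h1, hb⟩, fun ⟨b, h2, h1, hb⟩ => ⟨h2, h1, b, hb⟩⟩
  rw [hu, Set.finite_univ.ncard_biUnion (fun b _ => Set.toFinite _)]
  · rw [finsum_mem_univ, finsum_eq_sum_of_fintype, Finset.sum_congr rfl fun b _ => H.ncard_onlyFix_eq b a,
      Finset.sum_const, Finset.card_univ, Nat.card_eq_fintype_card, smul_eq_mul]
  · intro b _ c _ hbc
    rw [Function.onFun, Set.disjoint_left]
    rintro g ⟨-, -, hb⟩ ⟨-, -, hc⟩
    exact hbc (Set.singleton_injective (hb.symm.trans hc))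

/-- the bound for the number of involutions fixing a given point only -/
theorem count [FaithfulSMul G Ω] (a : Ω) :
    15 * (Nat.card Ω - H.fNum) + (onlyFix Ω G a).ncard * (H.fNum * (H.fNum - 1)) ≤
      16 * (H.fNum * (H.fNum - 1)) := by
  have h := H.count_le
  rw [H.card_onlyFix a] at h
  have hT := H.card_T
  have hn : 0 < Nat.card Ω * (Nat.card Ω - 1) := by
    have h2 := H.two_le_hNum
    have h3 := H.hNum_le_fNum
    have h4 := H.fNum_lt
    exact Nat.mul_pos (by omega) (by omega)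
  refine Nat.le_of_mul_le_mul_right ?_ hn
  generalize {g : G | IsT Ω g}.ncard = c at h hT
  generalize H.fNum * (H.fNum - 1) = F at hT ⊢
  generalize (onlyFix Ω G a).ncard = u at h ⊢
  generalize Nat.card Ω - H.fNum = d at h ⊢
  generalize Nat.card Ω = n at h hT ⊢
  generalize n - 1 = m at h hT ⊢
  calc (15 * d + u * F) * (n * m) = 15 * (n * m) * d + u * F * (n * m) := by ring
    _ = c * F * d + u * F * (n * m) := by rw [hT]
    _ = (c * d + n * u * m) * F := by ring
    _ ≤ 16 * (n * m) * F := Nat.mul_le_mul_right F h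
    _ = _ := by ring

theorem ncard_onlyFix_lt [FaithfulSMul G Ω] (a : Ω) : (onlyFix Ω G a).ncard < 16 := by
  have h := H.count a
  have h4 := H.fNum_lt
  by_contra hc
  have : 16 * (H.fNum * (H.fNum - 1)) ≤ (onlyFix Ω G a).ncard * (H.fNum * (H.fNum - 1)) :=
    Nat.mul_le_mul_right _ (not_lt.1 hc)
  omega

/-- the number `P` of the arithmetic: `15 * (n - f) ≤ 16 * f * (f - 1)` -/
theorem count_even [FaithfulSMul G Ω] :
    15 * (Nat.card Ω - H.fNum) ≤ 16 * (H.fNum * (H.fNum - 1)) :=
  let ⟨a, _, _⟩ := H.exists_pair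
  le_of_add_le_left (H.count a)

end Hyp

end CfsgLib.TwoTransAFive
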