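import Cfsg.Agent.Lib.TwoTransAFive.Setup
import Cfsg.Agent.Lib.TwoTransAFive.Count
import Cfsg.Agent.Lib.GW.Done
import Cfsg.Agent.Lib.GWCons.DihedralModel
import Cfsg.Agent.Lib.PSL2.Recognition
import Cfsg.Agent.Lib.PSL2.Involution
import Cfsg.Agent.Lib.DimThreeMax.AutCard

/-!
`S3262`, odd degree, no further 2-element centralising a four group, `h = f`: seven points.

The Sylow 2-subgroups are dihedral of order 8, so the perfect normal subgroup over a two-point
stabiliser is `PSL₂(q)` or `A₇`; the centraliser of an involution normalises a four group, so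
`q ≤ 9`, and counting leaves `A₇` on seven points.
-/

set_option autoImplicit false
set_option linter.unusedSectionVars false
set_option linter.style.haveILetI false

open Subgroup MulAction

namespace CfsgLib.TwoTransAFive

universe u v

section General

variable {G : Type u} [Group G]

/-- the set of elements fixing `t` and normalising a four group has at most eight elements -/
theorem card_le_eight {V K : Subgroup G} {t y : G}
    (hV : ∀ g, g ∈ V ↔ g = 1 ∨ g = t ∨ g = y ∨ g = t * y) (hy1 : y ≠ 1) (hyt : y ≠ t)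
    (hV4 : Nat.card V = 4) (hKt : ∀ g ∈ K, g * t = t * g)
    (hKV : ∀ g ∈ K, g * y * g⁻¹ ∈ V) (hKC : ∀ g ∈ K, g * y = y * g → g ∈ V) :
    Nat.card K ≤ 8 := by
  have hcases : ∀ g ∈ K, g * y = y * g ∨ g * y * g⁻¹ = t * y := by
    intro g hg
    rcases (hV _).1 (hKV g hg) with h | h | h | h
    · exact absurd (conj_eq_one_iff.1 h) hy1
    · refine absurd ?_ hyt
      calc y = g⁻¹ * (g * y * g⁻¹) * g := by group
        _ = g⁻¹ * (t * g) := by rw [h, mul_assoc]
        _ = t := by rw [← hKt g hg, inv_mul_cancel_left]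
    · exact Or.inl (mul_inv_eq_iff_eq_mul.1 h)
    · exact Or.inr h
  have hfin : (V : Set G).Finite :=
    Set.finite_coe_iff.1 (Nat.finite_of_card_ne_zero (by
      show Nat.card V ≠ 0
      omega))
  have hVn : (V : Set G).ncard = 4 := by rw [← Nat.card_coe_set_eq]; exact hV4
  by_cases hex : ∃ g ∈ K, g * y * g⁻¹ = t * y
  · obtain ⟨g, hg, hgy⟩ := hex
    have hsub : (K : Set G) ⊆ (V : Set G) ∪ (fun v => g * v) '' (V : Set G) := by
      intro x hx
      rcases hcases x hx with h | h
      · exact Or.inl (hKC x hx h)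
      · refine Or.inr ⟨g⁻¹ * x, hKC _ (mul_mem (inv_mem hg) hx) ?_, mul_inv_cancel_left g x⟩
        calc g⁻¹ * x * y = g⁻¹ * (x * y * x⁻¹) * x := by group
          _ = g⁻¹ * (g * y * g⁻¹) * x := by rw [h, hgy]
          _ = y * (g⁻¹ * x) := by group
    calc Nat.card K = (K : Set G).ncard := (Nat.card_coe_set_eq _)
      _ ≤ ((V : Set G) ∪ (fun v => g * v) '' (V : Set G)).ncard :=
          Set.ncard_le_ncard hsub (hfin.union (hfin.image _))
      _ ≤ (V : Set G).ncard + ((fun v => g * v) '' (V : Set G)).ncard := Set.ncard_union_le _ _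
      _ ≤ 8 := by rw [Set.ncard_image_of_injective _ (mul_right_injective g), hVn]
  · push Not at hex
    calc Nat.card K = (K : Set G).ncard := (Nat.card_coe_set_eq _)
      _ ≤ (V : Set G).ncard :=
          Set.ncard_le_ncard (fun x hx => hKC x hx ((hcases x hx).resolve_right (hex x hx))) hfin
      _ ≤ 8 := by omega

/-- a group of order eight with an element outside a four group moving it is dihedral -/
theorem dihedral_eight {T V : Subgroup G} {t y : G} (hT : Nat.card T = 8) (hVT : V ≤ T)
    (hV : ∀ g, g ∈ V ↔ g = 1 ∨ g = t ∨ g = y ∨ g = t * y) (hy2 : y * y = 1) (hy1 : y ≠ 1)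
    (ht2 : t * t = 1) (ht1 : t ≠ 1) (hyt : y ≠ t)
    (hV4 : Nat.card V = 4) (hTt : ∀ g ∈ T, g * t = t * g)
    (hTC : ∀ g ∈ T, g * y = y * g → g ∈ V) :
    Nonempty (T ≃* DihedralGroup 4) := by
  classical
  have : Finite T := Nat.finite_of_card_ne_zero (by omega)
  have hidx : (V.subgroupOf T).index = 2 := by
    have h := (V.subgroupOf T).card_mul_index
    rw [Nat.card_congr (subgroupOfEquivOfLe hVT).toEquiv, hV4, hT] at h
    omega
  have : (V.subgroupOf T).Normal := normal_of_index_eq_two hidx
  obtain ⟨g, hg, hgV⟩ : ∃ g ∈ T, g ∉ V := by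
    by_contra h
    push Not at h
    have := le_antisymm hVT h
    rw [this] at hV4
    omega
  have hyV : y ∈ V := (hV y).2 (by simp)
  have htV : t ∈ V := (hV t).2 (by simp)
  have hyT : y ∈ T := hVT hyV
  have hconj : ∀ g ∈ T, g ∉ V → g * y * g⁻¹ = t * y := by
    intro g hg hgV
    have h := (‹(V.subgroupOf T).Normal›.conj_mem ⟨y, hyT⟩ (mem_subgroupOf.2 hyV) ⟨g, hg⟩)
    rw [mem_subgroupOf] at h
    rcases (hV _).1 h with h | h | h | h
    · exact absurd (conj_eq_one_iff.1 h) hy1
    · refine absurd ?_ hyt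
      calc y = g⁻¹ * (g * y * g⁻¹) * g := by group
        _ = g⁻¹ * (t * g) := by
          have h' : g * y * g⁻¹ = t := h
          rw [h', mul_assoc]
        _ = t := by rw [← hTt g hg, inv_mul_cancel_left]
    · exact absurd (hTC g hg (mul_inv_eq_iff_eq_mul.1 h)) hgV
    · exact h
  -- an element of order four
  obtain ⟨u, huT, huV, hu⟩ : ∃ u ∈ T, u ∉ V ∧ u * u = t := by
    have key : ∀ g ∈ T, g ∉ V → g * g = 1 ∨ g * g = t := by
      intro g hg hgV
      have h := Subgroup.mul_self_mem_of_index_two hidx ⟨g, hg⟩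
      rw [mem_subgroupOf] at h
      have hc := hconj g hg hgV
      have hcc : g * (g * g) * g⁻¹ = g * g := by group
      rcases (hV (g * g)).1 h with h | h | h | h
      · exact Or.inl h
      · exact Or.inr h
      · rw [h] at hcc
        exact absurd (mul_eq_right.1 (hc.symm.trans hcc)) ht1
      · rw [h] at hcc
        have : g * (t * y) * g⁻¹ = y := by
          calc g * (t * y) * g⁻¹ = (g * t) * g⁻¹ * (g * y * g⁻¹) := by group
            _ = (t * g) * g⁻¹ * (t * y) := by rw [hTt g hg, hc]
            _ = (t * t) * y := by group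
            _ = y := by rw [ht2, one_mul]
        exact absurd (mul_eq_right.1 (hcc.symm.trans this)) ht1
    rcases key g hg hgV with h | h
    · refine ⟨y * g, mul_mem hyT hg, fun hc => hgV ((V.mul_mem_cancel_left hyV).1 hc), ?_⟩
      calc y * g * (y * g) = y * (g * y * g⁻¹) * (g * g) := by group
        _ = y * (t * y) := by rw [h, hconj g hg hgV, mul_one]
        _ = (y * t) * y := by rw [mul_assoc]
        _ = (t * y) * y := by rw [hTt y hyT]
        _ = t := by rw [mul_assoc, hy2, mul_one]
    · exact ⟨g, hg, hgV, h⟩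
  set U : T := ⟨u, huT⟩ with hU
  set Y : T := ⟨y, hyT⟩ with hY
  have huo : orderOf U = 4 := by
    rw [← Subgroup.orderOf_coe]
    refine orderOf_eq_prime_pow (p := 2) (n := 1) (hp := ⟨Nat.prime_two⟩) ?_ ?_
    · rw [pow_one, sq, hu]; exact ht1
    · rw [show 2 ^ (1 + 1) = 2 + 2 from rfl, pow_add, sq, hu, ht2]
  have hYU : Y * U * Y⁻¹ = U⁻¹ := by
    refine Subtype.ext ?_
    show y * u * y⁻¹ = u⁻¹
    have h := hconj u huT huV
    rw [inv_eq_of_mul_eq_one_right hy2]
    refine eq_inv_of_mul_eq_one_left ?_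
    calc y * u * y * u = y * (u * y * u⁻¹) * (u * u) := by group
      _ = y * (t * y) * t := by rw [h, hu]
      _ = y * (y * t) * t := by rw [hTt y hyT]
      _ = (y * y) * (t * t) := by group
      _ = 1 := by rw [hy2, ht2, one_mul]
  have hYn : Y ∉ zpowers U := by
    intro h
    obtain ⟨k, hk⟩ := h
    simp only [] at hk
    have hc : U * Y = Y * U := by rw [← hk]; exact (Commute.self_zpow U k).eq
    exact huV (hTC u huT (congrArg Subtype.val hc))
  have hci : (zpowers U).index = 2 := by
    have h := (zpowers U).card_mul_index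
    rw [Nat.card_zpowers, huo, hT] at h
    omega
  have hY2 : Y * Y = 1 := Subtype.ext hy2
  refine (PSL2.nonempty_mulEquiv_dihedral (zpowers U) hci fun w hw => ?_).map fun e => ?_
  · have hm : Y * w ∈ zpowers U := (mul_mem_iff_of_index_two hci).2 (iff_of_false hYn hw)
    obtain ⟨k, hk⟩ := hm
    simp only [] at hk
    have hYi : Y⁻¹ = Y := inv_eq_of_mul_eq_one_right hY2
    have hw' : w = Y * U ^ k := by rw [hk, ← mul_assoc, hY2, one_mul]
    have hcon : Y * U ^ k * Y = (U ^ k)⁻¹ := by
      conv_lhs => rw [← hYi]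
      calc Y⁻¹ * U ^ k * Y⁻¹ = Y * U ^ k * Y⁻¹ := by rw [hYi]
        _ = (Y * U * Y⁻¹) ^ k := (conj_zpow).symm
        _ = (U ^ k)⁻¹ := by rw [hYU, inv_zpow]
    rw [hw', ← mul_assoc, hcon, inv_mul_cancel]
  · rwa [Nat.card_zpowers, huo] at e

/-- four groups of `PSL₂(q)`, `q` odd, are self-centralising -/
theorem psl_centralizer_four {F : Type*} [Field F] [Fintype F] (hodd : Odd (Fintype.card F))
    {W : Subgroup (Matrix.ProjectiveSpecialLinearGroup (Fin 2) F)} (hW : IsKleinFour W)
    {g : Matrix.ProjectiveSpecialLinearGroup (Fin 2) F} (hg : ∀ w ∈ W, g * w = w * g) : g ∈ W := by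
  let ι := Matrix.ProjectiveSpecialLinearGroup.toPGL (n := Fin 2) (R := F)
  have h2 := PSL2.two_ne_zero_of_odd hodd
  obtain ⟨I, J, h, hV⟩ := PSL2.exists_qpair_of_klein h2 (PSL2.map_toPGL_le W)
    (PSL2.isKleinFour_map ι Matrix.ProjectiveSpecialLinearGroup.toPGL_injective hW)
  have hcomm : ∀ x ∈ h.kleinV h2, ι g * x = x * ι g := by
    intro x hx
    rw [← hV] at hx
    obtain ⟨w, hw, rfl⟩ := hx
    rw [← map_mul, ← map_mul, hg w hw]
  have hm : ι g ∈ h.kleinV h2 :=
    h.mem_kleinV_of_commute h2 (hcomm _ (Or.inr (Or.inl rfl))) (hcomm _ (Or.inr (Or.inr (Or.inl rfl))))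
  rw [← hV] at hm
  obtain ⟨w, hw, hwg⟩ := hm
  rwa [← Matrix.ProjectiveSpecialLinearGroup.toPGL_injective hwg]

theorem isKleinFour_of_four {W : Subgroup G} (h4 : Nat.card W = 4) (hsq : ∀ w ∈ W, w * w = 1) :
    IsKleinFour W where
  card_four := h4
  exponent_two := by
    refine ((Nat.dvd_prime Nat.prime_two).1 (Monoid.exponent_dvd_of_forall_pow_eq_one fun g =>
      Subtype.ext (by rw [sq]; exact hsq g g.2))).resolve_left fun e => ?_
    have : Subsingleton W := Monoid.exp_eq_one_iff.1 e
    rw [Nat.card_of_subsingleton (1 : W)] at h4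
    omega

end General

namespace Hyp

variable {G : Type u} [Group G] {Ω : Type v} [MulAction G Ω]
variable (H : Hyp G Ω)
include H

/-- the least normal subgroup over a two-point stabiliser is perfect -/
theorem exists_perfect_over [Finite G] {a b : Ω} (hab : a ≠ b) :
    ∃ X : Subgroup G, X.Normal ∧ pairStab a b ≤ X ∧ Group.IsPerfect X := by
  obtain ⟨e⟩ := H.iso a b hab
  have : IsSimpleGroup (pairStab (G := G) a b : Subgroup G) := Five.isSimple e
  have hD : ⁅(pairStab (G := G) a b), pairStab (G := G) a b⁆ = pairStab (G := G) a b := by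
    rw [← map_subtype_commutator]
    rcases (show (commutator (pairStab a b : Subgroup G)).Normal from inferInstance).eq_bot_or_eq_top
      with h | h
    · exfalso
      obtain ⟨t, ht, ht2, ht1⟩ := H.exists_invol hab
      obtain ⟨g, hg, -, -, hgt, -⟩ := Five.three_four e ht ht2 ht1
      refine hgt ?_
      have hc := commutator_mem_commutator (mem_top (⟨g, hg⟩ : (pairStab a b : Subgroup G)))
        (mem_top (⟨t, ht⟩ : (pairStab a b : Subgroup G)))
      rw [← _root_.commutator_def, h, mem_bot, commutatorElement_eq_one_iff_mul_comm] at hc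
      have hc' : g * t = t * g := congrArg Subtype.val hc
      rw [hc', mul_inv_cancel_right]
    · rw [h, ← MonoidHom.range_eq_map, range_subtype]
  obtain ⟨X, ⟨hXn, hDX⟩, hmin⟩ := Set.Finite.exists_minimal
    (Set.toFinite {N : Subgroup G | N.Normal ∧ pairStab a b ≤ N}) ⟨⊤, inferInstance, le_top⟩
  refine ⟨X, hXn, hDX, isPerfect_iff.2 (le_antisymm (commutator_le_self X) (hmin ⟨?_, ?_⟩ ?_))⟩
  · haveI := hXn
    infer_instance
  · rw [← hD]; exact commutator_mono hDX hDX
  · exact commutator_le_self X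

/-- a normal subgroup over a two-point stabiliser has order divisible by `60 * n` -/
theorem dvd_card_normal [Finite G] [Finite Ω] [FaithfulSMul G Ω] {a b : Ω} (hab : a ≠ b) {X : Subgroup G}
    (hXn : X.Normal) (hDX : pairStab a b ≤ X) : 60 * Nat.card Ω ∣ Nat.card X := by
  have hX1 : X ≠ ⊥ := by
    intro h
    obtain ⟨t, ht, -, ht1⟩ := H.exists_invol hab
    exact ht1 (by simpa [h] using hDX ht)
  have hsur : MulAction.orbit X a = Set.univ := by
    rw [Set.eq_univ_iff_forall]
    intro w
    obtain ⟨n, hn, hnw⟩ := H.normal_trans hXn hX1 a w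
    exact ⟨⟨n, hn⟩, hnw⟩
  have hle : (pairStab a b : Subgroup G).subgroupOf X ≤ MulAction.stabilizer X a := fun x hx =>
    (mem_pairStab.1 (mem_subgroupOf.1 hx)).1
  have hd := Subgroup.card_dvd_of_le hle
  rw [Nat.card_congr (subgroupOfEquivOfLe hDX).toEquiv, H.card_pairStab hab] at hd
  rw [(MulAction.stabilizer X a).card_eq_card_quotient_mul_card_subgroup,
    ← Nat.card_congr (MulAction.orbitEquivQuotientStabilizer X a), hsur, Nat.card_univ, mul_comm 60]
  exact Nat.mul_dvd_mul_left _ hd

/-- nothing nontrivial centralises a normal subgroup over a two-point stabiliser -/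
theorem centralizer_normal_eq_bot [Finite G] [FaithfulSMul G Ω] {a b : Ω} (hab : a ≠ b) {X : Subgroup G}
    (hXn : X.Normal) (hDX : pairStab a b ≤ X) : centralizer (X : Set G) = ⊥ := by
  by_contra hC
  haveI := hXn
  obtain ⟨t, ht, -, ht1⟩ := H.exists_invol hab
  refine ht1 (eq_of_smul_eq_smul (α := Ω) fun y => ?_)
  obtain ⟨m, hm, rfl⟩ := H.normal_trans (inferInstance : (centralizer (X : Set G)).Normal) hC a y
  rw [one_smul, ← mul_smul, hm t (hDX ht), mul_smul, (mem_pairStab.1 ht).1]

/-- odd degree, no further 2-element centralising a four group, `h = f`: seven points -/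
theorem eq_seven_of_noExtra [Finite G] [Finite Ω] [FaithfulSMul G Ω]
    (hodd : Odd (Nat.card Ω)) (hB : NoExtra Ω G) (hhf : H.hNum = H.fNum) : Nat.card Ω = 7 := by
  classical
  haveI : Fact (Nat.Prime 2) := ⟨Nat.prime_two⟩
  -- at least five points
  have hn5 : 5 ≤ Nat.card Ω ∧ Nat.card Ω % 2 = 1 := by
    have h1 := H.two_le_hNum
    have h2 := H.fNum_lt
    have h3 := H.card_mod_two
    rw [Nat.odd_iff] at hodd
    omega
  set n := Nat.card Ω with hn
  obtain ⟨a, b, hab⟩ := H.exists_pair
  obtain ⟨e⟩ := H.iso a b hab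
  obtain ⟨t, ht, ht2, ht1⟩ := H.exists_invol hab
  set V := Five.four (pairStab a b) t with hVdef
  have hV : IsFour Ω V := H.isFour_four hab ht ht2 ht1
  have hV4 : Nat.card V = 4 := H.card_isFour hV
  have hVsq : ∀ v ∈ V, v * v = 1 := fun v hv => Five.sq_of_mem_four e ht ht2 ht1 hv
  -- elements of `V` and their centralisers
  have hnorm : ∀ z ∈ V, z ≠ 1 → centralizer ({z} : Set G) ≤ normalizer (V : Set G) := by
    intro z hz hz1
    have h1 := H.card_cent (H.isT_of_mem_four hV hz hz1)
    have h2 := H.card_cent_norm hV hz hz1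
    rw [hhf] at h2
    exact (Subgroup.eq_of_le_of_card_ge inf_le_left (h1.trans h2.symm).le).symm.le.trans inf_le_right
  have helems : ∀ z ∈ V, z ≠ 1 → ∃ y, y * y = 1 ∧ y ≠ 1 ∧ y ≠ z ∧
      ∀ g, g ∈ V ↔ g = 1 ∨ g = z ∨ g = y ∨ g = z * y := by
    intro z hz hz1
    have hzD : z ∈ pairStab a b := hz.1
    obtain ⟨y, -, hy2, hy1, hyz, -, hiff⟩ := Five.four_elems e hzD (hVsq z hz) hz1
    refine ⟨y, hy2, hy1, hyz, fun g => ?_⟩
    rw [hVdef, ← Five.four_eq_of_mem e ht ht2 ht1 hz hz1]
    exact hiff g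
  have hVc : ∀ p ∈ V, ∀ q ∈ V, p * q = q * p := fun p hp q hq => by
    calc p * q = (p * q)⁻¹ := (inv_eq_of_mul_eq_one_left (hVsq _ (mul_mem hp hq))).symm
      _ = q⁻¹ * p⁻¹ := mul_inv_rev p q
      _ = q * p := by
        rw [inv_eq_of_mul_eq_one_left (hVsq p hp), inv_eq_of_mul_eq_one_left (hVsq q hq)]
  -- 2-elements centralising `V`
  have hcent : ∀ k : ℕ, ∀ g ∈ centralizer (V : Set G), g ^ 2 ^ k = 1 → g ∈ V := by
    intro k
    induction k with
    | zero => intro g _ hg; rw [pow_zero, pow_one] at hg; exact hg ▸ one_mem V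
    | succ k ih =>
      intro g hg hgk
      refine hB V hV g hg (ih (g * g) (mul_mem hg hg) ?_)
      rw [← sq, ← pow_mul, ← pow_succ', hgk]
  -- Sylow 2-subgroups containing `V` are dihedral of order eight
  have h8G : 8 ∣ Nat.card G := by
    rw [H.card_G, show (8 : ℕ) = 2 * 4 from rfl]
    exact Nat.mul_dvd_mul (dvd_mul_of_dvd_right (by omega) n) (by norm_num)
  have hsyl : ∀ T : Sylow 2 G, V ≤ (T : Subgroup G) → Nonempty ((T : Subgroup G) ≃* DihedralGroup 4) := by
    intro T hVT
    haveI : Nontrivial (T : Subgroup G) := by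
      rw [Subgroup.nontrivial_iff_ne_bot]
      intro h
      have := Subgroup.card_le_of_le hVT
      rw [h, Subgroup.card_bot, hV4] at this
      omega
    haveI := T.2.center_nontrivial
    obtain ⟨m, hm⟩ := IsPGroup.iff_card.1 (T.2.to_subgroup (center (T : Subgroup G)))
    obtain ⟨⟨⟨z, hzT⟩, hzc⟩, hzo⟩ := exists_prime_orderOf_dvd_card' (G := center (T : Subgroup G)) 2 (by
      have hc := Finite.one_lt_card (α := center (T : Subgroup G))
      rw [hm] at hc ⊢
      exact dvd_pow_self 2 (by rintro rfl; simp at hc))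
    rw [← Subgroup.orderOf_coe, ← Subgroup.orderOf_coe] at hzo
    have hz1 : z ≠ 1 := fun h => by
      rw [show ((⟨⟨z, hzT⟩, hzc⟩ : center (T : Subgroup G)) : (T : Subgroup G)).1 = 1 from h, orderOf_one] at hzo
      omega
    have hz2 : z * z = 1 := by rw [← sq, ← hzo]; exact pow_orderOf_eq_one z
    have hTz : ∀ g ∈ (T : Subgroup G), g * z = z * g := fun g hg =>
      congrArg Subtype.val (mem_center_iff.1 hzc ⟨g, hg⟩)
    have hzV : z ∈ V := hB V hV z (fun v hv => hTz v (hVT hv)) (by rw [hz2]; exact one_mem V)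
    obtain ⟨y, hy2, hy1, hyz, hiff⟩ := helems z hzV hz1
    have hyV : y ∈ V := (hiff y).2 (by simp)
    have hTC : ∀ g ∈ (T : Subgroup G), g * y = y * g → g ∈ V := by
      intro g hg hgy
      obtain ⟨k, hk⟩ := T.2 ⟨g, hg⟩
      refine hcent k g (fun v hv => ?_) (congrArg Subtype.val hk)
      rcases (hiff v).1 hv with rfl | rfl | rfl | rfl
      · simp
      · exact (hTz g hg).symm
      · exact hgy.symm
      · calc z * y * g = z * (g * y) := by rw [mul_assoc, hgy]
          _ = g * z * y := by rw [← mul_assoc, hTz g hg]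
          _ = g * (z * y) := mul_assoc _ _ _
    have hle : Nat.card (T : Subgroup G) ≤ 8 := card_le_eight hiff hy1 hyz hV4 hTz (fun g hg =>
      ((mem_normalizer_iff.1 (hnorm z hzV hz1 (mem_centralizer_singleton_iff.2 (hTz g hg)))) y).1 hyV) hTC
    have h8 : 8 ∣ Nat.card (T : Subgroup G) :=
      T.pow_dvd_card_of_pow_dvd_card (n := 3) (by simpa using h8G)
    exact dihedral_eight (le_antisymm hle (Nat.le_of_dvd Nat.card_pos h8)) hVT hiff hy2 hy1 hz2 hz1
      hyz hV4 hTz hTC
  -- the perfect normal subgroup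
  obtain ⟨X, hXn, hDX, hXp⟩ := H.exists_perfect_over hab
  haveI := hXn
  haveI := hXp
  have hVX : V ≤ X := inf_le_left.trans hDX
  have hO : Cfsg.oddCore X = ⊥ := by
    have h := CfsgLib.PCore.map_pPrimeCore_subtype_of_normal (p := 2) X
    have h' : (Cfsg.pPrimeCore 2 X).map X.subtype ≤ Cfsg.oddCore G := by
      rw [h]; exact inf_le_right
    rw [H.oddCore_eq_bot, le_bot_iff, map_eq_bot_iff_of_injective _ X.subtype_injective] at h'
    exact h'
  have hVXk : IsKleinFour (V.subgroupOf X) :=
    isKleinFour_of_four (by rw [Nat.card_congr (subgroupOfEquivOfLe hVX).toEquiv, hV4])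
      fun w hw => Subtype.ext (hVsq _ (mem_subgroupOf.1 hw))
  -- its Sylow 2-subgroups are dihedral
  have hR : ∃ (R : Sylow 2 X) (m : ℕ), 2 ≤ m ∧ Nonempty ((R : Subgroup X) ≃* DihedralGroup m) := by
    obtain ⟨R, hRle⟩ := (IsPGroup.of_card (n := 2) (by rw [hVXk.card_four]; rfl) :
      IsPGroup 2 (V.subgroupOf X)).exists_le_sylow
    obtain ⟨T, hT⟩ := (R.2.map X.subtype).exists_le_sylow
    obtain ⟨f⟩ := hsyl T fun v hv =>
      hT ⟨⟨v, hVX hv⟩, hRle (mem_subgroupOf.2 hv), rfl⟩
    let ψ : (R : Subgroup X) →* DihedralGroup 4 := f.toMonoidHom.comp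
      ((X.subtype.comp (R : Subgroup X).subtype).codRestrict (T : Subgroup G)
        fun r => hT ⟨r.1, r.2, rfl⟩)
    have hψ : Function.Injective ψ := fun p q hpq => by
      have h1 := congrArg Subtype.val (f.injective hpq)
      exact Subtype.ext (Subtype.ext h1)
    obtain ⟨m, hm, ⟨g⟩⟩ := GWCons.DihedralModel.nonempty_dihedral
      (T.2.of_equiv f) (by norm_num) (R := ψ.range) (fun hc => by
        haveI := hc
        haveI : IsCyclic (R : Subgroup X) :=
          isCyclic_of_injective (MonoidHom.ofInjective hψ).toMonoidHom (MonoidHom.ofInjective hψ).injective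
        haveI : IsCyclic (V.subgroupOf X) :=
          isCyclic_of_injective (inclusion hRle) (inclusion_injective hRle)
        exact hVXk.not_isCyclic inferInstance)
    exact ⟨R, m, hm, ⟨(MonoidHom.ofInjective hψ).trans g⟩⟩
  obtain ⟨R, m, hm, hRm⟩ := hR
  have hdvd := H.dvd_card_normal hab hXn hDX
  rw [← hn] at hdvd
  let bot : X ⧸ Cfsg.oddCore X ≃* X :=
    (QuotientGroup.quotientMulEquivOfEq hO).trans QuotientGroup.quotientBot
  rcases GW.Done.classification X R m hm hRm with ⟨F, _, _, hFodd, hF3, ⟨φ'⟩⟩ | ⟨φ'⟩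
  · -- `PSL₂(q)`
    exfalso
    let φ := bot.symm.trans φ'
    obtain ⟨y, hy2, hy1, hyt, hiff⟩ := helems t ⟨ht, mem_centralizer_singleton_iff.2 rfl⟩ ht1
    have hyV : y ∈ V := (hiff y).2 (by simp)
    have htV : t ∈ V := (hiff t).2 (by simp)
    have hle : Nat.card (X ⊓ centralizer ({t} : Set G) : Subgroup G) ≤ 8 := by
      refine card_le_eight hiff hy1 hyt hV4 (fun g hg => mem_centralizer_singleton_iff.1 hg.2)
        (fun g hg => ((mem_normalizer_iff.1 (hnorm t htV ht1 hg.2)) y).1 hyV) fun g hg hgy => ?_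
      have hW : IsKleinFour ((V.subgroupOf X).map φ.toMonoidHom) :=
        PSL2.isKleinFour_map _ φ.injective hVXk
      obtain ⟨w, hw, hwg⟩ := psl_centralizer_four hFodd hW (g := φ ⟨g, hg.1⟩) (by
        rintro _ ⟨⟨w, hwX⟩, hw, rfl⟩
        refine ((map_mul φ _ _).symm.trans ?_).trans (map_mul φ _ _)
        refine congrArg φ (Subtype.ext ?_)
        show g * w = w * g
        have hgt : g * t = t * g := mem_centralizer_singleton_iff.1 hg.2
        rcases (hiff w).1 (mem_subgroupOf.1 hw) with h | h | h | h <;> rw [h]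
        · simp
        · exact hgt
        · exact hgy
        · rw [← mul_assoc, hgt, mul_assoc, hgy, ← mul_assoc])
      have := φ.injective hwg
      rw [this] at hw
      exact mem_subgroupOf.1 hw
    have hto : orderOf (φ ⟨t, hVX htV⟩) = 2 := by
      rw [φ.orderOf_eq, Subgroup.orderOf_mk]
      exact orderOf_eq_prime (by rw [sq]; exact ht2) ht1
    have hC := PSL2.card_centralizer_involution hFodd hto
    have hC' : Nat.card (centralizer ({φ ⟨t, hVX htV⟩} : Set (Matrix.ProjectiveSpecialLinearGroup (Fin 2) F))) =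
        Nat.card (X ⊓ centralizer ({t} : Set G) : Subgroup G) := by
      refine Nat.card_congr
        { toFun := fun x => ⟨(φ.symm x.1 : X), (φ.symm x.1).2, mem_centralizer_singleton_iff.2 ?_⟩
          invFun := fun g => ⟨φ ⟨g.1, g.2.1⟩, mem_centralizer_singleton_iff.2 ?_⟩
          left_inv := fun x => Subtype.ext (by simp)
          right_inv := fun g => Subtype.ext (by simp) }
      · have h := congrArg φ.symm (mem_centralizer_singleton_iff.1 x.2)
        rw [map_mul, map_mul, MulEquiv.symm_apply_apply] at h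
        exact congrArg Subtype.val h
      · rw [← map_mul, ← map_mul]
        exact congrArg φ (Subtype.ext (mem_centralizer_singleton_iff.1 g.2.2))
    rw [hC'] at hC
    have hcard := PSL2.card_psl (F := F)
    rw [← Nat.card_congr φ.toEquiv] at hcard
    have hqo := Nat.odd_iff.1 hFodd
    have hq : Fintype.card F = 5 ∨ Fintype.card F = 7 ∨ Fintype.card F = 9 := by
      split_ifs at hC <;> omega
    obtain ⟨hn5, hn2⟩ := hn5
    rcases hq with h | h | h <;> rw [h] at hcard <;> norm_num at hcard
    · have hX : Nat.card X = 60 := by omega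
      rw [hX] at hdvd
      have := Nat.le_of_dvd (by norm_num) hdvd
      omega
    · have hX : Nat.card X = 168 := by omega
      rw [hX] at hdvd
      have := (dvd_mul_right 60 n).trans hdvd
      omega
    · have hX : Nat.card X = 360 := by omega
      rw [hX] at hdvd
      have := Nat.le_of_dvd (by norm_num) hdvd
      have : n = 5 := by omega
      rw [this] at hdvd
      norm_num at hdvd
  · -- `A₇`
    obtain ⟨φ'⟩ := φ'
    let φ := bot.symm.trans φ'
    let c : G →* MulAut (alternatingGroup (Fin 7)) :=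
      (MulAut.congr φ).toMonoidHom.comp MulAut.conjNormal
    have hc : Function.Injective c := by
      rw [injective_iff_map_eq_one]
      intro g hg
      have hg' : (MulAut.conjNormal g : MulAut X) = 1 := by
        apply (MulAut.congr φ).injective
        rw [map_one]
        exact hg
      have : g ∈ centralizer (X : Set G) := by
        intro x hx
        have h1 := congrArg Subtype.val (DFunLike.congr_fun hg' (⟨x, hx⟩ : X))
        rw [MulAut.conjNormal_apply] at h1
        exact (mul_inv_eq_iff_eq_mul.1 h1).symm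
      rwa [H.centralizer_normal_eq_bot hab hXn hDX, mem_bot] at this
    have hle := Nat.card_le_card_of_injective c hc
    rw [DimThreeMax.card_mulAut_alt_seven, H.card_G, ← hn] at hle
    rw [Nat.card_congr φ.toEquiv, DimThreeMax.card_alt_seven] at hdvd
    obtain ⟨hn5, hn2⟩ := hn5
    have hn10 : n < 10 := by
      by_contra hge
      push Not at hge
      have h90 : 10 * 9 ≤ n * (n - 1) := Nat.mul_le_mul hge (by omega)
      omega
    interval_cases n <;> omega

end Hyp

end CfsgLib.TwoTransAFive
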