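import Mathlib.Tactic.Ring
import Mathlib.Tactic.LinearCombination
import Mathlib.Tactic.Linarith
import Mathlib.Tactic.NormNum
import Mathlib.RingTheory.Int.Basic
import Mathlib.Data.Nat.Sqrt

/-!
The 2-adic arithmetic of the even degree case of `S3262` (two-point stabiliser `A₅`).

`h = 2^l` is the number of points fixed by a four group, `f = 1 + r(h-1)` the number of points fixed
by an involution, `y` a signed divisor of `r` and `P = (4r - y)(2r - y)`; the degree `n` satisfies
`15(n - 1) = (f - 1)P`. The only solution with `f < n` is `h = 2`, `r = 3`, `f = 4`, `n = 12`.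
-/

set_option autoImplicit false

namespace CfsgLib.TwoTransAFive.Arith

/-- A power of two dividing a product of two integers differing by eight. -/
theorem pow_two_dvd_split {a b : ℤ} {l : ℕ} (hab : b = a + 8) (h : (2 : ℤ) ^ l ∣ a * b) :
    (2 : ℤ) ^ l ∣ 8 * a ∨ (2 : ℤ) ^ l ∣ 8 * b := by
  have hp : Prime (2 : ℤ) := Int.prime_two
  by_cases h16 : (16 : ℤ) ∣ a
  · have hb : ¬ (16 : ℤ) ∣ b := by
      rintro ⟨c, hc⟩
      obtain ⟨d, hd⟩ := h16
      omega
    refine Or.inl ?_
    obtain ⟨u, w, hu, hw, hd⟩ : ∃ u w : ℤ, b = u * w ∧ u ∣ 8 ∧ ¬ (2 : ℤ) ∣ w := by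
      rcases Int.emod_two_eq_zero_or_one b with e | e
      · rcases Int.emod_two_eq_zero_or_one (b / 2) with e' | e'
        · rcases Int.emod_two_eq_zero_or_one (b / 4) with e'' | e''
          · exact ⟨8, b / 8, by omega, dvd_refl _, by omega⟩
          · exact ⟨4, b / 4, by omega, by norm_num, by omega⟩
        · exact ⟨2, b / 2, by omega, by norm_num, by omega⟩
      · exact ⟨1, b, by omega, one_dvd _, by omega⟩
    rw [hu, ← mul_assoc] at h
    have h' : (2 : ℤ) ^ l ∣ a * u := hp.pow_dvd_of_dvd_mul_right l hd h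
    exact h'.trans (by rw [mul_comm (8 : ℤ)]; exact mul_dvd_mul_left a hw)
  · refine Or.inr ?_
    obtain ⟨u, w, hu, hw, hd⟩ : ∃ u w : ℤ, a = u * w ∧ u ∣ 8 ∧ ¬ (2 : ℤ) ∣ w := by
      rcases Int.emod_two_eq_zero_or_one a with e | e
      · rcases Int.emod_two_eq_zero_or_one (a / 2) with e' | e'
        · rcases Int.emod_two_eq_zero_or_one (a / 4) with e'' | e''
          · exact ⟨8, a / 8, by omega, dvd_refl _, by omega⟩
          · exact ⟨4, a / 4, by omega, by norm_num, by omega⟩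
        · exact ⟨2, a / 2, by omega, by norm_num, by omega⟩
      · exact ⟨1, a, by omega, one_dvd _, by omega⟩
    rw [hu, mul_assoc, mul_comm w b, ← mul_assoc] at h
    have h' : (2 : ℤ) ^ l ∣ u * b := hp.pow_dvd_of_dvd_mul_right l hd h
    exact h'.trans (mul_dvd_mul_right hw b)

/-- The conditions tested in the finite part of the search. -/
def good (h r y : ℤ) : Bool :=
  let f := 1 + r * (h - 1)
  let P := (4 * r - y) * (2 * r - y)
  !(decide (0 < y) && decide (r < 3 * y)) && decide (P ≤ 16 * f + 15) &&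
    decide (((f - 1) * P) % 15 = 0) && decide (((15 - P) * P) % f = 0)

/-- All divisor pairs `(d, r / d)` with `d ≤ 65`, both signs. -/
def search : Bool :=
  (List.range 12).all fun l => [1, 2].all fun j =>
    (List.range 66).all fun d =>
      let h : ℤ := 2 ^ l
      let r : ℕ := j * 2 ^ l + 1
      if l = 0 ∨ d = 0 ∨ r % d ≠ 0 ∨ r < d then true else
        [(d : ℤ), -(d : ℤ), ((r / d : ℕ) : ℤ), -((r / d : ℕ) : ℤ)].all fun y =>
          !(good h r y) || (decide (l = 1) && decide (j = 1) && decide (y = 1))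

theorem search_true : search = true := by decide +kernel

/-- The finite part. -/
theorem small {h r y : ℤ} {l j : ℕ} (hh : h = 2 ^ l) (hl : 1 ≤ l) (hl' : l < 12)
    (hj : j = 1 ∨ j = 2) (hr : r = j * h + 1) (hy : y ∣ r) (hpos : 0 < y → 3 * y ≤ r)
    (hbd : (4 * r - y) * (2 * r - y) ≤ 16 * (1 + r * (h - 1)) + 15)
    (h15 : (15 : ℤ) ∣ (1 + r * (h - 1) - 1) * ((4 * r - y) * (2 * r - y)))
    (hdiv : 1 + r * (h - 1) ∣ (15 - (4 * r - y) * (2 * r - y)) * ((4 * r - y) * (2 * r - y))) :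
    l = 1 ∧ j = 1 ∧ y = 1 := by
  have hgood : good h r y = true := by
    simp only [good, Bool.and_eq_true, Bool.not_eq_true', decide_eq_true_eq, Bool.and_eq_false_iff,
      decide_eq_false_iff_not]
    refine ⟨⟨⟨?_, hbd⟩, Int.emod_eq_zero_of_dvd h15⟩, Int.emod_eq_zero_of_dvd hdiv⟩
    by_cases h0 : 0 < y
    · exact Or.inr (by have := hpos h0; omega)
    · exact Or.inl h0
  set rn : ℕ := j * 2 ^ l + 1 with hrn
  have hr' : r = (rn : ℤ) := by rw [hr, hh, hrn]; push_cast; ring
  have hy' : y.natAbs ∣ rn := by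
    have := Int.natAbs_dvd_natAbs.2 hy
    rwa [hr', Int.natAbs_natCast] at this
  have hpow : 2 ^ l ≤ 2 ^ 11 := Nat.pow_le_pow_right (by norm_num) (by omega)
  have hrb : rn < 66 * 66 := by
    rcases hj with rfl | rfl <;> · rw [hrn]; norm_num at hpow ⊢; omega
  obtain ⟨c, hc⟩ := hy'
  have hy0 : 0 < y.natAbs := Nat.pos_of_ne_zero fun e => by rw [e, zero_mul] at hc; omega
  have hc0 : 0 < c := Nat.pos_of_ne_zero fun e => by rw [e, mul_zero] at hc; omega
  -- the smaller member of the pair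
  obtain ⟨d, hd66, hd0, hdr, hmem⟩ : ∃ d : ℕ, d < 66 ∧ 0 < d ∧ d ∣ rn ∧
      (y.natAbs = d ∨ y.natAbs = rn / d) := by
    by_cases hsm : y.natAbs ≤ c
    · refine ⟨y.natAbs, ?_, hy0, ⟨c, hc⟩, Or.inl rfl⟩
      by_contra hge
      push Not at hge
      have : 66 * 66 ≤ y.natAbs * c := Nat.mul_le_mul hge (hge.trans hsm)
      omega
    · push Not at hsm
      refine ⟨c, ?_, hc0, Dvd.intro_left _ hc.symm, Or.inr ?_⟩
      · by_contra hge
        push Not at hge
        have : 66 * 66 ≤ y.natAbs * c := Nat.mul_le_mul (hge.trans hsm.le) hge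
        omega
      · rw [hc, Nat.mul_div_cancel _ hc0]
  have hs := search_true
  simp only [search, List.all_eq_true, List.mem_range] at hs
  have hs := hs l hl' j (by rcases hj with rfl | rfl <;> simp) d hd66
  have hnot : ¬ (l = 0 ∨ d = 0 ∨ rn % d ≠ 0 ∨ rn < d) := by
    have h1 : rn % d = 0 := Nat.mod_eq_zero_of_dvd hdr
    have h2 : d ≤ rn := Nat.le_of_dvd (by omega) hdr
    omega
  rw [if_neg hnot] at hs
  simp only [List.all_eq_true] at hs
  have hymem : y ∈ [(d : ℤ), -(d : ℤ), ((rn / d : ℕ) : ℤ), -((rn / d : ℕ) : ℤ)] := by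
    simp only [List.mem_cons, List.not_mem_nil, or_false]
    rcases Int.natAbs_eq y with e | e <;> rcases hmem with e' | e' <;> rw [e'] at e <;> simp [e]
  have := hs y hymem
  rw [← hh, ← hr', hgood] at this
  simpa [decide_eq_true_eq, and_assoc] using this

/-- The arithmetic lemma. -/
theorem unique {h r y f n : ℤ} {l : ℕ} (hh : h = 2 ^ l) (hl : 1 ≤ l) (hr1 : 1 ≤ r) (hr : h ∣ r - 1)
    (hy : y ∣ r) (hpos : 0 < y → 3 * y ≤ r) (hf : f = 1 + r * (h - 1))
    (hn : 15 * (n - 1) = (f - 1) * ((4 * r - y) * (2 * r - y)))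
    (hbd : (4 * r - y) * (2 * r - y) ≤ 16 * f + 15)
    (hdiv : f ∣ n * ((4 * r - y) * (2 * r - y))) (hnf : f < n) :
    f = 4 ∧ n = 12 := by
  have h2 : 2 ≤ h := by
    rw [hh]; exact le_self_pow₀ (by norm_num) (by omega)
  have hy0 : y ≠ 0 := fun e => by rw [e, zero_dvd_iff] at hy; omega
  have hylow : -r ≤ y := by
    have := Int.le_of_dvd (by omega) ((Int.natAbs_dvd).2 hy)
    omega
  obtain ⟨j, hj⟩ := hr
  have hj0 : 0 ≤ j := by nlinarith
  have hj2 : j ≤ 2 := by
    by_contra hcon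
    push Not at hcon
    have hr3 : 3 * h + 1 ≤ r := by nlinarith
    by_cases hy1 : 0 < y
    · have := hpos hy1
      nlinarith [mul_nonneg (by linarith : (0 : ℤ) ≤ r - 3 * y) (by linarith : (0:ℤ) ≤ r)]
    · push Not at hy1
      nlinarith
  set P := (4 * r - y) * (2 * r - y) with hP
  have hkey : 15 * (n * P) = (15 + (f - 1) * P) * P := by rw [← hn]; ring
  have hdiv' : f ∣ (15 - P) * P := by
    obtain ⟨t, ht⟩ := hdiv
    exact ⟨15 * t - P * P, by linear_combination -1 * hkey + 15 * ht⟩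
  rcases (by omega : j = 0 ∨ j = 1 ∨ j = 2) with rfl | hj12
  · -- `r = 1`
    have hr1' : r = 1 := by linarith
    have hy1 : y = -1 := by
      by_cases hy1 : 0 < y
      · have := hpos hy1; omega
      · omega
    rw [hr1', hy1] at hP
    norm_num at hP
    rw [hP] at hn
    omega
  obtain ⟨jn, rfl⟩ : ∃ jn : ℕ, (jn : ℤ) = j := ⟨j.toNat, Int.toNat_of_nonneg hj0⟩
  have hjn : jn = 1 ∨ jn = 2 := by omega
  have hrj : r = jn * h + 1 := by linarith
  by_cases hl12 : l < 12
  · obtain ⟨rfl, rfl, rfl⟩ := small hh hl hl12 hjn hrj hy hpos (by rw [← hf]; exact hbd)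
      (by rw [← hf]; exact ⟨_, hn.symm⟩) (by rw [← hf]; exact hdiv')
    have hr3 : r = 3 := by rw [hrj, hh]; norm_num
    rw [hr3, hh] at hf
    norm_num at hf
    refine ⟨hf, ?_⟩
    rw [hP, hr3, hf] at hn
    omega
  -- no solution for large `h`
  exfalso
  push Not at hl12
  have hbig : (4096 : ℤ) ≤ h := by
    rw [hh, show (4096 : ℤ) = 2 ^ 12 by norm_num]
    exact pow_le_pow_right₀ (by norm_num) hl12
  have hPodd : ¬ (2 : ℤ) ∣ P := by
    have hhe : (2 : ℤ) ∣ h := by rw [hh]; exact dvd_pow_self 2 (by omega)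
    have hro : ¬ (2 : ℤ) ∣ r := fun e => by
      have h1 : (2 : ℤ) ∣ (jn : ℤ) * h := dvd_mul_of_dvd_right hhe _
      omega
    have hyo : ¬ (2 : ℤ) ∣ y := fun e => hro (e.trans hy)
    intro e
    rcases Int.prime_two.dvd_or_dvd e with e' | e' <;> omega
  have hhf : h ∣ f := by
    refine ⟨(jn : ℤ) * h - jn + 1, ?_⟩
    rw [hf, hrj]; ring
  have hfP : (h : ℤ) ∣ 15 - P := by
    have := hhf.trans hdiv'
    rw [hh] at this ⊢
    exact Int.prime_two.pow_dvd_of_dvd_mul_right l hPodd this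
  have hyy : (2 : ℤ) ^ l ∣ (y - 7) * (y + 1) := by
    rw [← hh]
    obtain ⟨t, ht⟩ := hfP
    refine ⟨-t + 6 * y * (jn : ℤ) - 8 * jn * (r + 1), ?_⟩
    have : r - 1 = (jn : ℤ) * h := by linarith
    linear_combination (-1 : ℤ) * ht + hP - (8 * (r + 1) - 6 * y) * this
  obtain ⟨k, hk⟩ := hy
  have hkk : (2 : ℤ) ^ l ∣ (7 * k - 1) * (7 * (k + 1)) := by
    rw [← hh]
    obtain ⟨t, ht⟩ := hfP
    have hky : k * y - 1 = (jn : ℤ) * h := by rw [mul_comm k y, ← hk]; linarith
    have hP2 : P = y ^ 2 * ((4 * k - 1) * (2 * k - 1)) := by rw [hP, hk]; ring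
    refine ⟨7 * (t * k ^ 2) + 7 * ((4 * k - 1) * (2 * k - 1)) * jn * (k * y + 1), ?_⟩
    linear_combination (7 * k ^ 2) * ht + (7 * k ^ 2) * hP2 +
      (7 * ((4 * k - 1) * (2 * k - 1)) * (k * y + 1)) * hky
  -- the exceptional divisors
  have hne7 : y ≠ 7 := by
    intro e
    have h7 : (7 : ℤ) ∣ (jn : ℤ) * 2 ^ l + 1 := by rw [← hh, ← hrj, hk, e]; exact dvd_mul_right _ _
    have hmod : ∀ i : ℕ, (2 : ℤ) ^ i % 7 = 1 ∨ (2 : ℤ) ^ i % 7 = 2 ∨ (2 : ℤ) ^ i % 7 = 4 := by
      intro i
      induction i with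
      | zero => norm_num
      | succ i ih => rw [pow_succ, Int.mul_emod]; rcases ih with e | e | e <;> rw [e] <;> norm_num
    have := hmod l
    rcases hjn with rfl | rfl <;> push_cast at h7 <;> omega
  have hne1 : y ≠ -1 := by
    intro e
    rcases hjn with rfl | rfl
    · have hh2 : h ^ 2 ∣ 15 - P := by
        have h1 : h ^ 2 ∣ (15 - P) * P := by
          refine dvd_trans ⟨1, ?_⟩ hdiv'
          rw [hf, hrj]; push_cast; ring
        rw [hh, ← pow_mul] at h1 ⊢
        exact Int.prime_two.pow_dvd_of_dvd_mul_right _ hPodd h1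
      obtain ⟨t, ht⟩ := hh2
      have h22 : h * 22 = h ^ 2 * (-t - 8) := by
        rw [hP, e, hrj] at ht; push_cast at ht; linear_combination -ht
      have : h ∣ 22 := ⟨-t - 8, by
        have hne : h ≠ 0 := by omega
        apply mul_left_cancel₀ hne; linear_combination h22⟩
      have := Int.le_of_dvd (by norm_num) this
      omega
    · rw [hP, e, hf, hrj] at hbd; push_cast at hbd; nlinarith
  have hnk : k ≠ -1 := by
    intro e
    have hyr : y = -r := by rw [hk, e]; ring
    rcases hjn with rfl | rfl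
    · have hh2 : h ^ 2 ∣ 15 - P := by
        have h1 : h ^ 2 ∣ (15 - P) * P := by
          refine dvd_trans ⟨1, ?_⟩ hdiv'
          rw [hf, hrj]; push_cast; ring
        rw [hh, ← pow_mul] at h1 ⊢
        exact Int.prime_two.pow_dvd_of_dvd_mul_right _ hPodd h1
      obtain ⟨t, ht⟩ := hh2
      have h30 : h * 30 = h ^ 2 * (-t - 15) := by
        rw [hP, hyr, hrj] at ht; push_cast at ht; linear_combination -ht
      have : h ∣ 30 := ⟨-t - 15, by
        have hne : h ≠ 0 := by omega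
        apply mul_left_cancel₀ hne; linear_combination h30⟩
      have := Int.le_of_dvd (by norm_num) this
      omega
    · rw [hP, hyr, hf, hrj] at hbd; push_cast at hbd; nlinarith
  have hk7 : 7 * k - 1 ≠ 0 := by omega
  -- both members of a divisor pair are large
  have hylarge : h ≤ 8 * (|y| + 7) := by
    rcases pow_two_dvd_split (a := y - 7) (b := y + 1) (by ring) hyy with e | e
    · have := Int.le_of_dvd (abs_pos.2 (by omega) : (0:ℤ) < |8 * (y - 7)|) ((dvd_abs _ _).2 (hh ▸ e))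
      rw [abs_mul, abs_of_nonneg (by norm_num : (0:ℤ) ≤ 8)] at this
      have := abs_sub y 7
      rw [abs_of_nonneg (by norm_num : (0:ℤ) ≤ 7)] at this
      linarith
    · have := Int.le_of_dvd (abs_pos.2 (by omega) : (0:ℤ) < |8 * (y + 1)|) ((dvd_abs _ _).2 (hh ▸ e))
      rw [abs_mul, abs_of_nonneg (by norm_num : (0:ℤ) ≤ 8)] at this
      have := abs_add_le y 1
      rw [abs_of_nonneg (by norm_num : (0:ℤ) ≤ 1)] at this
      linarith
  have hklarge : h ≤ 56 * (|k| + 1) := by
    rcases pow_two_dvd_split (a := 7 * k - 1) (b := 7 * (k + 1)) (by ring) hkk with e | e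
    · have := Int.le_of_dvd (abs_pos.2 (by omega) : (0:ℤ) < |8 * (7 * k - 1)|) ((dvd_abs _ _).2 (hh ▸ e))
      rw [abs_mul, abs_of_nonneg (by norm_num : (0:ℤ) ≤ 8)] at this
      have := abs_sub (7 * k) 1
      rw [abs_mul, abs_of_nonneg (by norm_num : (0:ℤ) ≤ 7), abs_one] at this
      linarith
    · have := Int.le_of_dvd (abs_pos.2 (by omega) : (0:ℤ) < |8 * (7 * (k + 1))|) ((dvd_abs _ _).2 (hh ▸ e))
      rw [abs_mul, abs_mul, abs_of_nonneg (by norm_num : (0:ℤ) ≤ 8), abs_of_nonneg (by norm_num : (0:ℤ) ≤ 7)] at this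
      have := abs_add_le k 1
      rw [abs_one] at this
      linarith
  have hprod : |y| * |k| = r := by rw [← abs_mul, ← hk, abs_of_pos (by omega)]
  have hjn2 : (jn : ℤ) ≤ 2 := by exact_mod_cast (by omega : jn ≤ 2)
  have ha : h ≤ 16 * |y| := by linarith
  have hb : h ≤ 112 * |k| := by linarith
  have : h * h ≤ 1792 * r := by
    rw [← hprod]
    have := mul_le_mul ha hb (by omega) (by positivity)
    linarith
  nlinarith

end CfsgLib.TwoTransAFive.Arith
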