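import Cfsg.Agent.Lib.TwoTransAFive.Five
import Mathlib.GroupTheory.GroupAction.MultipleTransitivity
import Mathlib.GroupTheory.GroupAction.Quotient
import Mathlib.GroupTheory.Sylow

/-!
`S3262`: doubly transitive groups with two-point stabiliser `A₅`: the set-up.

* `Hyp G Ω` : the hypotheses, for every pair of points.
* `IsT t` : `t` is an involution with at least two fixed points; these are conjugate, each fixes
  `fNum` points and has centraliser of order `4 * (f * (f - 1))`, two-transitive on its fixed points.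
* `IsFour V` : `V` is a four group of a two-point stabiliser; these fix `hNum` points each.
-/

set_option autoImplicit false

namespace CfsgLib.TwoTransAFive

open Subgroup MulAction

variable {G : Type*} [Group G] {Ω : Type*} [MulAction G Ω]

/-- The stabiliser of two points. -/
def pairStab (a b : Ω) : Subgroup G := stabilizer G a ⊓ stabilizer G b

theorem mem_pairStab {a b : Ω} {g : G} : g ∈ pairStab a b ↔ g • a = a ∧ g • b = b := by
  simp [pairStab, mem_stabilizer_iff]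

variable (Ω) in
/-- The points fixed by an element. -/
def fix (g : G) : Set Ω := {x | g • x = x}

variable (Ω) in
/-- The points fixed by a subgroup. -/
def fixSub (H : Subgroup G) : Set Ω := {x | ∀ g ∈ H, g • x = x}

variable (Ω) in
/-- An involution with at least two fixed points. -/
def IsT (g : G) : Prop := g * g = 1 ∧ g ≠ 1 ∧ ∃ x y : Ω, x ≠ y ∧ g • x = x ∧ g • y = y

variable (Ω) in
/-- A four group of some two-point stabiliser. -/
def IsFour (V : Subgroup G) : Prop :=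
  ∃ (a b : Ω) (t : G), a ≠ b ∧ t ∈ pairStab a b ∧ t * t = 1 ∧ t ≠ 1 ∧ V = Five.four (pairStab a b) t

variable (Ω) in
/-- No four group of a two-point stabiliser is centralised by a further 2-element. -/
def NoExtra (G : Type*) [Group G] [MulAction G Ω] : Prop :=
  ∀ V : Subgroup G, IsFour Ω V → ∀ g ∈ centralizer (V : Set G), g * g ∈ V → g ∈ V

/-- The hypotheses of `S3262`. -/
structure Hyp (G : Type*) [Group G] (Ω : Type*) [MulAction G Ω] : Prop where
  pre : ∀ a b c d : Ω, a ≠ b → c ≠ d → ∃ g : G, g • a = c ∧ g • b = d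
  noReg : ∀ N : Subgroup G, N.Normal → (∀ x y : Ω, ∃ n ∈ N, n • x = y) →
    (∀ x : Ω, ∀ n ∈ N, n • x = x → n = 1) → False
  iso : ∀ a b : Ω, a ≠ b → Nonempty ((pairStab a b : Subgroup G) ≃* Model.A5)
  exists_pair : ∃ a b : Ω, a ≠ b

theorem conj_pairStab (g : G) (a b : Ω) {x : G} :
    g * x * g⁻¹ ∈ pairStab (g • a) (g • b) ↔ x ∈ pairStab a b := by
  simp [mem_pairStab, mul_smul]

theorem fix_conj (g t : G) : fix Ω (g * t * g⁻¹) = (fun x => g • x) '' fix Ω t := by
  ext x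
  simp only [fix, Set.mem_setOf_eq, Set.mem_image]
  constructor
  · intro h
    refine ⟨g⁻¹ • x, ?_, smul_inv_smul g x⟩
    rw [mul_smul, mul_smul] at h
    rw [eq_inv_smul_iff, h]
  · rintro ⟨y, hy, rfl⟩
    rw [← mul_smul, mul_assoc, inv_mul_cancel, mul_one, mul_smul, hy]

theorem fixSub_map (g : G) (H : Subgroup G) :
    fixSub Ω (H.map (MulAut.conj g).toMonoidHom) = (fun x => g • x) '' fixSub Ω H := by
  ext x
  simp only [fixSub, Set.mem_setOf_eq, Set.mem_image, Subgroup.mem_map, MulEquiv.coe_toMonoidHom,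
    MulAut.conj_apply, forall_exists_index, and_imp, forall_apply_eq_imp_iff₂]
  constructor
  · intro h
    refine ⟨g⁻¹ • x, fun k hk => ?_, smul_inv_smul g x⟩
    have := h k hk
    rw [mul_smul, mul_smul] at this
    rw [eq_inv_smul_iff, this]
  · rintro ⟨y, hy, rfl⟩ k hk
    rw [← mul_smul, mul_assoc, inv_mul_cancel, mul_one, mul_smul, hy k hk]

theorem cent_smul_mem_fix {t g : G} {x : Ω} (hg : g ∈ centralizer ({t} : Set G)) (hx : x ∈ fix Ω t) :
    g • x ∈ fix Ω t := by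
  show t • g • x = g • x
  rw [← mul_smul, ← mem_centralizer_singleton_iff.1 hg, mul_smul, hx]

theorem norm_smul_mem_fixSub {V : Subgroup G} {g : G} {x : Ω} (hg : g ∈ normalizer (V : Set G))
    (hx : x ∈ fixSub Ω V) : g • x ∈ fixSub Ω V := by
  intro v hv
  have hv' : g⁻¹ * v * g ∈ V := by simpa using ((mem_normalizer_iff.1 (inv_mem hg)) v).1 hv
  calc v • g • x = (g * (g⁻¹ * v * g)) • x := by rw [← mul_smul]; group
    _ = g • x := by rw [mul_smul, hx _ hv']

section Orbit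

variable (X : Subgroup G) (S : Set Ω)

/-- The order of a group two-transitive on a set of points. -/
theorem card_two_trans [Finite Ω] {a b : Ω} (ha : a ∈ S) (hb : b ∈ S) (hab : a ≠ b)
    (hinv : ∀ g ∈ X, ∀ x ∈ S, g • x ∈ S)
    (htr : ∀ x ∈ S, ∀ y ∈ S, x ≠ y → ∃ g ∈ X, g • a = x ∧ g • b = y) :
    Nat.card X = Nat.card (X ⊓ pairStab a b : Subgroup G) * (S.ncard * (S.ncard - 1)) := by
  have horb : MulAction.orbit X ((a, b) : Ω × Ω) = S.offDiag := by
    ext ⟨x, y⟩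
    simp only [MulAction.mem_orbit_iff, Subtype.exists, Subgroup.mk_smul, Prod.smul_mk, Prod.mk.injEq,
      Set.mem_offDiag, exists_prop]
    exact ⟨by rintro ⟨g, hg, rfl, rfl⟩; exact ⟨hinv g hg a ha, hinv g hg b hb, (smul_left_cancel_iff g).not.2 hab⟩,
      fun ⟨hx, hy, hxy⟩ => htr x hx y hy hxy⟩
  have hstab : MulAction.stabilizer X ((a, b) : Ω × Ω) = (pairStab a b : Subgroup G).subgroupOf X := by
    ext g
    simp [mem_subgroupOf, mem_pairStab, Prod.ext_iff, Subgroup.smul_def]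
  rw [(MulAction.stabilizer X ((a, b) : Ω × Ω)).card_eq_card_quotient_mul_card_subgroup,
    ← Nat.card_congr (MulAction.orbitEquivQuotientStabilizer X ((a, b) : Ω × Ω)), horb, hstab,
    Nat.card_coe_set_eq, mul_comm]
  congr 1
  · rw [← Subgroup.inf_subgroupOf_left, Nat.card_congr (Subgroup.subgroupOfEquivOfLe inf_le_left).toEquiv]
  · classical
    have := Fintype.ofFinite Ω
    rw [Set.ncard_eq_toFinset_card', Set.ncard_eq_toFinset_card', Set.toFinset_offDiag, Finset.offDiag_card]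
    rw [Nat.mul_sub_one]

/-- The order of a point stabiliser in a group two-transitive on a set of points. -/
theorem card_stab_two_trans [Finite Ω] {a b : Ω} (ha : a ∈ S) (hb : b ∈ S) (hab : a ≠ b)
    (hinv : ∀ g ∈ X, ∀ x ∈ S, g • x ∈ S)
    (htr : ∀ x ∈ S, ∀ y ∈ S, x ≠ y → ∃ g ∈ X, g • a = x ∧ g • b = y) :
    Nat.card (X ⊓ stabilizer G a : Subgroup G) =
      Nat.card (X ⊓ pairStab a b : Subgroup G) * (S.ncard - 1) := by
  have horb : MulAction.orbit (X ⊓ stabilizer G a : Subgroup G) b = S \ {a} := by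
    ext y
    simp only [MulAction.mem_orbit_iff, Subtype.exists, Subgroup.mk_smul, Subgroup.mem_inf,
      mem_stabilizer_iff, exists_prop, Set.mem_sdiff, Set.mem_singleton_iff]
    constructor
    · rintro ⟨g, ⟨hg, hga⟩, rfl⟩
      exact ⟨hinv g hg b hb, fun h => hab ((smul_left_cancel_iff g).1 (h.trans hga.symm)).symm⟩
    · rintro ⟨hy, hya⟩
      obtain ⟨g, hg, hga, hgb⟩ := htr a ha y hy (Ne.symm hya)
      exact ⟨g, ⟨hg, hga⟩, hgb⟩
  have hstab : MulAction.stabilizer (X ⊓ stabilizer G a : Subgroup G) b =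
      (pairStab a b : Subgroup G).subgroupOf (X ⊓ stabilizer G a) := by
    ext ⟨g, hg⟩
    simp only [Subgroup.mem_inf, mem_stabilizer_iff] at hg
    simp [mem_subgroupOf, mem_pairStab, hg.2]
  rw [(MulAction.stabilizer (X ⊓ stabilizer G a : Subgroup G) b).card_eq_card_quotient_mul_card_subgroup,
    ← Nat.card_congr (MulAction.orbitEquivQuotientStabilizer (X ⊓ stabilizer G a : Subgroup G) b), horb,
    hstab, Nat.card_coe_set_eq, mul_comm]
  congr 1
  · rw [← Subgroup.inf_subgroupOf_left, show (X ⊓ stabilizer G a) ⊓ pairStab a b = X ⊓ pairStab a b by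
      rw [inf_assoc, pairStab, ← inf_assoc (stabilizer G a) (stabilizer G a), inf_idem],
      Nat.card_congr (Subgroup.subgroupOfEquivOfLe ?_).toEquiv]
    exact le_inf inf_le_left (inf_le_right.trans inf_le_left)
  · rw [Set.ncard_sdiff_singleton_of_mem ha]

end Orbit

namespace Hyp

variable (H : Hyp G Ω)
include H

theorem nonempty : Nonempty Ω := let ⟨a, _, _⟩ := H.exists_pair; ⟨a⟩

theorem card_pairStab {a b : Ω} (h : a ≠ b) : Nat.card (pairStab a b : Subgroup G) = 60 :=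
  Five.card_D (H.iso a b h).some

theorem isT_of_mem {a b : Ω} (h : a ≠ b) {t : G} (ht : t ∈ pairStab a b) (ht2 : t * t = 1) (ht1 : t ≠ 1) :
    IsT Ω t :=
  ⟨ht2, ht1, a, b, h, (mem_pairStab.1 ht).1, (mem_pairStab.1 ht).2⟩

theorem exists_invol {a b : Ω} (h : a ≠ b) : ∃ t : G, t ∈ pairStab a b ∧ t * t = 1 ∧ t ≠ 1 := by
  obtain ⟨e⟩ := H.iso a b h
  obtain ⟨h2, h1, -⟩ := Model.four_x0
  refine ⟨(e.symm Model.x0 : (pairStab a b : Subgroup G)), SetLike.coe_mem _, ?_, fun hc => h1 ?_⟩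
  · rw [← Subgroup.coe_mul, ← map_mul, h2, map_one]; rfl
  · rw [← e.apply_symm_apply Model.x0, Subtype.ext (a1 := e.symm Model.x0) (a2 := 1) hc, map_one]

/-- Two involutions fixing pairs of points, and these pairs, are conjugate. -/
theorem conj_pairs {t u : G} {a b c d : Ω} (hab : a ≠ b) (hcd : c ≠ d) (ht : t ∈ pairStab a b)
    (ht2 : t * t = 1) (ht1 : t ≠ 1) (hu : u ∈ pairStab c d) (hu2 : u * u = 1) (hu1 : u ≠ 1) :
    ∃ g : G, g • a = c ∧ g • b = d ∧ g * t * g⁻¹ = u := by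
  obtain ⟨g, hga, hgb⟩ := H.pre a b c d hab hcd
  have htg : g * t * g⁻¹ ∈ pairStab c d := by
    rw [← hga, ← hgb]; exact (conj_pairStab g a b).2 ht
  obtain ⟨e⟩ := H.iso c d hcd
  obtain ⟨k, hk, hku⟩ := Five.invol_conj e htg hu
    (by rw [show g * t * g⁻¹ * (g * t * g⁻¹) = g * (t * t) * g⁻¹ by group, ht2]; group) hu2
    (fun hc => ht1 (calc t = g⁻¹ * (g * t * g⁻¹) * g := by group
        _ = 1 := by rw [hc]; group)) hu1
  obtain ⟨hkc, hkd⟩ := mem_pairStab.1 hk
  refine ⟨k * g, by rw [mul_smul, hga, hkc], by rw [mul_smul, hgb, hkd], ?_⟩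
  rw [← hku]; group

theorem conj_T {t u : G} (ht : IsT Ω t) (hu : IsT Ω u) : ∃ g : G, g * t * g⁻¹ = u := by
  obtain ⟨a, b, hab, ha, hb⟩ := ht.2.2
  obtain ⟨c, d, hcd, hc, hd⟩ := hu.2.2
  obtain ⟨g, -, -, hg⟩ := H.conj_pairs hab hcd (mem_pairStab.2 ⟨ha, hb⟩) ht.1 ht.2.1
    (mem_pairStab.2 ⟨hc, hd⟩) hu.1 hu.2.1
  exact ⟨g, hg⟩

/-- The centraliser of a `T`-involution is two-transitive on its fixed points. -/
theorem cent_pair {t : G} (ht : IsT Ω t) {x y x' y' : Ω} (hxy : x ≠ y) (hx : x ∈ fix Ω t)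
    (hy : y ∈ fix Ω t) (hxy' : x' ≠ y') (hx' : x' ∈ fix Ω t) (hy' : y' ∈ fix Ω t) :
    ∃ g ∈ centralizer ({t} : Set G), g • x = x' ∧ g • y = y' := by
  obtain ⟨g, hgx, hgy, hg⟩ := H.conj_pairs hxy hxy' (mem_pairStab.2 ⟨hx, hy⟩) ht.1 ht.2.1
    (mem_pairStab.2 ⟨hx', hy'⟩) ht.1 ht.2.1
  exact ⟨g, mem_centralizer_singleton_iff.2 (mul_inv_eq_iff_eq_mul.1 hg), hgx, hgy⟩

/-- The number of fixed points of a `T`-involution. -/
noncomputable def fNum : ℕ :=
  (fix Ω (Classical.choose (H.exists_invol (Classical.choose_spec (Classical.choose_spec H.exists_pair))))).ncard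

theorem ncard_fix {t : G} (ht : IsT Ω t) : (fix Ω t).ncard = H.fNum := by
  have hs := Classical.choose_spec (Classical.choose_spec H.exists_pair)
  obtain ⟨h1, h2, h3⟩ := Classical.choose_spec (H.exists_invol hs)
  obtain ⟨g, hg⟩ := H.conj_T (H.isT_of_mem hs h1 h2 h3) ht
  rw [← hg, fix_conj, Set.ncard_image_of_injective _ (MulAction.injective g)]
  rfl

theorem cent_inf_pairStab {t : G} {a b : Ω} :
    centralizer ({t} : Set G) ⊓ pairStab a b = Five.four (pairStab a b) t := by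
  rw [Five.four, inf_comm]

/-- the fixed points of a four group of a pair are again such that the pair stabilisers contain it -/
theorem four_unique {V : Subgroup G} (hV : IsFour Ω V) {t : G} (htV : t ∈ V) (ht1 : t ≠ 1) {x y : Ω}
    (hxy : x ≠ y) (hx : x ∈ fixSub Ω V) (hy : y ∈ fixSub Ω V) :
    Five.four (pairStab x y) t = V := by
  obtain ⟨a, b, u, hab, hu, hu2, hu1, rfl⟩ := hV
  obtain ⟨e⟩ := H.iso a b hab
  obtain ⟨e'⟩ := H.iso x y hxy
  have ht2 := Five.sq_of_mem_four e hu hu2 hu1 htV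
  have htxy : t ∈ pairStab x y := mem_pairStab.2 ⟨hx t htV, hy t htV⟩
  have : Finite (Five.four (pairStab x y) t) :=
    Nat.finite_of_card_ne_zero (by rw [Five.card_four e' htxy ht2 ht1]; norm_num)
  refine (Subgroup.eq_of_le_of_card_ge ?_ ?_).symm
  · rw [← Five.four_eq_of_mem e hu hu2 hu1 htV ht1]
    intro g hg
    have hgV : g ∈ Five.four (pairStab a b) u := by
      rwa [Five.four_eq_of_mem e hu hu2 hu1 htV ht1] at hg
    exact ⟨mem_pairStab.2 ⟨hx g hgV, hy g hgV⟩, hg.2⟩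
  · rw [Five.card_four e' htxy ht2 ht1, Five.card_four e hu hu2 hu1]

theorem isFour_four {a b : Ω} (hab : a ≠ b) {t : G} (ht : t ∈ pairStab a b) (ht2 : t * t = 1)
    (ht1 : t ≠ 1) : IsFour Ω (Five.four (pairStab a b) t) :=
  ⟨a, b, t, hab, ht, ht2, ht1, rfl⟩

theorem card_isFour {V : Subgroup G} (hV : IsFour Ω V) : Nat.card V = 4 := by
  obtain ⟨a, b, u, hab, hu, hu2, hu1, rfl⟩ := hV
  exact Five.card_four (H.iso a b hab).some hu hu2 hu1

theorem exists_pair_fixSub {V : Subgroup G} (hV : IsFour Ω V) :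
    ∃ a b : Ω, a ≠ b ∧ a ∈ fixSub Ω V ∧ b ∈ fixSub Ω V := by
  obtain ⟨a, b, u, hab, -, -, -, rfl⟩ := hV
  exact ⟨a, b, hab, fun g hg => (mem_pairStab.1 hg.1).1, fun g hg => (mem_pairStab.1 hg.1).2⟩

theorem isT_of_mem_four {V : Subgroup G} (hV : IsFour Ω V) {t : G} (htV : t ∈ V) (ht1 : t ≠ 1) :
    IsT Ω t := by
  obtain ⟨a, b, u, hab, hu, hu2, hu1, rfl⟩ := hV
  exact H.isT_of_mem hab htV.1 (Five.sq_of_mem_four (H.iso a b hab).some hu hu2 hu1 htV) ht1

theorem four_le_cent {V : Subgroup G} (hV : IsFour Ω V) {t : G} (htV : t ∈ V) (ht1 : t ≠ 1) :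
    V ≤ centralizer ({t} : Set G) := by
  obtain ⟨a, b, hab, ha, hb⟩ := H.exists_pair_fixSub hV
  rw [← H.four_unique hV htV ht1 hab ha hb]
  exact inf_le_right

/-- Four groups with marked pairs of fixed points and marked involutions are conjugate. -/
theorem conj_four {V W : Subgroup G} (hV : IsFour Ω V) (hW : IsFour Ω W) {t u : G} (htV : t ∈ V)
    (ht1 : t ≠ 1) (huW : u ∈ W) (hu1 : u ≠ 1) {a b c d : Ω} (hab : a ≠ b) (ha : a ∈ fixSub Ω V)
    (hb : b ∈ fixSub Ω V) (hcd : c ≠ d) (hc : c ∈ fixSub Ω W) (hd : d ∈ fixSub Ω W) :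
    ∃ g : G, g • a = c ∧ g • b = d ∧ g * t * g⁻¹ = u ∧ V.map (MulAut.conj g).toMonoidHom = W := by
  obtain ⟨g, hga, hgb, hg⟩ := H.conj_pairs hab hcd (mem_pairStab.2 ⟨ha t htV, hb t htV⟩)
    (H.isT_of_mem_four hV htV ht1).1 ht1 (mem_pairStab.2 ⟨hc u huW, hd u huW⟩)
    (H.isT_of_mem_four hW huW hu1).1 hu1
  refine ⟨g, hga, hgb, hg, ?_⟩
  rw [← H.four_unique hV htV ht1 hab ha hb, ← H.four_unique hW huW hu1 hcd hc hd]
  ext z
  simp only [Subgroup.mem_map, MulEquiv.coe_toMonoidHom, MulAut.conj_apply, Five.mem_four]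
  constructor
  · rintro ⟨y, ⟨hy, hyt⟩, rfl⟩
    refine ⟨by rw [← hga, ← hgb]; exact (conj_pairStab g a b).2 hy, ?_⟩
    rw [← hg]
    calc g * y * g⁻¹ * (g * t * g⁻¹) = g * (y * t) * g⁻¹ := by group
      _ = g * (t * y) * g⁻¹ := by rw [hyt]
      _ = _ := by group
  · rintro ⟨hz, hzu⟩
    refine ⟨g⁻¹ * z * g, ⟨(conj_pairStab g a b).1 (by rw [hga, hgb]; group; simpa using hz), ?_⟩, by group⟩
    calc g⁻¹ * z * g * t = g⁻¹ * (z * (g * t * g⁻¹)) * g := by group
      _ = g⁻¹ * ((g * t * g⁻¹) * z) * g := by rw [hg, hzu]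
      _ = _ := by group

theorem exists_four : ∃ V : Subgroup G, IsFour Ω V := by
  obtain ⟨a, b, hab⟩ := H.exists_pair
  obtain ⟨t, ht, ht2, ht1⟩ := H.exists_invol hab
  exact ⟨_, H.isFour_four hab ht ht2 ht1⟩

/-- The number of fixed points of a four group. -/
noncomputable def hNum : ℕ := (fixSub Ω (Classical.choose H.exists_four)).ncard

theorem exists_mem_four {V : Subgroup G} (hV : IsFour Ω V) : ∃ t ∈ V, t ≠ 1 := by
  obtain ⟨a, b, u, hab, hu, -, hu1, rfl⟩ := hV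
  exact ⟨u, ⟨hu, mem_centralizer_singleton_iff.2 rfl⟩, hu1⟩

theorem ncard_fixSub {V : Subgroup G} (hV : IsFour Ω V) : (fixSub Ω V).ncard = H.hNum := by
  have hW := Classical.choose_spec H.exists_four
  obtain ⟨t, ht, ht1⟩ := H.exists_mem_four hW
  obtain ⟨u, hu, hu1⟩ := H.exists_mem_four hV
  obtain ⟨a, b, hab, ha, hb⟩ := H.exists_pair_fixSub hW
  obtain ⟨c, d, hcd, hc, hd⟩ := H.exists_pair_fixSub hV
  obtain ⟨g, -, -, -, hg⟩ := H.conj_four hW hV ht ht1 hu hu1 hab ha hb hcd hc hd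
  rw [← hg, fixSub_map, Set.ncard_image_of_injective _ (MulAction.injective g)]
  rfl

theorem fixSub_subset_fix {V : Subgroup G} {t : G} (htV : t ∈ V) : fixSub Ω V ⊆ fix Ω t :=
  fun _ hx => hx t htV

variable [Finite Ω]

theorem two_le_hNum : 2 ≤ H.hNum := by
  obtain ⟨V, hV⟩ := H.exists_four
  obtain ⟨a, b, hab, ha, hb⟩ := H.exists_pair_fixSub hV
  rw [← H.ncard_fixSub hV, ← Set.ncard_pair hab]
  exact Set.ncard_le_ncard (Set.insert_subset ha (Set.singleton_subset_iff.2 hb))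

theorem hNum_le_fNum : H.hNum ≤ H.fNum := by
  obtain ⟨V, hV⟩ := H.exists_four
  obtain ⟨t, htV, ht1⟩ := H.exists_mem_four hV
  rw [← H.ncard_fixSub hV, ← H.ncard_fix (H.isT_of_mem_four hV htV ht1)]
  exact Set.ncard_le_ncard (H.fixSub_subset_fix htV)

theorem card_G : Nat.card G = Nat.card Ω * (Nat.card Ω - 1) * 60 := by
  obtain ⟨a, b, hab⟩ := H.exists_pair
  have := card_two_trans (⊤ : Subgroup G) (Set.univ : Set Ω) (Set.mem_univ a) (Set.mem_univ b) hab
    (fun g _ x _ => Set.mem_univ _)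
    (fun x _ y _ hxy => (H.pre a b x y hab hxy).imp fun g hg => ⟨Subgroup.mem_top g, hg⟩)
  rw [Subgroup.card_top, top_inf_eq, H.card_pairStab hab, Set.ncard_univ] at this
  rw [this, mul_comm]

theorem card_stab (a : Ω) : Nat.card (stabilizer G a) = (Nat.card Ω - 1) * 60 := by
  obtain ⟨x, y, hxy⟩ := H.exists_pair
  obtain ⟨b, hb⟩ : ∃ b : Ω, a ≠ b := by
    by_cases h : a = x
    · exact ⟨y, h ▸ hxy⟩
    · exact ⟨x, h⟩
  have := card_stab_two_trans (⊤ : Subgroup G) (Set.univ : Set Ω) (Set.mem_univ a) (Set.mem_univ b) hb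
    (fun g _ x _ => Set.mem_univ _)
    (fun x _ y _ hxy => (H.pre a b x y hb hxy).imp fun g hg => ⟨Subgroup.mem_top g, hg⟩)
  rw [top_inf_eq, top_inf_eq, H.card_pairStab hb, Set.ncard_univ] at this
  rw [this, mul_comm]

theorem card_cent {t : G} (ht : IsT Ω t) :
    Nat.card (centralizer ({t} : Set G)) = 4 * (H.fNum * (H.fNum - 1)) := by
  obtain ⟨a, b, hab, ha, hb⟩ := ht.2.2
  rw [← H.ncard_fix ht, card_two_trans (centralizer ({t} : Set G)) (fix Ω t) ha hb hab
    (fun g hg x hx => cent_smul_mem_fix hg hx) (fun x hx y hy hxy => H.cent_pair ht hab ha hb hxy hx hy),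
    H.cent_inf_pairStab, Five.card_four (H.iso a b hab).some (mem_pairStab.2 ⟨ha, hb⟩) ht.1 ht.2.1]

theorem card_cent_stab {t : G} (ht : IsT Ω t) {a : Ω} (ha : a ∈ fix Ω t) :
    Nat.card (centralizer ({t} : Set G) ⊓ stabilizer G a : Subgroup G) = 4 * (H.fNum - 1) := by
  obtain ⟨x, y, hxy, hx, hy⟩ := ht.2.2
  obtain ⟨b, hb, hab⟩ : ∃ b ∈ fix Ω t, a ≠ b := by
    by_cases h : a = x
    · exact ⟨y, hy, h ▸ hxy⟩
    · exact ⟨x, hx, h⟩
  rw [← H.ncard_fix ht, card_stab_two_trans (centralizer ({t} : Set G)) (fix Ω t) ha hb hab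
    (fun g hg x hx => cent_smul_mem_fix hg hx) (fun x hx y hy hxy => H.cent_pair ht hab ha hb hxy hx hy),
    H.cent_inf_pairStab, Five.card_four (H.iso a b hab).some (mem_pairStab.2 ⟨ha, hb⟩) ht.1 ht.2.1]

/-- the part of the centraliser normalising a four group is two-transitive on its fixed points -/
theorem cent_norm_pair {V : Subgroup G} (hV : IsFour Ω V) {t : G} (htV : t ∈ V) (ht1 : t ≠ 1)
    {x y x' y' : Ω} (hxy : x ≠ y) (hx : x ∈ fixSub Ω V) (hy : y ∈ fixSub Ω V) (hxy' : x' ≠ y')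
    (hx' : x' ∈ fixSub Ω V) (hy' : y' ∈ fixSub Ω V) :
    ∃ g ∈ centralizer ({t} : Set G) ⊓ normalizer (V : Set G), g • x = x' ∧ g • y = y' := by
  obtain ⟨g, hgx, hgy, hg, hgV⟩ := H.conj_four hV hV htV ht1 htV ht1 hxy hx hy hxy' hx' hy'
  refine ⟨g, ⟨mem_centralizer_singleton_iff.2 (mul_inv_eq_iff_eq_mul.1 hg), ?_⟩, hgx, hgy⟩
  refine (Subgroup.mem_normalizer_iff (H := V)).2 ?_
  intro z
  rw [show g * z * g⁻¹ = (MulAut.conj g).toMonoidHom z from rfl]
  nth_rw 2 [← hgV]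
  exact (Subgroup.mem_map_iff_mem (f := (MulAut.conj g).toMonoidHom) (MulAut.conj g).injective).symm

theorem card_cent_norm {V : Subgroup G} (hV : IsFour Ω V) {t : G} (htV : t ∈ V) (ht1 : t ≠ 1) :
    Nat.card (centralizer ({t} : Set G) ⊓ normalizer (V : Set G) : Subgroup G) =
      4 * (H.hNum * (H.hNum - 1)) := by
  obtain ⟨a, b, hab, ha, hb⟩ := H.exists_pair_fixSub hV
  rw [← H.ncard_fixSub hV, card_two_trans (centralizer ({t} : Set G) ⊓ normalizer (V : Set G)) (fixSub Ω V)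
    ha hb hab (fun g hg x hx => norm_smul_mem_fixSub hg.2 hx)
    (fun x hx y hy hxy => H.cent_norm_pair hV htV ht1 hab ha hb hxy hx hy)]
  have : (centralizer ({t} : Set G) ⊓ normalizer (V : Set G)) ⊓ pairStab a b = V := by
    refine le_antisymm ?_ (le_inf (le_inf (H.four_le_cent hV htV ht1) Subgroup.le_normalizer) ?_)
    · intro g hg
      rw [← H.four_unique hV htV ht1 hab ha hb]
      exact ⟨hg.2, hg.1.1⟩
    · intro g hg
      exact mem_pairStab.2 ⟨ha g hg, hb g hg⟩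
  rw [this, H.card_isFour hV]

theorem card_cent_norm_stab {V : Subgroup G} (hV : IsFour Ω V) {t : G} (htV : t ∈ V) (ht1 : t ≠ 1)
    {a : Ω} (ha : a ∈ fixSub Ω V) :
    Nat.card ((centralizer ({t} : Set G) ⊓ normalizer (V : Set G)) ⊓ stabilizer G a : Subgroup G) =
      4 * (H.hNum - 1) := by
  obtain ⟨x, y, hxy, hx, hy⟩ := H.exists_pair_fixSub hV
  obtain ⟨b, hb, hab⟩ : ∃ b ∈ fixSub Ω V, a ≠ b := by
    by_cases h : a = x
    · exact ⟨y, hy, h ▸ hxy⟩
    · exact ⟨x, hx, h⟩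
  rw [← H.ncard_fixSub hV, card_stab_two_trans (centralizer ({t} : Set G) ⊓ normalizer (V : Set G))
    (fixSub Ω V) ha hb hab (fun g hg x hx => norm_smul_mem_fixSub hg.2 hx)
    (fun x hx y hy hxy => H.cent_norm_pair hV htV ht1 hab ha hb hxy hx hy)]
  have : (centralizer ({t} : Set G) ⊓ normalizer (V : Set G)) ⊓ pairStab a b = V := by
    refine le_antisymm ?_ (le_inf (le_inf (H.four_le_cent hV htV ht1) Subgroup.le_normalizer) ?_)
    · intro g hg
      rw [← H.four_unique hV htV ht1 hab ha hb]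
      exact ⟨hg.2, hg.1.1⟩
    · intro g hg
      exact mem_pairStab.2 ⟨ha g hg, hb g hg⟩
  rw [this, H.card_isFour hV]

end Hyp

end CfsgLib.TwoTransAFive
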