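import Cfsg.Agent.Lib.TwoTransAFive.OddHigh
import Cfsg.Agent.Lib.GW.CaseOneBasic
import Cfsg.Agent.Lib.HallNumbers.Sixty

/-!
`S3262`: the numbers of a group with Sylow 2-subgroups of order four containing `A₅`.

Modulo the odd core there is a normal `L = PSL₂(q)`, `q = 4m - ε`, of odd index `i`; the core
obeys the Brauer-Wielandt formula for the four group of an involution of the `A₅`.
-/

set_option autoImplicit false
set_option linter.unusedSectionVars false
set_option linter.style.haveILetI false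

open Subgroup

namespace CfsgLib.TwoTransAFive

universe u

section Quotient

variable {Q : Type u} [Group Q] [Finite Q]

/-- A perfect subgroup lies in a perfect normal subgroup. -/
theorem exists_perfect_normal_over {D : Subgroup Q} (hD : D ≤ ⁅D, D⁆) :
    ∃ L : Subgroup Q, L.Normal ∧ D ≤ L ∧ Group.IsPerfect L := by
  obtain ⟨L, ⟨hLn, hDL⟩, hmin⟩ := Set.Finite.exists_minimal
    (Set.toFinite {N : Subgroup Q | N.Normal ∧ D ≤ N}) ⟨⊤, inferInstance, le_top⟩
  haveI := hLn
  exact ⟨L, hLn, hDL, isPerfect_iff.2 (le_antisymm (commutator_le_self L)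
    (hmin ⟨inferInstance, hD.trans (commutator_mono hDL hDL)⟩ (commutator_le_self L)))⟩

/-- The order of a subgroup meeting every coset of a normal subgroup. -/
theorem card_eq_index_mul {L H : Subgroup Q} [L.Normal] (h : ∀ x : Q, ∃ l ∈ L, l * x ∈ H) :
    Nat.card H = L.index * Nat.card (L ⊓ H : Subgroup Q) := by
  let f : H →* Q ⧸ L := (QuotientGroup.mk' L).comp H.subtype
  have hf : Function.Surjective f := by
    intro z
    obtain ⟨x, rfl⟩ := QuotientGroup.mk_surjective z
    obtain ⟨l, hl, hlx⟩ := h x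
    refine ⟨⟨l * x, hlx⟩, ?_⟩
    show ((l * x : Q) : Q ⧸ L) = (x : Q ⧸ L)
    rw [QuotientGroup.eq]
    simpa [mul_assoc] using (inferInstance : L.Normal).conj_mem' l⁻¹ (inv_mem hl) x
  have hk : f.ker = (L ⊓ H).subgroupOf H := by
    ext x
    simp [f, mem_subgroupOf]
  rw [← f.ker.card_mul_index, index_ker, MonoidHom.range_eq_top.2 hf, card_top, ← index_eq_card, hk,
    Nat.card_congr (subgroupOfEquivOfLe (inf_le_right : L ⊓ H ≤ H)).toEquiv, mul_comm]

/-- Four-Sylow groups without odd core: a normal `PSL₂(q)`, with the two centraliser orders. -/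
theorem four_quotient (hO : Cfsg.oddCore Q = ⊥) (h8 : ¬ 8 ∣ Nat.card Q)
    {D : Subgroup Q} (hD : D ≤ ⁅D, D⁆) {t y g : Q} (htD : t ∈ D) (hyD : y ∈ D) (hgD : g ∈ D)
    (ht2 : t * t = 1) (hy2 : y * y = 1) (ht1 : t ≠ 1) (hy1 : y ≠ 1) (hyt : y ≠ t)
    (hty : t * y = y * t) (hgt : g * t * g⁻¹ = y) (hgy : g * y * g⁻¹ = t * y) :
    ∃ (m i : ℕ) (ε : ℤ), (ε = 1 ∨ ε = -1) ∧ (ε = 1 → 3 ≤ m) ∧ Odd m ∧ 1 ≤ i ∧
      Nat.card (centralizer ({t} : Set Q)) = i * (4 * m) ∧
      Nat.card (centralizer ({t, y} : Set Q)) = i * 4 ∧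
      (Nat.card Q : ℤ) = i * (4 * m * (4 * m - ε) * (2 * m - ε)) := by
  classical
  haveI : Fact (Nat.Prime 2) := ⟨Nat.prime_two⟩
  obtain ⟨L, hLn, hDL, hLp⟩ := exists_perfect_normal_over hD
  haveI := hLn
  haveI := hLp
  -- the four group
  set V : Subgroup Q := closure {t, y} with hVdef
  have hViff : ∀ v, v ∈ V ↔ v = 1 ∨ v = t ∨ v = y ∨ v = t * y := by
    intro v
    constructor
    · intro hv
      induction hv using closure_induction with
      | mem x hx => rcases hx with rfl | rfl <;> simp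
      | one => simp
      | mul p q _ _ hp hq =>
        have e1 : t * (t * y) = y := by rw [← mul_assoc, ht2, one_mul]
        have e2 : y * (t * y) = t := by rw [← mul_assoc, ← hty, mul_assoc, hy2, mul_one]
        have e3 : t * y * t = y := by rw [hty, mul_assoc, ht2, mul_one]
        have e4 : t * y * y = t := by rw [mul_assoc, hy2, mul_one]
        have e5 : t * y * (t * y) = 1 := by rw [← mul_assoc, e3, hy2]
        rcases hp with rfl | rfl | rfl | rfl <;> rcases hq with rfl | rfl | rfl | rfl <;>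
          simp [ht2, hy2, hty.symm, e1, e2, e3, e4, e5]
      | inv p _ hp =>
        rcases hp with rfl | rfl | rfl | rfl <;>
          simp [inv_eq_of_mul_eq_one_right ht2, inv_eq_of_mul_eq_one_right hy2, hty.symm]
    · rintro (rfl | rfl | rfl | rfl)
      · exact one_mem _
      · exact subset_closure (by simp)
      · exact subset_closure (by simp)
      · exact mul_mem (subset_closure (by simp)) (subset_closure (by simp))
  have htV : t ∈ V := (hViff t).2 (by simp)
  have hyV : y ∈ V := (hViff y).2 (by simp)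
  have hVsq : ∀ v ∈ V, v * v = 1 := by
    intro v hv
    rcases (hViff v).1 hv with rfl | rfl | rfl | rfl
    · exact one_mul 1
    · exact ht2
    · exact hy2
    · rw [← mul_assoc, hty, mul_assoc y, ht2, mul_one, hy2]
  have hV4 : Nat.card V = 4 := by
    have hset : (V : Set Q) = (({1, t, y, t * y} : Finset Q) : Set Q) := by ext v; simp [hViff]
    have h1 : t * y ≠ 1 := fun h => hyt (mul_left_cancel (h.trans ht2.symm))
    have h2 : t * y ≠ t := fun h => hy1 (mul_eq_left.1 h)
    have h3 : t * y ≠ y := fun h => ht1 (mul_eq_right.1 h)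
    rw [← SetLike.coe_sort_coe, hset, Nat.card_coe_set_eq, Set.ncard_coe_finset]
    rw [Finset.card_insert_of_notMem, Finset.card_insert_of_notMem, Finset.card_insert_of_notMem,
      Finset.card_singleton] <;> simp [ht1.symm, hy1.symm, h1.symm, hyt.symm, h2.symm, h3.symm]
  have hVL : V ≤ L := (closure_le _).2 (by rintro x (rfl | rfl); exacts [hDL htD, hDL hyD])
  have hVp : IsPGroup 2 V := IsPGroup.of_card (n := 2) (by rw [hV4]; rfl)
  -- `V` is a Sylow subgroup of `L` and of `Q`
  have hcard4 : ∀ U : Subgroup Q, V ≤ U → IsPGroup 2 U → U = V := by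
    intro U hVU hU
    obtain ⟨k, hk⟩ := IsPGroup.iff_card.1 hU
    have hk3 : k ≤ 2 := by
      by_contra hc
      refine h8 ((?_ : 8 ∣ Nat.card U).trans U.card_subgroup_dvd_card)
      rw [hk, show (8 : ℕ) = 2 ^ 3 from rfl]
      exact pow_dvd_pow 2 (by omega)
    refine (Subgroup.eq_of_le_of_card_ge hVU ?_).symm
    rw [hk, hV4, show (4 : ℕ) = 2 ^ 2 from rfl]
    exact Nat.pow_le_pow_right two_pos hk3
  have hV' : IsPGroup 2 (V.subgroupOf L) := hVp.of_equiv (subgroupOfEquivOfLe hVL).symm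
  obtain ⟨S, hVS⟩ := hV'.exists_le_sylow
  have hSV : (S : Subgroup L) = V.subgroupOf L := by
    refine map_injective L.subtype_injective ?_
    rw [map_subgroupOf_eq_of_le hVL]
    exact hcard4 _ (fun v hv => ⟨⟨v, hVL hv⟩, hVS (mem_subgroupOf.2 hv), rfl⟩) (S.2.map L.subtype)
  have hS4 : Nat.card (S : Subgroup L) = 4 := by
    rw [hSV, Nat.card_congr (subgroupOfEquivOfLe hVL).toEquiv, hV4]
  have hVk : IsKleinFour (V.subgroupOf L) :=
    isKleinFour_of_four (by rw [Nat.card_congr (subgroupOfEquivOfLe hVL).toEquiv, hV4])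
      fun w hw => Subtype.ext (hVsq _ (mem_subgroupOf.1 hw))
  have hLcore : Cfsg.oddCore L = ⊥ := by
    have h := CfsgLib.PCore.map_pPrimeCore_subtype_of_normal (p := 2) L
    have h' : (Cfsg.pPrimeCore 2 L).map L.subtype ≤ Cfsg.oddCore Q := by
      rw [h]; exact inf_le_right
    rw [hO, le_bot_iff, map_eq_bot_iff_of_injective _ L.subtype_injective] at h'
    exact h'
  obtain ⟨eS⟩ := HallNumbers.nonempty_equiv_dihedral_two hS4 (fun hc => by
    rw [hSV] at hc
    exact hVk.not_isCyclic hc)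
  let bot : L ⧸ Cfsg.oddCore L ≃* L :=
    (QuotientGroup.quotientMulEquivOfEq hLcore).trans QuotientGroup.quotientBot
  have h8L : ¬ 8 ∣ Nat.card L := fun h => h8 (h.trans L.card_subgroup_dvd_card)
  rcases GW.Done.classification L S 2 le_rfl ⟨eS⟩ with ⟨F, _, _, hFodd, hF3, ⟨φ'⟩⟩ | h7
  swap
  · obtain ⟨φ'⟩ := h7
    refine absurd ?_ h8L
    rw [Nat.card_congr (bot.symm.trans φ').toEquiv, DimThreeMax.card_alt_seven]
    norm_num
  let φ := bot.symm.trans φ'
  -- in `Q` the normaliser of `V` fixing `t` centralises `V`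
  have hfix : ∀ z : Q, (∀ v ∈ V, z * v * z⁻¹ ∈ V) → z * t = t * z → z * y = y * z := by
    intro z hzV hzt
    by_contra hne
    have hsw : ∀ w : Q, (∀ v ∈ V, w * v * w⁻¹ ∈ V) → w * t = t * w →
        w * y * w⁻¹ = y ∨ w * y * w⁻¹ = t * y := by
      intro w hwV hwt
      rcases (hViff _).1 (hwV y hyV) with h | h | h | h
      · exact absurd (conj_eq_one_iff.1 h) hy1
      · refine absurd ?_ hyt
        calc y = w⁻¹ * (w * y * w⁻¹) * w := by group
          _ = w⁻¹ * (t * w) := by rw [h, mul_assoc]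
          _ = t := by rw [← hwt, inv_mul_cancel_left]
      · exact Or.inl h
      · exact Or.inr h
    have hzy : z * y * z⁻¹ = t * y :=
      (hsw z hzV hzt).resolve_left fun h => hne (mul_inv_eq_iff_eq_mul.1 h)
    have hzz : z * (t * y) * z⁻¹ = y := by
      calc z * (t * y) * z⁻¹ = (z * t) * z⁻¹ * (z * y * z⁻¹) := by group
        _ = t * z * z⁻¹ * (t * y) := by rw [hzt, hzy]
        _ = (t * t) * y := by group
        _ = y := by rw [ht2, one_mul]
    -- odd powers of `z` move `y`
    have hpow : ∀ k : ℕ, z ^ (2 * k) * y * (z ^ (2 * k))⁻¹ = y := by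
      intro k
      induction k with
      | zero => simp
      | succ k ih =>
        rw [show 2 * (k + 1) = 1 + (1 + 2 * k) by ring, pow_add, pow_add, pow_one]
        calc z * (z * z ^ (2 * k)) * y * (z * (z * z ^ (2 * k)))⁻¹
            = z * (z * (z ^ (2 * k) * y * (z ^ (2 * k))⁻¹) * z⁻¹) * z⁻¹ := by group
          _ = y := by rw [ih, hzy, hzz]
    obtain ⟨a, o, ho, hao⟩ := Nat.exists_eq_pow_mul_and_not_dvd (orderOf_pos z).ne' 2 (by norm_num)
    obtain ⟨k, hk⟩ : ∃ k, o = 2 * k + 1 := ⟨o / 2, by omega⟩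
    set w := z ^ o with hw
    have hwN : w ∈ normalizer (V : Set Q) := by
      refine pow_mem ?_ o
      refine (PSL2.mem_normalizer_iff_map_eq V z).2 (Subgroup.eq_of_le_of_card_ge ?_ ?_)
      · rintro _ ⟨v, hv, rfl⟩; exact hzV v hv
      · rw [card_map_of_injective (MulAut.conj z).injective]
    have hwp : IsPGroup 2 (zpowers w) := by
      obtain ⟨j, -, hj⟩ := (Nat.dvd_prime_pow Nat.prime_two).1 (orderOf_dvd_of_pow_eq_one
        (show w ^ 2 ^ a = 1 by rw [hw, ← pow_mul, mul_comm, ← hao]; exact pow_orderOf_eq_one z))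
      exact IsPGroup.of_card (n := j) (by rw [Nat.card_zpowers, hj])
    have hU := IsPGroup.to_sup_of_normal_left' hVp hwp (zpowers_le.2 hwN)
    have hwV : w ∈ V := (hcard4 _ le_sup_left hU) ▸ le_sup_right (α := Subgroup Q) (mem_zpowers w)
    have hwy : w * y * w⁻¹ = t * y := by
      rw [hw, hk, show 2 * k + 1 = 1 + 2 * k by ring, pow_add, pow_one]
      calc z * z ^ (2 * k) * y * (z * z ^ (2 * k))⁻¹
          = z * (z ^ (2 * k) * y * (z ^ (2 * k))⁻¹) * z⁻¹ := by group
        _ = t * y := by rw [hpow, hzy]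
    have hwy' : w * y * w⁻¹ = y := by
      rcases (hViff w).1 hwV with h | h | h | h <;> rw [h]
      · group
      · rw [hty, mul_inv_cancel_right]
      · group
      · calc t * y * y * (t * y)⁻¹ = t * y * t⁻¹ := by group
          _ = y := by rw [hty, mul_inv_cancel_right]
    exact ht1 (mul_eq_right.1 (hwy.symm.trans hwy'))
  -- so the centraliser of `V` meets every coset of `L`
  have hcover : ∀ x : Q, ∃ l ∈ L, l * x ∈ centralizer ({t, y} : Set Q) := by
    intro x
    have hmem : ∀ v ∈ L, x * v * x⁻¹ ∈ L := fun v hv => hLn.conj_mem v hv x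
    let c : MulAut L := MulAut.conjNormal x
    obtain ⟨l, hl⟩ := MulAction.exists_smul_eq L (c • S) S
    have hN : ∀ v ∈ V, ((l : Q) * x) * v * ((l : Q) * x)⁻¹ ∈ V := by
      intro v hv
      have h1 : (c ⟨v, hVL hv⟩ : L) ∈ ((c • S : Sylow 2 L) : Subgroup L) := by
        exact Subgroup.smul_mem_pointwise_smul _ c (S : Subgroup L) (by rw [hSV]; exact mem_subgroupOf.2 hv)
      have h2 : (MulAut.conj l) (c ⟨v, hVL hv⟩) ∈ (S : Subgroup L) := by
        rw [← hl]
        exact Subgroup.smul_mem_pointwise_smul _ (MulAut.conj l) ((c • S : Sylow 2 L) : Subgroup L) h1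
      rw [hSV, mem_subgroupOf] at h2
      rw [show (l : Q) * x * v * ((l : Q) * x)⁻¹ = (l : Q) * (x * v * x⁻¹) * (l : Q)⁻¹ by group]
      exact h2
    set n := (l : Q) * x with hn
    have hgV : ∀ v ∈ V, g * v * g⁻¹ ∈ V := by
      intro v hv
      rcases (hViff v).1 hv with rfl | rfl | rfl | rfl
      · simp
      · rw [hgt]; exact hyV
      · rw [hgy]; exact mul_mem htV hyV
      · rw [show g * (t * y) * g⁻¹ = (g * t * g⁻¹) * (g * y * g⁻¹) by group, hgt, hgy]
        exact mul_mem hyV (mul_mem htV hyV)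
    have hg3 : g * (t * y) * g⁻¹ = t := by
      rw [show g * (t * y) * g⁻¹ = (g * t * g⁻¹) * (g * y * g⁻¹) by group, hgt, hgy, hty, ← mul_assoc,
        hy2, one_mul]
    obtain ⟨j, hjL, hjV, hjt⟩ : ∃ j ∈ L, (∀ v ∈ V, j * v * j⁻¹ ∈ V) ∧ j * (n * t * n⁻¹) * j⁻¹ = t := by
      rcases (hViff _).1 (hN t htV) with h | h | h | h
      · exact absurd (conj_eq_one_iff.1 h) ht1
      · exact ⟨1, one_mem L, fun v hv => by simpa using hv, by rw [h]; group⟩
      · refine ⟨g * g, mul_mem (hDL hgD) (hDL hgD), fun v hv => ?_, ?_⟩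
        · rw [show g * g * v * (g * g)⁻¹ = g * (g * v * g⁻¹) * g⁻¹ by group]
          exact hgV _ (hgV v hv)
        · rw [h, show g * g * y * (g * g)⁻¹ = g * (g * y * g⁻¹) * g⁻¹ by group, hgy, hg3]
      · exact ⟨g, hDL hgD, hgV, by rw [h, hg3]⟩
    refine ⟨j * l, mul_mem hjL l.2, ?_⟩
    have hz : (j * n) * t = t * (j * n) := by
      refine mul_inv_eq_iff_eq_mul.1 ?_
      rw [show j * n * t * (j * n)⁻¹ = j * (n * t * n⁻¹) * j⁻¹ by group]; exact hjt
    have hzy := hfix (j * n) (fun v hv => by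
      rw [show j * n * v * (j * n)⁻¹ = j * (n * v * n⁻¹) * j⁻¹ by group]
      exact hjV _ (hN v hv)) hz
    rw [show j * (l : Q) * x = j * n by rw [hn, mul_assoc]]
    refine Subgroup.mem_centralizer_iff.2 ?_
    rintro z (rfl | rfl)
    exacts [hz.symm, hzy.symm]
  have hcover1 : ∀ x : Q, ∃ l ∈ L, l * x ∈ centralizer ({t} : Set Q) := fun x => by
    obtain ⟨l, hl, h⟩ := hcover x
    exact ⟨l, hl, centralizer_le (by simp) h⟩
  -- inside `L`
  have hto : orderOf (φ ⟨t, hVL htV⟩) = 2 := by
    rw [φ.orderOf_eq, Subgroup.orderOf_mk]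
    exact orderOf_eq_prime (by rw [sq]; exact ht2) ht1
  have hCt : Nat.card (L ⊓ centralizer ({t} : Set Q) : Subgroup Q) =
      if Fintype.card F % 4 = 1 then Fintype.card F - 1 else Fintype.card F + 1 := by
    rw [← PSL2.card_centralizer_involution hFodd hto]
    refine Nat.card_congr
      { toFun := fun x => ⟨φ ⟨x.1, x.2.1⟩, mem_centralizer_singleton_iff.2 ?_⟩
        invFun := fun z => ⟨(φ.symm z.1 : L), (φ.symm z.1).2, mem_centralizer_singleton_iff.2 ?_⟩
        left_inv := fun x => Subtype.ext (by simp)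
        right_inv := fun z => Subtype.ext (by simp) }
    · rw [← map_mul, ← map_mul]
      exact congrArg φ (Subtype.ext (mem_centralizer_singleton_iff.1 x.2.2))
    · have h := congrArg φ.symm (mem_centralizer_singleton_iff.1 z.2)
      rw [map_mul, map_mul, MulEquiv.symm_apply_apply] at h
      exact congrArg Subtype.val h
  have hCV : L ⊓ centralizer ({t, y} : Set Q) = V := by
    refine le_antisymm (fun x hx => ?_) (le_inf hVL ?_)
    · have hW : IsKleinFour ((V.subgroupOf L).map φ.toMonoidHom) :=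
        PSL2.isKleinFour_map _ φ.injective hVk
      obtain ⟨w, hw, hwx⟩ := psl_centralizer_four hFodd hW (g := φ ⟨x, hx.1⟩) (by
        rintro _ ⟨⟨w, hwL⟩, hw, rfl⟩
        refine ((map_mul φ _ _).symm.trans ?_).trans (map_mul φ _ _)
        refine congrArg φ (Subtype.ext ?_)
        show x * w = w * x
        have hxt : x * t = t * x := (Subgroup.mem_centralizer_iff.1 hx.2 t (by simp)).symm
        have hxy : x * y = y * x := (Subgroup.mem_centralizer_iff.1 hx.2 y (by simp)).symm
        rcases (hViff w).1 (mem_subgroupOf.1 hw) with h | h | h | h <;> rw [h]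
        · simp
        · exact hxt
        · exact hxy
        · rw [← mul_assoc, hxt, mul_assoc, hxy, ← mul_assoc])
      have := φ.injective hwx
      rw [this] at hw
      exact mem_subgroupOf.1 hw
    · intro v hv
      refine Subgroup.mem_centralizer_iff.2 ?_
      intro z hz
      have hzV : z ∈ V := by
        rcases hz with rfl | rfl
        exacts [htV, hyV]
      calc z * v = (z * v)⁻¹ := (inv_eq_of_mul_eq_one_right (hVsq _ (mul_mem hzV hv))).symm
        _ = v⁻¹ * z⁻¹ := mul_inv_rev z v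
        _ = v * z := by
          rw [inv_eq_of_mul_eq_one_right (hVsq v hv), inv_eq_of_mul_eq_one_right (hVsq z hzV)]
  -- arithmetic
  have hcardL := PSL2.card_psl (F := F)
  rw [← Nat.card_congr φ.toEquiv] at hcardL
  have hQ : Nat.card Q = L.index * Nat.card L := by rw [mul_comm]; exact L.card_mul_index.symm
  have hi : 1 ≤ L.index := Nat.one_le_iff_ne_zero.2 index_ne_zero_of_finite
  have hqo := Nat.odd_iff.1 hFodd
  set q := Fintype.card F with hq
  rw [show Nat.gcd 2 (q - 1) = 2 from Nat.gcd_eq_left (by omega)] at hcardL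
  have hcV : Nat.card (centralizer ({t, y} : Set Q)) = L.index * 4 := by
    rw [card_eq_index_mul hcover, hCV, hV4]
  have hct := card_eq_index_mul hcover1
  rw [hCt] at hct
  by_cases hq4 : q % 4 = 1
  · obtain ⟨m, hm⟩ : ∃ m, q = 4 * m + 1 := ⟨q / 4, by omega⟩
    rw [if_pos hq4] at hct
    have hL : Nat.card L = 4 * m * (4 * m + 1) * (2 * m + 1) := by
      rw [hm, show 4 * m + 1 - 1 = 4 * m by omega] at hcardL
      apply Nat.eq_of_mul_eq_mul_left two_pos
      rw [hcardL]; ring
    refine ⟨m, L.index, -1, Or.inr rfl, fun h => absurd h (by norm_num), ?_, hi, ?_, hcV, ?_⟩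
    · rw [Nat.odd_iff]
      by_contra hme
      obtain ⟨k, rfl⟩ : ∃ k, m = 2 * k := ⟨m / 2, by omega⟩
      exact h8L ⟨k * (4 * (2 * k) + 1) * (2 * (2 * k) + 1), by rw [hL]; ring⟩
    · rw [hct, hm]; congr 1
    · rw [hQ, hL]; push_cast; ring
  · obtain ⟨m, hm⟩ : ∃ m, q + 1 = 4 * m := ⟨(q + 1) / 4, by omega⟩
    rw [if_neg hq4] at hct
    obtain ⟨m', rfl⟩ : ∃ m', m = m' + 1 := ⟨m - 1, by omega⟩
    have hq' : q = 4 * m' + 3 := by omega
    have hL : Nat.card L = 4 * (m' + 1) * (4 * m' + 3) * (2 * m' + 1) := by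
      rw [hq', show 4 * m' + 3 - 1 = 4 * m' + 2 by omega] at hcardL
      apply Nat.eq_of_mul_eq_mul_left two_pos
      rw [hcardL]; ring
    have hodd : Odd (m' + 1) := by
      rw [Nat.odd_iff]
      by_contra hme
      obtain ⟨k, hk⟩ : ∃ k, m' + 1 = 2 * k := ⟨(m' + 1) / 2, by omega⟩
      exact h8L ⟨k * (4 * m' + 3) * (2 * m' + 1), by rw [hL, hk]; ring⟩
    refine ⟨m' + 1, L.index, 1, Or.inl rfl, fun _ => ?_, hodd, hi, ?_, hcV, ?_⟩
    · have := Nat.odd_iff.1 hodd; omega
    · rw [hct, hq']; ring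
    · rw [hQ, hL]; push_cast; ring

end Quotient

/-- The orders in a group with Sylow 2-subgroups of order four containing `A₅`. -/
theorem four_structure {X : Type u} [Group X] [Finite X]
    (h4 : ∀ S : Sylow 2 X, Nat.card (S : Subgroup X) = 4)
    (D : Subgroup X) (e : D ≃* Model.A5) {t : X} (ht : t ∈ D) (ht2 : t * t = 1) (ht1 : t ≠ 1) :
    ∃ (r c cV m i : ℕ) (ε : ℤ), (ε = 1 ∨ ε = -1) ∧ (ε = 1 → 3 ≤ m) ∧ Odd c ∧ Odd m ∧ 1 ≤ i ∧ cV ∣ c ∧
      r * cV ^ 2 = c ^ 3 ∧
      Nat.card (centralizer ({t} : Set X)) = 4 * (c * m * i) ∧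
      Nat.card (centralizer ((Five.four D t : Subgroup X) : Set X)) = 4 * (cV * i) ∧
      (Nat.card X : ℤ) = r * i * (4 * m * (4 * m - ε) * (2 * m - ε)) := by
  classical
  haveI : Fact (Nat.Prime 2) := ⟨Nat.prime_two⟩
  set R := GW.coreIn (⊤ : Subgroup X) with hR
  have hRodd : Odd (Nat.card R) := GW.odd_card_coreIn _
  have hRn : ∀ (x : X), ∀ z ∈ R, x * z * x⁻¹ ∈ R := fun x z hz => GW.conj_mem_coreIn (mem_top x) hz
  let π : X →* GW.CaseOne.Tp (⊤ : Subgroup X) :=
    (QuotientGroup.mk' _).comp topEquiv.symm.toMonoidHom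
  have hπ : ∀ x, π x = GW.CaseOne.bar ⊤ x := fun x => (GW.CaseOne.bar_of_mem (mem_top x)).symm
  -- the involutions of the four group
  obtain ⟨g, hg, hg3, -, hgne, hgm⟩ := Five.three_four e ht ht2 ht1
  set y := g * t * g⁻¹ with hy
  have hyD : y ∈ D := hgm.1
  have hty : t * y = y * t := (Five.mem_four.1 hgm).2.symm
  have hy2 : y * y = 1 := Five.sq_of_mem_four e ht ht2 ht1 hgm
  have hy1 : y ≠ 1 := fun h => ht1 (conj_eq_one_iff.1 h)
  obtain ⟨y', hy'D, -, hy'1, hy't, -, hiff'⟩ := Five.four_elems e ht ht2 ht1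
  have hiff : ∀ v, v ∈ Five.four D t ↔ v = 1 ∨ v = t ∨ v = y ∨ v = t * y := by
    intro v
    rw [hiff']
    rcases (hiff' y).1 hgm with h | h | h | h
    · exact absurd h hy1
    · exact absurd h hgne
    · rw [h]
    · rw [h, ← mul_assoc, ht2, one_mul]; tauto
  have hgy : g * y * g⁻¹ = t * y := by
    have hm : g * y * g⁻¹ ∈ Five.four D t := by
      rw [← Five.four_eq_of_mem e ht ht2 ht1 hgm hy1]
      refine Five.mem_four.2 ⟨D.mul_mem (D.mul_mem hg hyD) (D.inv_mem hg), ?_⟩
      calc g * y * g⁻¹ * y = g * y * g⁻¹ * (g * t * g⁻¹) := by rw [← hy]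
        _ = g * (y * t) * g⁻¹ := by group
        _ = g * (t * y) * g⁻¹ := by rw [hty]
        _ = (g * t * g⁻¹) * (g * y * g⁻¹) := by group
        _ = y * (g * y * g⁻¹) := by rw [← hy]
    rcases (hiff _).1 hm with h | h | h | h
    · exact absurd (conj_eq_one_iff.1 h) hy1
    · exfalso
      apply hgne
      have hg3' : g * g * g = 1 := by rw [← hg3]; simp [pow_succ]
      have h3 : g * g * g * t * (g * g * g)⁻¹ = t := by rw [hg3']; group
      have h2 : g * t * g⁻¹ = g * g * g * t * (g * g * g)⁻¹ := by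
        calc g * t * g⁻¹ = g * (g * y * g⁻¹) * g⁻¹ := by rw [h]
          _ = g * (g * (g * t * g⁻¹) * g⁻¹) * g⁻¹ := by rw [← hy]
          _ = _ := by group
      exact h2.trans h3
    · exfalso
      apply hgne
      calc y = g⁻¹ * (g * y * g⁻¹) * g := by group
        _ = g⁻¹ * y * g := by rw [h]
        _ = t := by rw [hy]; group
    · exact h
  -- the quotient
  have hcardX : Nat.card X = Nat.card R * Nat.card (GW.CaseOne.Tp (⊤ : Subgroup X)) := by
    rw [← card_top (G := X)]; exact GW.CaseOne.card_eq_core_mul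
  have h8X : ¬ 8 ∣ Nat.card X := by
    intro h
    obtain ⟨S⟩ := (inferInstance : Nonempty (Sylow 2 X))
    have h' := Nat.le_of_dvd Nat.card_pos (S.pow_dvd_card_of_pow_dvd_card (n := 3) (by simpa using h))
    have := h4 S
    omega
  have h8 : ¬ 8 ∣ Nat.card (GW.CaseOne.Tp (⊤ : Subgroup X)) := fun h =>
    h8X (hcardX ▸ Dvd.dvd.mul_left h _)
  have hsimp : IsSimpleGroup D := Five.isSimple e
  have hDperf : D ≤ ⁅D, D⁆ := by
    rw [← map_subtype_commutator]
    rcases (show (_root_.commutator D).Normal from inferInstance).eq_bot_or_eq_top with h | h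
    · exfalso
      have hc := commutator_mem_commutator (mem_top (⟨g, hg⟩ : D)) (mem_top (⟨t, ht⟩ : D))
      rw [← _root_.commutator_def, h, mem_bot, commutatorElement_eq_one_iff_mul_comm] at hc
      have hc' : g * t = t * g := congrArg Subtype.val hc
      exact hgne (by rw [hy, hc', mul_inv_cancel_right])
    · rw [h, ← MonoidHom.range_eq_map, range_subtype]
  have hne : ∀ v : X, v * v = 1 → v ≠ 1 → π v ≠ 1 := fun v h2 h1 h => h1 (by
    rw [hπ, GW.CaseOne.bar_eq_one_iff (mem_top v)] at h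
    exact GW.CaseOne.sq_mem_coreIn_imp h2 h)
  obtain ⟨m, i, ε, hε, hm3, hm, hi, hCt, hCV, hQ⟩ :=
    four_quotient (Q := GW.CaseOne.Tp (⊤ : Subgroup X)) CfsgLib.PCore.pPrimeCore_quotient_pPrimeCore h8
      (D := D.map π) (by rw [← map_commutator]; exact map_mono hDperf)
      (t := π t) (y := π y) (g := π g) (mem_map_of_mem π ht) (mem_map_of_mem π hyD) (mem_map_of_mem π hg)
      (by rw [← map_mul, ht2, map_one]) (by rw [← map_mul, hy2, map_one]) (hne t ht2 ht1) (hne y hy2 hy1)
      (fun h => hne (t * y) (by rw [← mul_assoc, hty, mul_assoc y, ht2, mul_one, hy2])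
        (fun hc => hgne (by
          have := mul_left_cancel (hc.trans ht2.symm)
          exact this))
        (by rw [map_mul, h, ← map_mul, ht2, map_one]))
      (by rw [← map_mul, ← map_mul, hty]) (by rw [← map_inv, ← map_mul, ← map_mul])
      (by rw [← map_inv, ← map_mul, ← map_mul, ← map_mul, hgy])
  refine ⟨Nat.card R, Nat.card (R ⊓ centralizer ({t} : Set X) : Subgroup X),
    Nat.card (R ⊓ centralizer ({t} : Set X) ⊓ centralizer ({y} : Set X) : Subgroup X), m, i, ε,
    hε, hm3, ?_, hm, hi, card_dvd_of_le inf_le_left, ?_, ?_, ?_, ?_⟩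
  · exact hRodd.of_dvd_nat (card_dvd_of_le inf_le_left)
  · -- the three centralisers in the core are conjugate
    have hconjC : ∀ u : X, Nat.card (R ⊓ centralizer ({g * u * g⁻¹} : Set X) : Subgroup X) =
        Nat.card (R ⊓ centralizer ({u} : Set X) : Subgroup X) := by
      intro u
      have hto : ∀ x ∈ R ⊓ centralizer ({u} : Set X), g * x * g⁻¹ ∈ R ⊓ centralizer ({g * u * g⁻¹} : Set X) :=
        fun x hx => ⟨hRn g _ hx.1, mem_centralizer_singleton_iff.2 (by
          calc g * x * g⁻¹ * (g * u * g⁻¹) = g * (x * u) * g⁻¹ := by group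
            _ = g * (u * x) * g⁻¹ := by rw [mem_centralizer_singleton_iff.1 hx.2]
            _ = _ := by group)⟩
      have hinv : ∀ x ∈ R ⊓ centralizer ({g * u * g⁻¹} : Set X), g⁻¹ * x * g ∈ R ⊓ centralizer ({u} : Set X) :=
        fun x hx => ⟨by simpa using hRn g⁻¹ _ hx.1, mem_centralizer_singleton_iff.2 (by
          calc g⁻¹ * x * g * u = g⁻¹ * (x * (g * u * g⁻¹)) * g := by group
            _ = g⁻¹ * ((g * u * g⁻¹) * x) * g := by rw [mem_centralizer_singleton_iff.1 hx.2]
            _ = _ := by group)⟩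
      exact (Nat.card_congr
        { toFun := fun x => ⟨g * x.1 * g⁻¹, hto _ x.2⟩
          invFun := fun x => ⟨g⁻¹ * x.1 * g, hinv _ x.2⟩
          left_inv := fun x => Subtype.ext (show g⁻¹ * (g * (x : X) * g⁻¹) * g = (x : X) by group)
          right_inv := fun x => Subtype.ext (show g * (g⁻¹ * (x : X) * g) * g⁻¹ = (x : X) by group) }).symm
    have h1 : Nat.card (R ⊓ centralizer ({y} : Set X) : Subgroup X) =
        Nat.card (R ⊓ centralizer ({t} : Set X) : Subgroup X) := hconjC t
    have h2 : Nat.card (R ⊓ centralizer ({t * y} : Set X) : Subgroup X) =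
        Nat.card (R ⊓ centralizer ({y} : Set X) : Subgroup X) := by rw [← hgy]; exact hconjC y
    have := GW.CaseOne.card_four hRodd ht2 hy2 hty
      (fun x hx => by have := hRn t x hx; rwa [inv_eq_of_mul_eq_one_right ht2] at this)
      (fun x hx => by have := hRn y x hx; rwa [inv_eq_of_mul_eq_one_right hy2] at this)
    rw [this, h2, h1]; ring
  · have := GW.CaseOne.card_centralizer_bar (M := (⊤ : Subgroup X)) ht2 (mem_top t)
    rw [top_inf_eq, ← hπ, hCt, ← hR] at this
    rw [this]; ring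
  · have := GW.CaseOne.card_centralizer_bar_two (M := (⊤ : Subgroup X)) ht2 hy2 hty (mem_top t) (mem_top y)
    rw [top_inf_eq, ← hπ, ← hπ, hCV, ← hR] at this
    have hcent : centralizer ((Five.four D t : Subgroup X) : Set X) = centralizer ({t, y} : Set X) := by
      refine le_antisymm (centralizer_le ?_) ?_
      · rintro z (rfl | rfl)
        · exact (hiff _).2 (by simp)
        · exact hgm
      · intro x hx
        have hxt : t * x = x * t := Subgroup.mem_centralizer_iff.1 hx t (by simp)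
        have hxy : y * x = x * y := Subgroup.mem_centralizer_iff.1 hx y (by simp)
        refine Subgroup.mem_centralizer_iff.2 fun v hv => ?_
        rcases (hiff v).1 hv with h | h | h | h <;> rw [h]
        · simp
        · exact hxt
        · exact hxy
        · rw [mul_assoc, hxy, ← mul_assoc, hxt, mul_assoc]
    rw [hcent, this]; ring
  · rw [hcardX, Nat.cast_mul, hQ]; ring

end CfsgLib.TwoTransAFive
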