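import Cfsg.Agent.Lib.TwoTransAFive.EvenCore
import Cfsg.Agent.Lib.TwoTransAFive.FourSylow

/-!
`S3262`, `n` even: twelve points.
-/

set_option autoImplicit false

namespace CfsgLib.TwoTransAFive

open Subgroup MulAction

variable {G : Type*} [Group G] {Ω : Type*} [MulAction G Ω]

theorem Hyp.eq_twelve_of_even [Finite G] [Finite Ω] [FaithfulSMul G Ω] (H : Hyp G Ω)
    (he : Even (Nat.card Ω)) : Nat.card Ω = 12 := by
  obtain ⟨a, b, hab⟩ := H.exists_pair
  obtain ⟨t, ht, ht2, ht1⟩ := H.exists_invol hab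
  obtain ⟨h4, D, t', ⟨e⟩, htD, ht2', ht1', hC, hCV⟩ := H.stab_facts he hab ht ht2 ht1
  obtain ⟨r, c, cV, m, i, ε, h1, h2, h3, h4', h5, h6, h7, h8, h9, h10⟩ := four_structure h4 D e htD ht2' ht1'
  rw [hC] at h8
  rw [hCV] at h9
  rw [H.card_stab a] at h10
  exact H.twelve_of_numbers he ⟨r, c, cV, m, i, ε, h1, h2, h3, h4', h5, h6, h7, h8, h9, h10⟩

end CfsgLib.TwoTransAFive
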