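import Cfsg.Agent.Lib.TwoTransAFive.Count
import Mathlib.GroupTheory.Perm.Cycle.Type
import Mathlib.Data.Nat.Factorization.Basic

/-!
`S3262`: `C(t) ∩ N(V)` is sharply two-transitive modulo `V` on the fixed points of `V`.

* `h` odd: for each point, the elements outside `V` squaring into `V` and fixing it form one coset of `V`;
* `h` even: `h` is a power of two.
-/

set_option autoImplicit false

namespace CfsgLib.TwoTransAFive

open Subgroup MulAction

variable {G : Type*} [Group G] {Ω : Type*} [MulAction G Ω]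

/-- `C(t) ∩ N(V)` -/
def cn (V : Subgroup G) (t : G) : Subgroup G :=
  centralizer ({t} : Set G) ⊓ normalizer (V : Set G)

/-- The elements of `C(t) ∩ N(V)` outside `V` squaring into `V`. -/
def invSet (V : Subgroup G) (t : G) : Set G := {g | g ∈ cn V t ∧ g * g ∈ V ∧ g ∉ V}

theorem conj_mem_of_cn {V : Subgroup G} {t w v : G} (hw : w ∈ cn V t) (hv : v ∈ V) : w * v * w⁻¹ ∈ V :=
  ((Subgroup.mem_normalizer_iff (H := V)).1 hw.2 v).1 hv

theorem mem_fix_iff {g : G} {x : Ω} : x ∈ fix Ω g ↔ g • x = x := Iff.rfl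

namespace Hyp

variable (H : Hyp G Ω)
include H

theorem le_cn {V : Subgroup G} (hV : IsFour Ω V) {t : G} (htV : t ∈ V) (ht1 : t ≠ 1) : V ≤ cn V t :=
  le_inf (H.four_le_cent hV htV ht1) Subgroup.le_normalizer

theorem cn_pair {V : Subgroup G} (hV : IsFour Ω V) {t : G} (htV : t ∈ V) (ht1 : t ≠ 1) {g : G} {x y : Ω}
    (hg : g ∈ cn V t) (hxy : x ≠ y) (hx : x ∈ fixSub Ω V) (hy : y ∈ fixSub Ω V) (hgx : g • x = x)
    (hgy : g • y = y) : g ∈ V := by
  rw [← H.four_unique hV htV ht1 hxy hx hy]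
  exact ⟨mem_pairStab.2 ⟨hgx, hgy⟩, hg.1⟩

theorem mul_mem_invSet {V : Subgroup G} (hV : IsFour Ω V) {t : G} (htV : t ∈ V) (ht1 : t ≠ 1) {g v : G}
    (hg : g ∈ invSet V t) (hv : v ∈ V) : g * v ∈ invSet V t := by
  obtain ⟨hgW, hg2, hgV⟩ := hg
  refine ⟨mul_mem hgW (H.le_cn hV htV ht1 hv), ?_, fun h => hgV ?_⟩
  · have : g * v * (g * v) = g * g * ((g⁻¹ * v * g) * v) := by group
    rw [this]
    refine mul_mem hg2 (mul_mem ?_ hv)
    have h := conj_mem_of_cn (inv_mem hgW) hv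
    rwa [inv_inv] at h
  · have h' := mul_mem h (inv_mem hv)
    rwa [mul_inv_cancel_right] at h'

theorem fixed_subsingleton {V : Subgroup G} (hV : IsFour Ω V) {t : G} (htV : t ∈ V) (ht1 : t ≠ 1) {g : G}
    (hg : g ∈ invSet V t) : {x ∈ fixSub Ω V | g • x = x}.Subsingleton := fun x hx y hy => by
  by_contra hxy
  exact hg.2.2 (H.cn_pair hV htV ht1 hg.1 hxy hx.1 hy.1 hx.2 hy.2)

variable [Finite Ω]

theorem ncard_fixed_mod_two {V : Subgroup G} (hV : IsFour Ω V) {t : G} {g : G} (hg : g ∈ invSet V t) :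
    {x ∈ fixSub Ω V | g • x = x}.ncard % 2 = H.hNum % 2 := by
  rw [← H.ncard_fixSub hV]
  exact (ncard_mod_two (fixSub Ω V) (Set.toFinite _) (fun x => g • x)
    (fun x hx => norm_smul_mem_fixSub hg.1.2 hx) (fun x hx => by rw [← mul_smul]; exact hx _ hg.2.1)).symm

theorem ncard_fixed {V : Subgroup G} (hV : IsFour Ω V) {t : G} (htV : t ∈ V) (ht1 : t ≠ 1) {g : G}
    (hg : g ∈ invSet V t) : {x ∈ fixSub Ω V | g • x = x}.ncard = H.hNum % 2 := by
  have h1 := H.ncard_fixed_mod_two hV hg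
  have h2 : {x ∈ fixSub Ω V | g • x = x}.ncard ≤ 1 :=
    Set.ncard_le_one_iff_subsingleton.2 (H.fixed_subsingleton hV htV ht1 hg)
  omega

theorem exists_fixed {V : Subgroup G} (hV : IsFour Ω V) {t : G} (htV : t ∈ V) (ht1 : t ≠ 1)
    (hodd : Odd H.hNum) {g : G} (hg : g ∈ invSet V t) :
    ∃ a ∈ fixSub Ω V, g • a = a ∧ ∀ x ∈ fixSub Ω V, g • x = x → x = a := by
  obtain ⟨a, ha⟩ := Set.ncard_eq_one.1 ((H.ncard_fixed hV htV ht1 hg).trans (Nat.odd_iff.1 hodd))
  have h : a ∈ {x ∈ fixSub Ω V | g • x = x} := by rw [ha]; rfl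
  exact ⟨a, h.1, h.2, fun x hx hgx => (H.fixed_subsingleton hV htV ht1 hg) ⟨hx, hgx⟩ h⟩

variable [Finite G]

/-- each ordered pair of fixed points of `V` is interchanged by four of these elements -/
theorem ncard_swap {V : Subgroup G} (hV : IsFour Ω V) {t : G} (htV : t ∈ V) (ht1 : t ≠ 1) {x y : Ω}
    (hxy : x ≠ y) (hx : x ∈ fixSub Ω V) (hy : y ∈ fixSub Ω V) :
    {g ∈ invSet V t | g • x = y}.ncard = 4 := by
  obtain ⟨g, hg, hgx, hgy⟩ := H.cent_norm_pair hV htV ht1 hxy hx hy (Ne.symm hxy) hy hx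
  have hgV : g ∉ V := fun h => hxy ((hx g h).symm.trans hgx)
  have hginv : g ∈ invSet V t := ⟨hg, H.cn_pair hV htV ht1 (mul_mem hg hg) hxy hx hy
    (by rw [mul_smul, hgx, hgy]) (by rw [mul_smul, hgy, hgx]), hgV⟩
  have : {k ∈ invSet V t | k • x = y} = (fun v => g * v) '' (V : Set G) := by
    ext k
    constructor
    · rintro ⟨⟨hk, hk2, hkV⟩, hkx⟩
      have hky : k • y = x := by rw [← hkx, ← mul_smul]; exact hx _ hk2
      refine ⟨g⁻¹ * k, H.cn_pair hV htV ht1 (mul_mem (inv_mem hg) hk) hxy hx hy ?_ ?_, mul_inv_cancel_left g k⟩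
      · rw [mul_smul, hkx, ← hgx, inv_smul_smul]
      · rw [mul_smul, hky, ← hgy, inv_smul_smul]
    · rintro ⟨v, hv, rfl⟩
      exact ⟨H.mul_mem_invSet hV htV ht1 hginv hv, by rw [mul_smul, hx v hv, hgx]⟩
  rw [this, Set.ncard_image_of_injective _ (mul_right_injective g), ← Nat.card_coe_set_eq]
  exact H.card_isFour hV

/-- the double count -/
theorem ncard_invSet_mul {V : Subgroup G} (hV : IsFour Ω V) {t : G} (htV : t ∈ V) (ht1 : t ≠ 1) :
    (invSet V t).ncard * (H.hNum - H.hNum % 2) = 4 * (H.hNum * (H.hNum - 1)) := by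
  classical
  have := Fintype.ofFinite G
  have := Fintype.ofFinite Ω
  let S : Finset G := Finset.univ.filter fun g => g ∈ invSet V t
  let F : Finset Ω := Finset.univ.filter fun x => x ∈ fixSub Ω V
  let r : G → Ω × Ω → Prop := fun g p => g • p.1 = p.2
  have hF : F.card = H.hNum := by
    rw [← H.ncard_fixSub hV, ← Set.ncard_coe_finset]; simp [F]
  have h1 : ∀ g ∈ S, (F.offDiag.bipartiteAbove r g).card = H.hNum - H.hNum % 2 := by
    intro g hg
    have hg' : g ∈ invSet V t := (Finset.mem_filter.1 hg).2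
    have hsub : F.filter (fun x => g • x = x) ⊆ F := Finset.filter_subset _ _
    have hfx : (F.filter fun x => g • x = x).card = H.hNum % 2 := by
      rw [← H.ncard_fixed hV htV ht1 hg', ← Set.ncard_coe_finset]; simp [F]
    have himg : F.offDiag.bipartiteAbove r g =
        (F \ F.filter fun x => g • x = x).image fun x => (x, g • x) := by
      ext ⟨x, y⟩
      simp only [Finset.bipartiteAbove, r, Finset.mem_filter, Finset.mem_offDiag, Finset.mem_image,
        Finset.mem_sdiff, Prod.mk.injEq, F, Finset.mem_univ, true_and]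
      constructor
      · rintro ⟨⟨hx, -, hne⟩, hxy⟩
        exact ⟨x, ⟨hx, fun hc => hne (hc.2.symm.trans hxy)⟩, rfl, hxy⟩
      · rintro ⟨z, ⟨hz, hne⟩, rfl, rfl⟩
        exact ⟨⟨hz, norm_smul_mem_fixSub hg'.1.2 hz, fun hc => hne ⟨hz, hc.symm⟩⟩, rfl⟩
    rw [himg, Finset.card_image_of_injective _ (fun x y h => (Prod.ext_iff.1 h).1),
      Finset.card_sdiff_of_subset hsub, hfx, hF]
  have h2 : ∀ p ∈ F.offDiag, (S.bipartiteBelow r p).card = 4 := by
    intro p hp
    obtain ⟨hx, hy, hne⟩ := Finset.mem_offDiag.1 hp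
    rw [← H.ncard_swap hV htV ht1 hne (Finset.mem_filter.1 hx).2 (Finset.mem_filter.1 hy).2,
      ← Set.ncard_coe_finset]
    simp [Finset.bipartiteBelow, S, r]
  have := Finset.card_mul_eq_card_mul r h1 h2
  have hS : (invSet V t).ncard = S.card := by rw [← Set.ncard_coe_finset]; simp [S]
  rw [hS, this, Finset.offDiag_card, hF, Nat.mul_sub_one, mul_comm]

theorem ncard_fibre_eq {V : Subgroup G} (hV : IsFour Ω V) {t : G} (htV : t ∈ V) (ht1 : t ≠ 1) {a b : Ω}
    (ha : a ∈ fixSub Ω V) (hb : b ∈ fixSub Ω V) :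
    {g ∈ invSet V t | g • a = a}.ncard = {g ∈ invSet V t | g • b = b}.ncard := by
  by_cases hab : a = b
  · rw [hab]
  obtain ⟨w, hw, hwa, -⟩ := H.cent_norm_pair hV htV ht1 hab ha hb (Ne.symm hab) hb ha
  have hc : ∀ {w : G} {p q : Ω}, w ∈ cn V t → w • p = q → ∀ g ∈ {g ∈ invSet V t | g • p = p},
      w * g * w⁻¹ ∈ {g ∈ invSet V t | g • q = q} := by
    intro w p q hw hwp g hg
    obtain ⟨⟨hgW, hg2, hgV⟩, hgp⟩ := hg
    refine ⟨⟨mul_mem (mul_mem hw hgW) (inv_mem hw), ?_, fun h => hgV ?_⟩, ?_⟩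
    · rw [show w * g * w⁻¹ * (w * g * w⁻¹) = w * (g * g) * w⁻¹ by group]
      exact conj_mem_of_cn hw hg2
    · have := conj_mem_of_cn (inv_mem hw) h
      rwa [show w⁻¹ * (w * g * w⁻¹) * w⁻¹⁻¹ = g by group] at this
    · rw [← hwp, mul_smul, mul_smul, inv_smul_smul, hgp]
  have : {g ∈ invSet V t | g • b = b} = (fun g => w * g * w⁻¹) '' {g ∈ invSet V t | g • a = a} := by
    ext k
    constructor
    · intro hk
      refine ⟨w⁻¹ * k * w⁻¹⁻¹, hc (inv_mem hw) (by rw [← hwa, inv_smul_smul]) k hk, by group⟩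
    · rintro ⟨g, hg, rfl⟩
      exact hc hw hwa g hg
  rw [this, Set.ncard_image_of_injective _ fun x y h => mul_left_cancel (mul_right_cancel h)]

/-- `h` odd: one coset per point -/
theorem sharp_unique {V : Subgroup G} (hV : IsFour Ω V) {t : G} (htV : t ∈ V) (ht1 : t ≠ 1)
    (hodd : Odd H.hNum) {g k : G} {a : Ω} (ha : a ∈ fixSub Ω V) (hg : g ∈ invSet V t) (hga : g • a = a)
    (hk : k ∈ invSet V t) (hka : k • a = a) : g⁻¹ * k ∈ V := by
  classical
  have := Fintype.ofFinite G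
  have := Fintype.ofFinite Ω
  have h2 := H.two_le_hNum
  have hm : H.hNum % 2 = 1 := Nat.odd_iff.1 hodd
  have htot : (invSet V t).ncard = 4 * H.hNum := by
    have h := H.ncard_invSet_mul hV htV ht1
    rw [hm, ← mul_assoc] at h
    exact Nat.eq_of_mul_eq_mul_right (by omega) h
  have hU : invSet V t = ⋃ x ∈ fixSub Ω V, {g ∈ invSet V t | g • x = x} := by
    ext z
    simp only [Set.mem_iUnion, exists_prop]
    constructor
    · intro hz
      obtain ⟨x, hx, hzx, -⟩ := H.exists_fixed hV htV ht1 hodd hz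
      exact ⟨x, hx, hz, hzx⟩
    · rintro ⟨x, -, hz, -⟩
      exact hz
  have hsum : (invSet V t).ncard = H.hNum * {g ∈ invSet V t | g • a = a}.ncard := by
    conv_lhs => rw [hU]
    rw [(Set.toFinite (fixSub Ω V)).ncard_biUnion (fun x _ => Set.toFinite _),
      finsum_mem_eq_finite_toFinset_sum _ (Set.toFinite _)]
    · rw [Finset.sum_congr rfl fun x hx => H.ncard_fibre_eq hV htV ht1 ((Set.Finite.mem_toFinset _).1 hx) ha,
        Finset.sum_const, ← Set.ncard_eq_toFinset_card, H.ncard_fixSub hV, smul_eq_mul]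
    · intro x hx y hy hxy
      rw [Function.onFun, Set.disjoint_left]
      rintro z ⟨hz, hzx⟩ ⟨-, hzy⟩
      exact hxy (H.fixed_subsingleton hV htV ht1 hz ⟨hx, hzx⟩ ⟨hy, hzy⟩)
  have hfour : {g ∈ invSet V t | g • a = a}.ncard = 4 := by
    rw [htot, mul_comm] at hsum
    exact (Nat.eq_of_mul_eq_mul_left (by omega) hsum).symm
  have hsub : (fun v => g * v) '' (V : Set G) ⊆ {g ∈ invSet V t | g • a = a} := by
    rintro _ ⟨v, hv, rfl⟩
    exact ⟨H.mul_mem_invSet hV htV ht1 hg hv, by rw [mul_smul, ha v hv, hga]⟩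
  have heq := Set.eq_of_subset_of_ncard_le hsub (by
    rw [hfour, Set.ncard_image_of_injective _ (mul_right_injective g), ← Nat.card_coe_set_eq]
    exact (H.card_isFour hV).ge) (Set.toFinite _)
  obtain ⟨v, hv, rfl⟩ := heq.ge ⟨hk, hka⟩
  rwa [inv_mul_cancel_left]

/-- `h` even: an element of `C(t) ∩ N(V)` without fixed points squares into `V` -/
theorem sq_mem_of_no_fixed {V : Subgroup G} (hV : IsFour Ω V) {t : G} (htV : t ∈ V) (ht1 : t ≠ 1)
    (heven : Even H.hNum) {g : G} (hg : g ∈ cn V t) (hfx : ∀ x ∈ fixSub Ω V, g • x ≠ x) : g * g ∈ V := by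
  classical
  have := Fintype.ofFinite G
  have := Fintype.ofFinite Ω
  have h2 := H.two_le_hNum
  have hm : H.hNum % 2 = 0 := Nat.even_iff.1 heven
  have htot : (invSet V t).ncard = 4 * (H.hNum - 1) := by
    have h := H.ncard_invSet_mul hV htV ht1
    rw [hm, Nat.sub_zero, ← mul_assoc, mul_comm 4 H.hNum, mul_comm, mul_assoc] at h
    exact Nat.eq_of_mul_eq_mul_left (by omega) h
  let W : Set G := (cn V t : Set G)
  let P : Ω → Set G := fun x => ((cn V t ⊓ stabilizer G x : Subgroup G) : Set G) \ (V : Set G)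
  let Z : Set G := {k ∈ W | ∀ x ∈ fixSub Ω V, k • x ≠ x}
  have hVW := H.le_cn hV htV ht1
  have hsplit : W = (V : Set G) ∪ ((⋃ x ∈ fixSub Ω V, P x) ∪ Z) := by
    ext k
    simp only [Set.mem_union, Set.mem_iUnion, exists_prop, W, P, Z, Set.mem_sdiff, SetLike.mem_coe,
      Subgroup.mem_inf, mem_stabilizer_iff, Set.mem_setOf_eq]
    constructor
    · intro hk
      by_cases hkV : k ∈ V
      · exact Or.inl hkV
      by_cases hz : ∀ x ∈ fixSub Ω V, k • x ≠ x
      · exact Or.inr (Or.inr ⟨hk, hz⟩)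
      push Not at hz
      obtain ⟨x, hx, hkx⟩ := hz
      exact Or.inr (Or.inl ⟨x, hx, ⟨hk, hkx⟩, hkV⟩)
    · rintro (hk | ⟨x, -, ⟨hk, -⟩, -⟩ | ⟨hk, -⟩)
      · exact hVW hk
      · exact hk
      · exact hk
  have hcW : W.ncard = 4 * (H.hNum * (H.hNum - 1)) := by
    rw [← H.card_cent_norm hV htV ht1, ← Nat.card_coe_set_eq]; rfl
  have hcV : (V : Set G).ncard = 4 := by rw [← Nat.card_coe_set_eq]; exact H.card_isFour hV
  have hcP : ∀ x ∈ fixSub Ω V, (P x).ncard = 4 * (H.hNum - 1) - 4 := by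
    intro x hx
    rw [Set.ncard_sdiff (show (V : Set G) ⊆ ((cn V t ⊓ stabilizer G x : Subgroup G) : Set G) from
      fun v hv => ⟨hVW hv, hx v hv⟩) (Set.toFinite _), hcV,
      ← H.card_cent_norm_stab hV htV ht1 hx, ← Nat.card_coe_set_eq]
    rfl
  have hdisP : ((fixSub Ω V) : Set Ω).PairwiseDisjoint P := by
    intro x hx y hy hxy
    rw [Function.onFun, Set.disjoint_left]
    rintro k ⟨⟨hk, hkx⟩, hkV⟩ ⟨⟨-, hky⟩, -⟩
    exact hkV (H.cn_pair hV htV ht1 hk hxy hx hy hkx hky)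
  have hcU : (⋃ x ∈ fixSub Ω V, P x).ncard = H.hNum * (4 * (H.hNum - 1) - 4) := by
    rw [(Set.toFinite (fixSub Ω V)).ncard_biUnion (fun x _ => Set.toFinite _) hdisP,
      finsum_mem_eq_finite_toFinset_sum _ (Set.toFinite _),
      Finset.sum_congr rfl fun x hx => hcP x ((Set.Finite.mem_toFinset _).1 hx),
      Finset.sum_const, ← Set.ncard_eq_toFinset_card, H.ncard_fixSub hV, smul_eq_mul]
  have hd2 : Disjoint (⋃ x ∈ fixSub Ω V, P x) Z := by
    rw [Set.disjoint_left]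
    intro k hk hz
    simp only [Set.mem_iUnion, exists_prop] at hk
    obtain ⟨x, hx, ⟨-, hkx⟩, -⟩ := hk
    exact hz.2 x hx hkx
  have hd1 : Disjoint (V : Set G) ((⋃ x ∈ fixSub Ω V, P x) ∪ Z) := by
    rw [Set.disjoint_left]
    intro k hk hk'
    rcases hk' with hk' | hk'
    · simp only [Set.mem_iUnion, exists_prop] at hk'
      obtain ⟨x, -, -, hn⟩ := hk'
      exact hn hk
    · obtain ⟨a, -, -, ha, -⟩ := H.exists_pair_fixSub hV
      exact hk'.2 a ha (ha k hk)
  have hcZ : Z.ncard ≤ (invSet V t).ncard := by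
    rw [hsplit, Set.ncard_union_eq hd1 (Set.toFinite _) (Set.toFinite _),
      Set.ncard_union_eq hd2 (Set.toFinite _) (Set.toFinite _), hcV, hcU] at hcW
    rw [htot]
    obtain ⟨h', hh'⟩ : ∃ h', H.hNum = h' + 2 := ⟨H.hNum - 2, by omega⟩
    rw [hh'] at hcW ⊢
    have e1 : h' + 2 - 1 = h' + 1 := by omega
    have e2 : 4 * (h' + 1) - 4 = 4 * h' := by omega
    rw [e1, e2] at hcW
    rw [e1]
    nlinarith
  have hIZ : invSet V t ⊆ Z := by
    intro k hk
    refine ⟨hk.1, fun x hx hkx => ?_⟩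
    have h0 := H.ncard_fixed hV htV ht1 hk
    rw [hm, Set.ncard_eq_zero (Set.toFinite _)] at h0
    exact (Set.eq_empty_iff_forall_notMem.1 h0 x) ⟨hx, hkx⟩
  exact ((Set.eq_of_subset_of_ncard_le hIZ hcZ (Set.toFinite _)).ge ⟨hg, hfx⟩).2.1

/-- `h` even: `h` is a power of two -/
theorem hNum_two_pow (heven : Even H.hNum) : ∃ l : ℕ, 1 ≤ l ∧ H.hNum = 2 ^ l := by
  have h2 := H.two_le_hNum
  refine ⟨H.hNum.primeFactorsList.length, ?_, Nat.eq_prime_pow_of_unique_prime_dvd (by omega) ?_⟩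
  · have : 2 ∈ H.hNum.primeFactorsList :=
      (Nat.mem_primeFactorsList (by omega)).2 ⟨Nat.prime_two, even_iff_two_dvd.1 heven⟩
    exact List.length_pos_of_mem this
  intro p hp hpd
  by_contra hp2
  obtain ⟨V, hV⟩ := H.exists_four
  obtain ⟨t, htV, ht1⟩ := H.exists_mem_four hV
  haveI := Fact.mk hp
  have hW : p ∣ Nat.card (cn V t) := by
    rw [show Nat.card (cn V t) = _ from H.card_cent_norm hV htV ht1]
    exact (hpd.mul_right _).mul_left _
  obtain ⟨g, hg⟩ := exists_prime_orderOf_dvd_card' p hW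
  rw [← Subgroup.orderOf_coe] at hg
  have hpodd : p % 2 = 1 := (hp.eq_two_or_odd).resolve_left hp2
  have hgV : (g : G) ∉ V := fun h => by
    have := V.orderOf_dvd_natCard h
    rw [hg, H.card_isFour hV] at this
    have := (Nat.prime_dvd_prime_iff_eq hp Nat.prime_two).1 (hp.dvd_of_dvd_pow (show p ∣ 2 ^ 2 from this))
    exact hp2 this
  have hfx : ∀ x ∈ fixSub Ω V, (g : G) • x ≠ x := by
    intro x hx hgx
    have h := (cn V t ⊓ stabilizer G x).orderOf_dvd_natCard (x := (g : G)) ⟨g.2, hgx⟩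
    rw [hg, show Nat.card (cn V t ⊓ stabilizer G x : Subgroup G) = _ from H.card_cent_norm_stab hV htV ht1 hx] at h
    rcases hp.dvd_mul.1 h with h | h
    · exact hp2 ((Nat.prime_dvd_prime_iff_eq hp Nat.prime_two).1 (hp.dvd_of_dvd_pow (show p ∣ 2 ^ 2 from h)))
    · have := Nat.dvd_sub hpd h
      rw [show H.hNum - (H.hNum - 1) = 1 by omega] at this
      exact hp.ne_one (Nat.dvd_one.1 this)
  have hsq := H.sq_mem_of_no_fixed hV htV ht1 heven g.2 hfx
  refine hgV ?_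
  have : (g : G) = ((g : G) * g) ^ ((p + 1) / 2) := by
    rw [← pow_two, ← pow_mul, show 2 * ((p + 1) / 2) = p + 1 by omega, pow_succ, ← hg, pow_orderOf_eq_one,
      one_mul]
  rw [this]
  exact pow_mem hsq _

end Hyp

end CfsgLib.TwoTransAFive
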