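import Cfsg.Agent.Lib.TwoTransAFive.Arith
import Cfsg.Agent.Lib.TwoTransAFive.Sharp
import Mathlib.Tactic.Positivity
import Mathlib.RingTheory.Int.Basic

/-!
`S3262`, `n` even: the point stabiliser satisfies the hypotheses of the Sylow-four structure theorem,
and the numbers it gives force `n = 12`.
-/

set_option autoImplicit false

namespace CfsgLib.TwoTransAFive

open Subgroup MulAction

universe u

variable {G : Type u} [Group G] {Ω : Type*} [MulAction G Ω]

/-- The conclusion of the structure theorem for Sylow-four groups containing `A₅`. -/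
def FourNumbers (cX cT cV' : ℕ) : Prop :=
  ∃ (r c cV m i : ℕ) (ε : ℤ), (ε = 1 ∨ ε = -1) ∧ (ε = 1 → 3 ≤ m) ∧ Odd c ∧ Odd m ∧ 1 ≤ i ∧ cV ∣ c ∧
    r * cV ^ 2 = c ^ 3 ∧ cT = 4 * (c * m * i) ∧ cV' = 4 * (cV * i) ∧
    (cX : ℤ) = r * i * (4 * m * (4 * m - ε) * (2 * m - ε))

namespace Hyp

variable (H : Hyp G Ω) [Finite G] [Finite Ω]
include H

theorem stab_facts (he : Even (Nat.card Ω)) {a b : Ω} (hab : a ≠ b) {t : G} (ht : t ∈ pairStab a b)
    (ht2 : t * t = 1) (ht1 : t ≠ 1) :
    (∀ S : Sylow 2 (stabilizer G a), Nat.card (S : Subgroup (stabilizer G a)) = 4) ∧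
      ∃ (D : Subgroup (stabilizer G a)) (t' : stabilizer G a), Nonempty (D ≃* Model.A5) ∧ t' ∈ D ∧
        t' * t' = 1 ∧ t' ≠ 1 ∧
        Nat.card (centralizer ({t'} : Set (stabilizer G a))) = 4 * (H.fNum - 1) ∧
        Nat.card (centralizer ((Five.four D t' : Subgroup (stabilizer G a)) : Set (stabilizer G a))) =
          4 * (H.hNum - 1) := by
  obtain ⟨e⟩ := H.iso a b hab
  have hle : pairStab a b ≤ stabilizer G a := inf_le_left
  have hn2 : 2 ≤ Nat.card Ω := by
    rw [← Set.ncard_univ, ← Set.ncard_pair hab]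
    exact Set.ncard_le_ncard (Set.subset_univ _)
  refine ⟨fun S => ?_, (pairStab a b).subgroupOf (stabilizer G a), ⟨t, hle ht⟩,
    ⟨(Subgroup.subgroupOfEquivOfLe hle).trans e⟩, mem_subgroupOf.2 ht, Subtype.ext ht2,
    fun h => ht1 (congrArg Subtype.val h), ?_, ?_⟩
  · haveI : Fact (Nat.Prime 2) := ⟨Nat.prime_two⟩
    have hn := Nat.even_iff.1 he
    rw [S.card_eq_multiplicity, H.card_stab a, Nat.mul_comm, show 60 = 2 ^ 2 * 15 by norm_num, mul_assoc,
      Nat.factorization_mul (by norm_num) (by omega), Finsupp.add_apply,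
      Nat.prime_two.factorization_pow, Finsupp.single_eq_same,
      Nat.factorization_eq_zero_of_not_dvd (fun h => by
        rcases Nat.prime_two.dvd_mul.1 h with h | h <;> omega)]
    norm_num
  · rw [← H.card_cent_stab (H.isT_of_mem hab ht ht2 ht1) (a := a) (mem_pairStab.1 ht).1]
    exact Nat.card_congr
      { toFun := fun g => ⟨((g : stabilizer G a) : G),
          mem_centralizer_singleton_iff.2 (congrArg Subtype.val (mem_centralizer_singleton_iff.1 g.2)),
          (g : stabilizer G a).2⟩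
        invFun := fun g => ⟨⟨g, g.2.2⟩,
          mem_centralizer_singleton_iff.2 (Subtype.ext (mem_centralizer_singleton_iff.1 g.2.1))⟩
        left_inv := fun g => rfl
        right_inv := fun g => rfl }
  · have hV := H.isFour_four hab ht ht2 ht1
    have htV : t ∈ Five.four (pairStab a b) t := ⟨ht, mem_centralizer_singleton_iff.2 rfl⟩
    have haV : a ∈ fixSub Ω (Five.four (pairStab a b) t) := fun v hv => (mem_pairStab.1 hv.1).1
    set V := Five.four (pairStab a b) t with hVdef
    set Y := cn V t ⊓ stabilizer G a with hY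
    have hYc : Nat.card Y = 4 * (H.hNum - 1) := H.card_cent_norm_stab hV htV ht1 haV
    have hVY : V ≤ Y := le_inf (H.le_cn hV htV ht1) fun v hv => haV v hv
    have hh : H.hNum % 2 = 0 := by
      have h1 := H.card_mod_two
      have h2 := H.hNum_mod_two
      have h3 := Nat.even_iff.1 he
      omega
    have h2h := H.two_le_hNum
    haveI hVn : (V.subgroupOf Y).Normal := ⟨fun x hx g => mem_subgroupOf.2 (conj_mem_of_cn g.2.1 (mem_subgroupOf.1 hx))⟩
    have hidx : (V.subgroupOf Y).index = H.hNum - 1 := by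
      have h := (V.subgroupOf Y).card_mul_index
      rw [Nat.card_congr (Subgroup.subgroupOfEquivOfLe hVY).toEquiv, H.card_isFour hV, hYc] at h
      exact Nat.eq_of_mul_eq_mul_left (by norm_num) h
    obtain ⟨u, huD, hu2, hu1, hut, htu, hiff⟩ := Five.four_elems e ht ht2 ht1
    have huV : u ∈ V := (hiff u).2 (by simp)
    have hcomV : ∀ p ∈ V, ∀ q ∈ V, p * q = q * p := fun p hp q hq => by
      rcases (hiff p).1 hp with rfl | rfl | rfl | rfl <;>
        rcases (hiff q).1 hq with rfl | rfl | rfl | rfl <;>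
        first
          | rfl
          | simp
          | exact htu
          | exact htu.symm
          | (rw [← mul_assoc, ht2, one_mul, htu, mul_assoc, ht2, mul_one])
          | (rw [← mul_assoc, ht2, one_mul, mul_assoc, ← htu, ← mul_assoc, ht2, one_mul])
          | (rw [mul_assoc, hu2, mul_one, ← mul_assoc, ← htu, mul_assoc, hu2, mul_one])
          | (rw [← mul_assoc, ← htu, mul_assoc, hu2, mul_one, mul_assoc, hu2, mul_one])
    have hcent : ∀ g ∈ Y, g * u = u * g := by
      intro g hg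
      have hgt : g * t * g⁻¹ = t := mul_inv_eq_iff_eq_mul.2 (mem_centralizer_singleton_iff.1 hg.1.1)
      have himg : g * u * g⁻¹ = u ∨ g * u * g⁻¹ = t * u := by
        rcases (hiff _).1 (conj_mem_of_cn hg.1 huV) with h | h | h | h
        · exact absurd (conj_eq_one_iff.1 h) hu1
        · exact absurd (mul_left_cancel (mul_right_cancel (h.trans hgt.symm))) hut
        · exact Or.inl h
        · exact Or.inr h
      have hsq : Commute (g * g) u := by
        refine mul_inv_eq_iff_eq_mul.1 ?_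
        rw [show g * g * u * (g * g)⁻¹ = g * (g * u * g⁻¹) * g⁻¹ by group]
        rcases himg with h | h <;> rw [h]
        · exact h
        · rw [show g * (t * u) * g⁻¹ = g * t * g⁻¹ * (g * u * g⁻¹) by group, hgt, h, ← mul_assoc, ht2, one_mul]
      have hpow := (V.subgroupOf Y).pow_index_mem (⟨g, hg⟩ : Y)
      rw [hidx, mem_subgroupOf, Subgroup.coe_pow] at hpow
      obtain ⟨j, hj⟩ : ∃ j, H.hNum - 1 = 2 * j + 1 := ⟨(H.hNum - 1) / 2, by omega⟩
      have hpow' : Commute (g ^ (2 * j + 1)) u := hj ▸ hcomV _ hpow u huV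
      have hg' : g = ((g * g) ^ j)⁻¹ * g ^ (2 * j + 1) := by
        rw [pow_succ, pow_mul, pow_two, inv_mul_cancel_left]
      rw [hg']
      exact (((hsq.pow_left j).inv_left).mul_left hpow').eq
    rw [← hYc]
    exact Nat.card_congr
      { toFun := fun g => ⟨((g : stabilizer G a) : G), by
          refine Subgroup.mem_inf.2 ⟨⟨?_, ?_⟩, (g : stabilizer G a).2⟩
          · exact mem_centralizer_singleton_iff.2 (congrArg Subtype.val
              (mem_centralizer_iff.1 g.2 ⟨t, hle ht⟩ ⟨mem_subgroupOf.2 ht, mem_centralizer_singleton_iff.2 rfl⟩)).symm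
          · refine Subgroup.centralizer_le_normalizer _ (mem_centralizer_iff.2 fun w hw => ?_)
            exact congrArg Subtype.val (mem_centralizer_iff.1 g.2 ⟨w, hle hw.1⟩
              ⟨mem_subgroupOf.2 hw.1, mem_centralizer_singleton_iff.2
                (Subtype.ext (mem_centralizer_singleton_iff.1 hw.2))⟩)⟩
        invFun := fun g => ⟨⟨g, g.2.2⟩, by
          refine mem_centralizer_iff.2 fun w hw => ?_
          obtain ⟨hw1, hw2⟩ := hw
          have hwV : (w : G) ∈ V := ⟨mem_subgroupOf.1 hw1,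
            mem_centralizer_singleton_iff.2 (congrArg Subtype.val (mem_centralizer_singleton_iff.1 hw2))⟩
          refine Subtype.ext ?_
          show (w : G) * g = g * w
          have hgt : (g : G) * t = t * g := mem_centralizer_singleton_iff.1 g.2.1.1
          rcases (hiff _).1 hwV with h | h | h | h <;> rw [h]
          · simp
          · exact hgt.symm
          · exact (hcent g g.2).symm
          · rw [mul_assoc, ← hcent g g.2, ← mul_assoc, ← hgt, mul_assoc]⟩
        left_inv := fun g => rfl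
        right_inv := fun g => rfl }

/-- the numbers force twelve points -/
theorem twelve_of_numbers [FaithfulSMul G Ω] (he : Even (Nat.card Ω))
    (hN : FourNumbers ((Nat.card Ω - 1) * 60) (4 * (H.fNum - 1)) (4 * (H.hNum - 1))) : Nat.card Ω = 12 := by
  obtain ⟨r0, c, cV, m, i, ε, hε, hm, hco, hmo, hi, hdvd, hr0, hT, hV, hX⟩ := hN
  have hh : Even H.hNum := by
    rw [Nat.even_iff]
    have h1 := H.card_mod_two
    have h2 := H.hNum_mod_two
    have h3 := Nat.even_iff.1 he
    omega
  obtain ⟨l, hl, hpow⟩ := H.hNum_two_pow hh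
  have h2h := H.two_le_hNum
  have hhf := H.hNum_le_fNum
  have hfn := H.fNum_lt
  have hT' := H.card_T
  have hce := H.count_even
  obtain ⟨rho, hrho⟩ := hdvd
  obtain ⟨V, hVf⟩ := H.exists_four
  obtain ⟨t, htV, ht1⟩ := H.exists_mem_four hVf
  have hLag : 4 * (H.hNum * (H.hNum - 1)) ∣ 4 * (H.fNum * (H.fNum - 1)) := by
    rw [← H.card_cent_norm hVf htV ht1, ← H.card_cent (H.isT_of_mem_four hVf htV ht1)]
    exact Subgroup.card_dvd_of_le inf_le_left
  have hLag' := Nat.dvd_of_mul_dvd_mul_left (by norm_num : 0 < 4) hLag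
  generalize {g : G | IsT Ω g}.ncard = cT' at hT'
  generalize H.fNum = f at *
  generalize H.hNum = h at *
  generalize Nat.card Ω = n at *
  obtain ⟨f', rfl⟩ : ∃ f', f = f' + 1 := ⟨f - 1, by omega⟩
  obtain ⟨h', rfl⟩ : ∃ h', h = h' + 1 := ⟨h - 1, by omega⟩
  obtain ⟨n', rfl⟩ : ∃ n', n = n' + 1 := ⟨n - 1, by omega⟩
  simp only [Nat.add_sub_cancel] at *
  have hcVpos : 0 < cV := by
    rcases Nat.eq_zero_or_pos cV with h0 | h0
    · subst h0; simp at hV; omega
    · exact h0
  have eF : f' = c * m * i := by omega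
  have eH : h' = cV * i := by omega
  subst hrho
  have er0 : r0 = rho ^ 3 * cV := by
    refine Nat.eq_of_mul_eq_mul_right (pow_pos hcVpos 2) ?_
    rw [hr0]; ring
  have hrodd : Odd (rho * m) := (Nat.odd_mul.1 hco).2.mul hmo
  have hf' : (f' : ℤ) = (rho : ℤ) * m * h' := by rw [eF, eH]; push_cast; ring
  -- `15 (n - 1) = (f - 1) P`
  have h15 : 15 * (n' : ℤ) = (f' : ℤ) * ((4 * ((rho : ℤ) * m) - ε * rho) * (2 * ((rho : ℤ) * m) - ε * rho)) := by
    rw [er0] at hX
    push_cast at hX
    rw [hf', eH]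
    push_cast
    linarith [hX, show ((rho : ℤ) ^ 3 * cV * i * (4 * m * (4 * m - ε) * (2 * m - ε))) =
      4 * ((rho : ℤ) * m * (cV * i) * ((4 * ((rho : ℤ) * m) - ε * rho) * (2 * ((rho : ℤ) * m) - ε * rho))) by ring]
  set P := (4 * ((rho : ℤ) * m) - ε * rho) * (2 * ((rho : ℤ) * m) - ε * rho) with hP
  have hfpos : (0 : ℤ) < f' := by omega
  have hr : ((h' : ℤ) + 1) ∣ (rho : ℤ) * m - 1 := by
    have h1 : ((h' : ℤ) + 1) * h' ∣ ((f' : ℤ) + 1) * f' := by exact_mod_cast hLag'
    rw [hf', show ((rho : ℤ) * m * h' + 1) * ((rho : ℤ) * m * h') = ((rho : ℤ) * m * h' + 1) * (rho * m) * h' by ring] at h1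
    have h2 : ((h' : ℤ) + 1) ∣ ((rho : ℤ) * m * h' + 1) * (rho * m) :=
      (mul_dvd_mul_iff_right (by omega : (h' : ℤ) ≠ 0)).1 h1
    have h3 : ((h' : ℤ) + 1) ∣ ((rho : ℤ) * m - 1) * (rho * m) := by
      have h4 : ((h' : ℤ) + 1) ∣ ((h' : ℤ) + 1) * (((rho : ℤ) * m) * (rho * m)) := Dvd.intro _ rfl
      have h5 := dvd_sub h4 h2
      rwa [show ((h' : ℤ) + 1) * (((rho : ℤ) * m) * (rho * m)) - ((rho : ℤ) * m * h' + 1) * (rho * m) =
        ((rho : ℤ) * m - 1) * (rho * m) by ring] at h5
    refine Int.dvd_of_dvd_mul_left_of_gcd_one h3 ?_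
    show Nat.gcd ((h' : ℤ) + 1).natAbs ((rho : ℤ) * m).natAbs = 1
    rw [show ((h' : ℤ) + 1).natAbs = h' + 1 by omega, show ((rho : ℤ) * m).natAbs = rho * m by
      rw [Int.natAbs_mul, Int.natAbs_natCast, Int.natAbs_natCast], hpow]
    exact Nat.Coprime.pow_left _ (Nat.coprime_two_left.2 hrodd)
  have hrho : 0 < rho := Nat.pos_of_ne_zero fun h0 => by subst h0; simp at hrodd
  have hkey := Arith.unique (h := (h' : ℤ) + 1) (r := (rho : ℤ) * m) (y := ε * rho) (f := (f' : ℤ) + 1)
    (n := (n' : ℤ) + 1) (l := l) (by exact_mod_cast hpow) hl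
    (by have := hrodd.pos; exact_mod_cast this) hr
    (by rcases hε with rfl | rfl
        · rw [one_mul]; exact Dvd.intro _ rfl
        · rw [neg_one_mul, neg_dvd]; exact Dvd.intro _ rfl)
    (fun hy => by
      rcases hε with rfl | rfl
      · have h3 : (3 : ℤ) ≤ m := by exact_mod_cast hm rfl
        have h4 : (0 : ℤ) ≤ rho := by positivity
        nlinarith
      · exfalso; omega)
    (by rw [hf']; ring)
    (by rw [add_sub_cancel_right, add_sub_cancel_right]; exact h15)
    (by
      have h1 : ((15 * (n' + 1 - (f' + 1)) : ℕ) : ℤ) ≤ ((16 * ((f' + 1) * f') : ℕ) : ℤ) := by exact_mod_cast hce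
      rw [Nat.cast_mul, Nat.cast_sub (by omega)] at h1
      push_cast at h1
      have h2 : (f' : ℤ) * (P - 15) ≤ (f' : ℤ) * (16 * ((f' : ℤ) + 1)) := by linarith [h15, h1]
      have := le_of_mul_le_mul_left h2 hfpos
      linarith)
    (by
      have h1 : ((cT' * ((f' + 1) * f') : ℕ) : ℤ) = ((15 * ((n' + 1) * n') : ℕ) : ℤ) := by exact_mod_cast hT'
      push_cast at h1
      refine ⟨cT', ?_⟩
      have h2 : (f' : ℤ) * (((n' : ℤ) + 1) * P) = (f' : ℤ) * (((f' : ℤ) + 1) * cT') := by
        rw [show (f' : ℤ) * (((n' : ℤ) + 1) * P) = ((n' : ℤ) + 1) * ((f' : ℤ) * P) by ring, ← h15]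
        linarith [h1]
      exact mul_left_cancel₀ hfpos.ne' h2)
    (by omega)
  omega

end Hyp

end CfsgLib.TwoTransAFive
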