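import Cfsg.Agent.Lib.TwoTransAFive.Model
import Mathlib.GroupTheory.SpecificGroups.Alternating.Simple
import Mathlib.GroupTheory.Subgroup.Centralizer
import Mathlib.Tactic.Group

/-!
Subgroups isomorphic to `A₅`: four groups, automorphisms fixing a four group, three-elements.
-/

set_option autoImplicit false

namespace CfsgLib.TwoTransAFive.Five

open Model Subgroup

variable {G : Type*} [Group G] {D : Subgroup G} (e : D ≃* A5)

/-- The four group of an involution of `D`. -/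
def four (D : Subgroup G) (x : G) : Subgroup G := D ⊓ centralizer ({x} : Set G)

theorem mem_four {x g : G} : g ∈ four D x ↔ g ∈ D ∧ g * x = x * g := by
  rw [four, mem_inf, mem_centralizer_singleton_iff]

include e

theorem card_D : Nat.card D = 60 := by
  rw [Nat.card_congr e.toEquiv, Nat.card_eq_fintype_card, card_all]

theorem pow_cases {x : G} (hx : x ∈ D) : x ^ 2 = 1 ∨ x ^ 3 = 1 ∨ x ^ 5 = 1 := by
  have key : ∀ n : ℕ, (e ⟨x, hx⟩) ^ n = 1 → x ^ n = 1 := fun n h => by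
    rw [← map_pow, ← map_one e] at h
    exact congrArg Subtype.val (e.injective h)
  exact (Model.pow_cases (e ⟨x, hx⟩)).imp (key 2) (Or.imp (key 3) (key 5))

/-- every pair of involutions of `D` is conjugate in `D` -/
theorem invol_conj {x y : G} (hx : x ∈ D) (hy : y ∈ D) (hx2 : x * x = 1) (hy2 : y * y = 1)
    (hx1 : x ≠ 1) (hy1 : y ≠ 1) : ∃ g ∈ D, g * x * g⁻¹ = y := by
  have h2 : ∀ {z : D}, (z : G) * z = 1 → e z * e z = 1 := fun {z} h => by
    rw [← map_mul, ← map_one e]; exact congrArg e (Subtype.ext h)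
  have h1 : ∀ {z : D}, (z : G) ≠ 1 → e z ≠ 1 := fun {z} h h' => h (by
    rw [← map_one e] at h'; rw [e.injective h']; rfl)
  obtain ⟨g, hg⟩ := Model.invol_conj (e ⟨x, hx⟩) (h2 hx2) (h1 hx1)
  obtain ⟨k, hk⟩ := Model.invol_conj (e ⟨y, hy⟩) (h2 hy2) (h1 hy1)
  refine ⟨(e.symm (k⁻¹ * g) : D), SetLike.coe_mem _, ?_⟩
  have h : e.symm (k⁻¹ * g) * (⟨x, hx⟩ : D) * (e.symm (k⁻¹ * g))⁻¹ = ⟨y, hy⟩ := by
    apply e.injective
    rw [map_mul, map_mul, map_inv, MulEquiv.apply_symm_apply]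
    calc k⁻¹ * g * e ⟨x, hx⟩ * (k⁻¹ * g)⁻¹ = k⁻¹ * (g * e ⟨x, hx⟩ * g⁻¹) * k := by group
      _ = k⁻¹ * (k * e ⟨y, hy⟩ * k⁻¹) * k := by rw [hg, hk]
      _ = e ⟨y, hy⟩ := by group
  exact congrArg Subtype.val h

/-- a chart sending a given involution to the standard one -/
theorem exists_chart {x : G} (hx : x ∈ D) (hx2 : x * x = 1) (hx1 : x ≠ 1) :
    ∃ f : D ≃* A5, f ⟨x, hx⟩ = x0 := by
  obtain ⟨g, hg⟩ := Model.invol_conj (e ⟨x, hx⟩)
    (by rw [← map_mul, ← map_one e]; exact congrArg e (Subtype.ext hx2))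
    (fun h => hx1 (by rw [← map_one e] at h; exact congrArg Subtype.val (e.injective h)))
  exact ⟨e.trans (MulAut.conj g), by simpa using hg⟩

omit e in
theorem four_iff {x : G} (hx : x ∈ D) (f : D ≃* A5) (hf : f ⟨x, hx⟩ = x0) (g : D) :
    (g : G) ∈ four D x ↔ f g = 1 ∨ f g = x0 ∨ f g = y0 ∨ f g = x0 * y0 := by
  rw [mem_four]
  constructor
  · rintro ⟨-, h⟩
    refine cent_x0 (f g) ?_
    rw [← hf, ← map_mul, ← map_mul]
    exact congrArg f (Subtype.ext h)
  · intro h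
    refine ⟨g.2, ?_⟩
    have hc : f g * x0 = x0 * f g := by
      rcases h with h | h | h | h <;> rw [h] <;> decide +kernel
    rw [← hf, ← map_mul, ← map_mul] at hc
    exact congrArg Subtype.val (f.injective hc)

/-- the four group of an involution, elementwise -/
theorem four_elems {x : G} (hx : x ∈ D) (hx2 : x * x = 1) (hx1 : x ≠ 1) :
    ∃ y : G, y ∈ D ∧ y * y = 1 ∧ y ≠ 1 ∧ y ≠ x ∧ x * y = y * x ∧
      ∀ g, g ∈ four D x ↔ g = 1 ∨ g = x ∨ g = y ∨ g = x * y := by
  obtain ⟨f, hf⟩ := exists_chart e hx hx2 hx1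
  obtain ⟨h1, h2, h3, h4, h5, h6⟩ := four_x0
  have hfx : ((f.symm x0 : D) : G) = x := by rw [← hf, MulEquiv.symm_apply_apply]
  refine ⟨(f.symm y0 : D), SetLike.coe_mem _, ?_, ?_, ?_, ?_, fun g => ⟨fun hg => ?_, fun hg => ?_⟩⟩
  · rw [← Subgroup.coe_mul, ← map_mul, h3, map_one]; rfl
  · intro h; apply h4; rw [← f.apply_symm_apply y0, Subtype.ext (a1 := f.symm y0) (a2 := 1) h, map_one]
  · intro h; apply h5; rw [← hfx] at h; exact (f.symm.injective (Subtype.ext h)).symm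
  · rw [← hfx, ← Subgroup.coe_mul, ← Subgroup.coe_mul, ← map_mul, ← map_mul, h6]
  · obtain h | h | h | h := (four_iff hx f hf ⟨g, hg.1⟩).1 hg <;>
      have h' := congrArg (fun z : A5 => ((f.symm z : D) : G)) h <;>
      simp only [MulEquiv.symm_apply_apply, map_one, map_mul, Subgroup.coe_one, Subgroup.coe_mul, hfx] at h' <;>
      simp [h']
  · obtain ⟨z, rfl, hz⟩ : ∃ z : A5, ((f.symm z : D) : G) = g ∧ (z = 1 ∨ z = x0 ∨ z = y0 ∨ z = x0 * y0) := by
      rcases hg with rfl | rfl | rfl | rfl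
      · exact ⟨1, by simp, by simp⟩
      · exact ⟨x0, hfx, by simp⟩
      · exact ⟨y0, rfl, by simp⟩
      · exact ⟨x0 * y0, by rw [map_mul, Subgroup.coe_mul, hfx], by simp⟩
    exact (four_iff hx f hf _).2 (by rw [MulEquiv.apply_symm_apply]; exact hz)

theorem sq_of_mem_four {x v : G} (hx : x ∈ D) (hx2 : x * x = 1) (hx1 : x ≠ 1) (hv : v ∈ four D x) :
    v * v = 1 := by
  obtain ⟨y, -, hy2, -, -, hxy, hiff⟩ := four_elems e hx hx2 hx1
  rcases (hiff v).1 hv with rfl | rfl | rfl | rfl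
  · simp
  · exact hx2
  · exact hy2
  · rw [mul_assoc, ← mul_assoc y, ← hxy, mul_assoc x y, hy2, mul_one, hx2]

theorem card_four {x : G} (hx : x ∈ D) (hx2 : x * x = 1) (hx1 : x ≠ 1) : Nat.card (four D x) = 4 := by
  classical
  obtain ⟨y, -, hy2, hy1, hyx, hxy, hiff⟩ := four_elems e hx hx2 hx1
  have hset : (four D x : Set G) = (({1, x, y, x * y} : Finset G) : Set G) := by
    ext g; simp [SetLike.mem_coe, hiff]
  have h1 : x * y ≠ 1 := fun h => hyx (mul_left_cancel (h.trans hx2.symm))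
  have h2 : x * y ≠ x := fun h => hy1 (mul_eq_left.1 h)
  have h3 : x * y ≠ y := fun h => hx1 (mul_eq_right.1 h)
  rw [← SetLike.coe_sort_coe, hset, Nat.card_coe_set_eq, Set.ncard_coe_finset]
  rw [Finset.card_insert_of_notMem, Finset.card_insert_of_notMem, Finset.card_insert_of_notMem,
    Finset.card_singleton] <;> simp [hx1.symm, hy1.symm, h1.symm, hyx.symm, h2.symm, h3.symm]

/-- a four group is the four group of each of its involutions -/
theorem four_eq_of_mem {x v : G} (hx : x ∈ D) (hx2 : x * x = 1) (hx1 : x ≠ 1) (hv : v ∈ four D x)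
    (hv1 : v ≠ 1) : four D v = four D x := by
  have hvD : v ∈ D := hv.1
  have hv2 := sq_of_mem_four e hx hx2 hx1 hv
  have : Finite (four D v) := Nat.finite_of_card_ne_zero (by rw [card_four e hvD hv2 hv1]; norm_num)
  refine (Subgroup.eq_of_le_of_card_ge ?_ ?_).symm
  · intro g hg
    obtain ⟨y, -, -, -, -, hxy, hiff⟩ := four_elems e hx hx2 hx1
    refine mem_four.2 ⟨hg.1, ?_⟩
    have hc : ∀ p ∈ four D x, ∀ q ∈ four D x, p * q = q * p := fun p hp q hq => by
      have h1 := sq_of_mem_four e hx hx2 hx1 hp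
      have h2 := sq_of_mem_four e hx hx2 hx1 hq
      have h3 := sq_of_mem_four e hx hx2 hx1 (mul_mem hp hq)
      calc p * q = (p * q)⁻¹ := (inv_eq_of_mul_eq_one_left h3).symm
        _ = q⁻¹ * p⁻¹ := mul_inv_rev p q
        _ = q * p := by rw [inv_eq_of_mul_eq_one_left h1, inv_eq_of_mul_eq_one_left h2]
    exact hc g hg v hv
  · rw [card_four e hvD hv2 hv1, card_four e hx hx2 hx1]

/-- an element of order three permuting the four group of `x` transitively -/
theorem three_four {x : G} (hx : x ∈ D) (hx2 : x * x = 1) (hx1 : x ≠ 1) :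
    ∃ g ∈ D, g ^ 3 = 1 ∧ g ≠ 1 ∧ g * x * g⁻¹ ≠ x ∧ g * x * g⁻¹ ∈ four D x := by
  obtain ⟨f, hf⟩ := exists_chart e hx hx2 hx1
  obtain ⟨g, hg3, hg1, hgx, -⟩ := three_x0
  have hval : f.symm g * (⟨x, hx⟩ : D) * (f.symm g)⁻¹ = f.symm y0 := by
    apply f.injective; rw [map_mul, map_mul, map_inv, MulEquiv.apply_symm_apply, hf, hgx, f.apply_symm_apply]
  have hval' := congrArg Subtype.val hval
  refine ⟨(f.symm g : D), SetLike.coe_mem _, ?_, ?_, ?_, ?_⟩
  · rw [← Subgroup.coe_pow, ← map_pow, hg3, map_one]; rfl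
  · intro h; apply hg1; rw [← f.apply_symm_apply g, Subtype.ext (a1 := f.symm g) (a2 := 1) h, map_one]
  · intro h
    rw [show ((f.symm g : D) : G) * x * ((f.symm g : D) : G)⁻¹ = ((f.symm y0 : D) : G) from hval'] at h
    exact four_x0.2.2.2.2.1 ((f.apply_symm_apply y0).symm.trans ((congrArg f (Subtype.ext h)).trans hf)).symm
  · rw [show ((f.symm g : D) : G) * x * ((f.symm g : D) : G)⁻¹ = ((f.symm y0 : D) : G) from hval']
    exact (four_iff hx f hf _).2 (Or.inr (Or.inr (Or.inl (f.apply_symm_apply y0))))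

/-- two four groups have a common normalising element of order three -/
theorem three_common {x v : G} (hx : x ∈ D) (hv : v ∈ D) (hx2 : x * x = 1) (hv2 : v * v = 1)
    (hx1 : x ≠ 1) (hv1 : v ≠ 1) (hxv : v * x ≠ x * v) :
    ∃ g ∈ D, g ^ 3 = 1 ∧ g ≠ 1 ∧ g * x * g⁻¹ ∈ four D x ∧ g * v * g⁻¹ ∈ four D v := by
  obtain ⟨f, hf⟩ := exists_chart e hx hx2 hx1
  obtain ⟨g, hg3, hg1, hgx, hgv⟩ := Model.three_common (f ⟨v, hv⟩)
    (by rw [← map_mul, ← map_one f]; exact congrArg f (Subtype.ext hv2))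
    (fun h => hv1 (by rw [← map_one f] at h; exact congrArg Subtype.val (f.injective h)))
    (fun h => hxv (by
      rw [← hf, ← map_mul, ← map_mul] at h
      exact congrArg Subtype.val (f.injective h)))
  refine ⟨(f.symm g : D), SetLike.coe_mem _, ?_, ?_, mem_four.2 ⟨?_, ?_⟩, mem_four.2 ⟨?_, ?_⟩⟩
  · rw [← Subgroup.coe_pow, ← map_pow, hg3, map_one]; rfl
  · intro h; apply hg1; rw [← f.apply_symm_apply g, Subtype.ext (a1 := f.symm g) (a2 := 1) h, map_one]
  · exact D.mul_mem (D.mul_mem (SetLike.coe_mem _) hx) (D.inv_mem (SetLike.coe_mem _))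
  · refine congrArg Subtype.val (?_ : f.symm g * ⟨x, hx⟩ * (f.symm g)⁻¹ * ⟨x, hx⟩ =
      ⟨x, hx⟩ * (f.symm g * ⟨x, hx⟩ * (f.symm g)⁻¹))
    apply f.injective
    simp only [map_mul, map_inv, MulEquiv.apply_symm_apply, hf]
    exact hgx
  · exact D.mul_mem (D.mul_mem (SetLike.coe_mem _) hv) (D.inv_mem (SetLike.coe_mem _))
  · refine congrArg Subtype.val (?_ : f.symm g * ⟨v, hv⟩ * (f.symm g)⁻¹ * ⟨v, hv⟩ =
      ⟨v, hv⟩ * (f.symm g * ⟨v, hv⟩ * (f.symm g)⁻¹))
    apply f.injective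
    simp only [map_mul, map_inv, MulEquiv.apply_symm_apply]
    exact hgv

/-- `D` has fifteen involutions -/
theorem card_invol : Set.ncard {x : G | x ∈ D ∧ x * x = 1 ∧ x ≠ 1} = 15 := by
  classical
  have himg : {x : G | x ∈ D ∧ x * x = 1 ∧ x ≠ 1} =
      (fun z : A5 => ((e.symm z : D) : G)) ''
        ((Finset.univ.filter fun z : A5 => z * z = 1 ∧ z ≠ 1 : Finset A5) : Set A5) := by
    ext x
    simp only [Set.mem_setOf_eq, Set.mem_image, Finset.coe_filter, Finset.mem_univ, true_and]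
    constructor
    · rintro ⟨hx, h2, h1⟩
      refine ⟨e ⟨x, hx⟩, ⟨by rw [← map_mul, ← map_one e]; exact congrArg e (Subtype.ext h2),
        fun h => h1 (by rw [← map_one e] at h; exact congrArg Subtype.val (e.injective h))⟩, by simp⟩
    · rintro ⟨z, ⟨h2, h1⟩, rfl⟩
      refine ⟨SetLike.coe_mem _, by rw [← Subgroup.coe_mul, ← map_mul, h2, map_one]; rfl, fun h => h1 ?_⟩
      rw [← e.apply_symm_apply z, Subtype.ext (a1 := e.symm z) (a2 := 1) h, map_one]
  rw [himg, Set.ncard_image_of_injective _ (fun a b h => e.symm.injective (Subtype.val_injective h)),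
    Set.ncard_coe_finset, Model.card_invol]

/-- an automorphism fixing a four group pointwise is inner by an element of that four group -/
theorem aut_inner {x : G} (hx : x ∈ D) (hx2 : x * x = 1) (hx1 : x ≠ 1) (φ : D ≃* D)
    (hφ : ∀ g : D, (g : G) ∈ four D x → φ g = g) :
    ∃ v : D, (v : G) ∈ four D x ∧ ∀ g, φ g = v * g * v⁻¹ := by
  obtain ⟨f, hf⟩ := exists_chart e hx hx2 hx1
  have hfix : ∀ z, z = x0 ∨ z = y0 → f (φ (f.symm z)) = z := fun z hz => by
    rw [hφ _ ((four_iff hx f hf _).2 (by rw [f.apply_symm_apply]; rcases hz with rfl | rfl <;> simp)),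
      f.apply_symm_apply]
  obtain ⟨v, hv, hvφ⟩ := Model.aut_inner (f.symm.trans (φ.trans f)) (hfix _ (Or.inl rfl)) (hfix _ (Or.inr rfl))
  refine ⟨f.symm v, (four_iff hx f hf _).2 (by rw [f.apply_symm_apply]; exact cent_x0 v hv), fun g => ?_⟩
  apply f.injective
  rw [map_mul, map_mul, map_inv, f.apply_symm_apply, ← hvφ (f g)]
  simp

/-- `D` is simple -/
theorem isSimple : IsSimpleGroup D := by
  have : IsSimpleGroup A5 := alternatingGroup.isSimpleGroup (by simp)
  have : Nontrivial D := e.toEquiv.nontrivial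
  exact IsSimpleGroup.isSimpleGroup_of_surjective e.symm.toMonoidHom e.symm.surjective

end CfsgLib.TwoTransAFive.Five
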