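import Cfsg.Agent.Lib.TwoTransAFive.Low
import Cfsg.Agent.Lib.TwoTransAFive.Sharp
import Cfsg.Agent.Lib.SubgroupCount.Basic
import Mathlib.GroupTheory.Transfer

/-!
`S3262`: `n` odd, no extra element on a four group, `h < f`: impossible.
-/

set_option autoImplicit false

namespace CfsgLib.TwoTransAFive

open Subgroup MulAction

variable {G : Type*} [Group G] {Ω : Type*} [MulAction G Ω]

/-- A subgroup contains a last square root on the way to a given power of two. -/
theorem exists_sq_step {V : Subgroup G} {P : G → Prop} (hP : ∀ g, P g → P (g * g)) :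
    ∀ (k : ℕ) (n : G), P n → n ∉ V → n ^ (2 ^ k) ∈ V → ∃ g, P g ∧ g ∉ V ∧ g * g ∈ V := by
  intro k
  induction k with
  | zero => intro n _ hn h; rw [pow_zero, pow_one] at h; exact absurd h hn
  | succ k ih =>
    intro n hPn hn h
    by_cases h2 : n * n ∈ V
    · exact ⟨n, hPn, hn, h2⟩
    · refine ih (n * n) (hP n hPn) h2 ?_
      rw [← pow_two, ← pow_mul, ← pow_succ']
      exact h

namespace Hyp

variable (H : Hyp G Ω)
include H

theorem four_cases {V : Subgroup G} (hV : IsFour Ω V) {t w : G} (ht : t ∈ V) (ht1 : t ≠ 1) (hw : w ∈ V)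
    (hw1 : w ≠ 1) (hwt : w ≠ t) {x : G} (hx : x ∈ V) : x = 1 ∨ x = t ∨ x = w ∨ x = t * w := by
  have hc := H.card_isFour hV
  have : Finite V := Nat.finite_of_card_ne_zero (by rw [hc]; norm_num)
  have hfin : (V : Set G).Finite := Set.toFinite _
  have ht2 : t * t = 1 := (H.isT_of_mem_four hV ht ht1).1
  have htw : t * w ≠ 1 := fun h => hwt (by
    rw [eq_inv_of_mul_eq_one_right h, inv_eq_of_mul_eq_one_right ht2])
  have hE : ({1, t, w, t * w} : Set G) = (V : Set G) := by
    refine Set.eq_of_subset_of_ncard_le ?_ ?_ hfin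
    · simp [Set.insert_subset_iff, one_mem V, ht, hw, mul_mem ht hw]
    · rw [← Nat.card_coe_set_eq, show Nat.card ((V : Set G) : Type _) = 4 from hc,
        Set.ncard_insert_of_notMem (by simp [ht1.symm, hw1.symm, Ne.symm htw]),
        Set.ncard_insert_of_notMem (by simp [Ne.symm hwt, hw1]),
        Set.ncard_insert_of_notMem (by simp [ht1]), Set.ncard_singleton]
  have hx' : x ∈ ({1, t, w, t * w} : Set G) := by rw [hE]; exact hx
  simpa using hx'

theorem mem_centralizer_four {V : Subgroup G} (hV : IsFour Ω V) {t w : G} (ht : t ∈ V) (ht1 : t ≠ 1)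
    (hw : w ∈ V) (hw1 : w ≠ 1) (hwt : w ≠ t) {g : G} (hgt : g * t = t * g) (hgw : g * w = w * g) :
    g ∈ centralizer (V : Set G) := by
  refine mem_centralizer_iff.2 fun x hx => ?_
  rcases H.four_cases hV ht ht1 hw hw1 hwt hx with rfl | rfl | rfl | rfl
  · simp
  · exact hgt.symm
  · exact hgw.symm
  · exact ((show Commute g t from hgt).mul_right hgw).eq.symm

omit H in
theorem mem_of_two {V : Subgroup G} (hB : NoExtra Ω G) (hV : IsFour Ω V) :
    ∀ (k : ℕ) (g : G), g ∈ centralizer (V : Set G) → g ^ (2 ^ k) = 1 → g ∈ V := by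
  intro k
  induction k with
  | zero => intro g _ h; rw [pow_zero, pow_one] at h; rw [h]; exact one_mem V
  | succ k ih =>
    intro g hg h
    refine hB V hV g hg (ih _ (mul_mem hg hg) ?_)
    rw [← pow_two, ← pow_mul, ← pow_succ']
    exact h

theorem invSet_subset_sqT {V : Subgroup G} (hB : NoExtra Ω G) (hV : IsFour Ω V) {t : G} (ht : t ∈ V)
    (ht1 : t ≠ 1) : invSet V t ⊆ sqT t := by
  intro k hk
  obtain ⟨hkW, hk2, hkV⟩ := hk
  refine ⟨hkW.1, ?_, fun h => hkV (h ▸ one_mem V), fun h => hkV (h ▸ ht)⟩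
  by_contra hc
  push Not at hc
  exact hkV (hB V hV k (H.mem_centralizer_four hV ht ht1 hk2 hc.1 hc.2
    (mem_centralizer_singleton_iff.1 hkW.1) (mul_assoc k k k).symm) hk2)

theorem nOne_of_sq {t : G} (ht : IsT Ω t) {k : G} (hk : k * t = t * k) (hk2 : k * k = t) {a : Ω}
    (ha : a ∈ fix Ω t) (hka : k • a = a) : k ∈ nOne Ω t a := by
  have hk' : k ∈ sqT t := by
    refine ⟨mem_centralizer_singleton_iff.2 hk, Or.inr hk2, fun h => ht.2.1 ?_, fun h => ht.2.1 ?_⟩
    · rw [← hk2, h, one_mul]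
    · rw [h] at hk2
      exact mul_eq_left.1 hk2
  refine ⟨hk', hka, fun x hx hkx => ?_⟩
  by_contra hxa
  have h := Five.sq_of_mem_four (H.iso x a hxa).some (mem_pairStab.2 ⟨hx, ha⟩) ht.1 ht.2.1
    (H.sqT_pair hk' hxa hx ha hkx hka)
  exact ht.2.1 (hk2 ▸ h)

variable [Finite G] [Finite Ω] [FaithfulSMul G Ω]

/-- `n` odd, no extra elements: `h < f` is impossible. -/
theorem false_of_noExtra_low (hodd : Odd (Nat.card Ω)) (hB : NoExtra Ω G) (hlt : H.hNum < H.fNum) :
    False := by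
  classical
  have : Fact (Nat.Prime 2) := ⟨Nat.prime_two⟩
  have hn2 := Nat.odd_iff.1 hodd
  have hfodd : Odd H.fNum := Nat.odd_iff.2 (by rw [← H.card_mod_two]; exact hn2)
  have hhodd : Odd H.hNum := Nat.odd_iff.2 (by rw [H.hNum_mod_two]; exact Nat.odd_iff.1 hfodd)
  obtain ⟨V, hV⟩ := H.exists_four
  have hcV := H.card_isFour hV
  obtain ⟨S, hVS⟩ := (IsPGroup.of_card (p := 2) (G := V) (n := 2) (by rw [hcV]; norm_num)).exists_le_sylow
  -- a central involution
  have h8 : 2 ^ 3 ∣ Nat.card S := by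
    rw [S.card_eq_multiplicity]
    refine pow_dvd_pow 2 ((Nat.prime_two.pow_dvd_iff_le_factorization Nat.card_pos.ne').1 ?_)
    obtain ⟨k, hk⟩ : 2 ∣ Nat.card Ω - 1 := by omega
    rw [H.card_G, hk]
    exact ⟨Nat.card Ω * k * 15, by ring⟩
  have : Nontrivial S := Finite.one_lt_card_iff_nontrivial.1
    (lt_of_lt_of_le (by norm_num) (Nat.le_of_dvd Nat.card_pos h8))
  have hS2 : IsPGroup 2 S := S.2
  have := hS2.center_nontrivial
  obtain ⟨⟨t₀, ht₀⟩, hto⟩ := exists_prime_orderOf_dvd_card' 2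
    ((hS2.to_subgroup (center S)).card_eq_or_dvd.resolve_left Finite.one_lt_card.ne')
  rw [Subgroup.orderOf_mk, ← orderOf_coe] at hto
  set t : G := (t₀ : G) with htdef
  have ht2 : t * t = 1 := by rw [← pow_two, ← hto, pow_orderOf_eq_one]
  have ht1 : t ≠ 1 := fun h => by rw [h, orderOf_one] at hto; omega
  have htS : ∀ s ∈ (S : Subgroup G), s * t = t * s := fun s hs =>
    congrArg Subtype.val (mem_center_iff.1 ht₀ ⟨s, hs⟩)
  have htV : t ∈ V := mem_of_two hB hV 1 t (mem_centralizer_iff.2 fun v hv => htS v (hVS hv))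
    (by rw [pow_one, pow_two, ht2])
  have hT : IsT Ω t := H.isT_of_mem_four hV htV ht1
  -- an element of `N_S(V)` outside `V`
  obtain ⟨n, hnS, hnN, hnV⟩ : ∃ n ∈ (S : Subgroup G), n ∈ normalizer (V : Set G) ∧ n ∉ V := by
    have : Group.IsNilpotent S := hS2.isNilpotent
    have hlt' : V.subgroupOf S < ⊤ := lt_of_le_of_ne le_top fun h => by
      have h' := Nat.le_of_dvd Nat.card_pos (card_dvd_of_le (subgroupOf_eq_top.1 h))
      have h'' := Nat.le_of_dvd Nat.card_pos h8
      omega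
    obtain ⟨⟨n, hnS⟩, hn, hn'⟩ :=
      SetLike.exists_of_lt (Group.normalizerCondition_of_isNilpotent _ hlt')
    refine ⟨n, hnS, mem_normalizer_iff.2 fun x => ⟨fun hx => ?_, fun hx => ?_⟩,
      fun h => hn' (mem_subgroupOf.2 h)⟩
    · have := (mem_normalizer_iff.1 hn ⟨x, hVS hx⟩).1 (mem_subgroupOf.2 hx)
      simpa [mem_subgroupOf] using this
    · have hxS : x ∈ (S : Subgroup G) := by
        have := mul_mem (mul_mem (inv_mem hnS) (hVS hx)) hnS
        simpa [mul_assoc] using this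
      have := (mem_normalizer_iff.1 hn ⟨x, hxS⟩).2 (mem_subgroupOf.2 (by simpa using hx))
      simpa [mem_subgroupOf] using this
  obtain ⟨g₀, ⟨hg₀S, hg₀N⟩, hg₀V, hg₀2⟩ := exists_sq_step (V := V)
    (P := fun g => g ∈ (S : Subgroup G) ∧ g ∈ normalizer (V : Set G))
    (fun g hg => ⟨mul_mem hg.1 hg.1, mul_mem hg.2 hg.2⟩)
    (Nat.find (hS2 ⟨n, hnS⟩)) n ⟨hnS, hnN⟩ hnV (by
      have h := congrArg Subtype.val (Nat.find_spec (hS2 ⟨n, hnS⟩))
      simp only [SubmonoidClass.coe_pow, OneMemClass.coe_one] at h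
      rw [h]
      exact one_mem V)
  obtain ⟨u, huV, hu⟩ : ∃ u ∈ V, g₀ * u * g₀⁻¹ ≠ u := by
    by_contra hc
    push Not at hc
    exact hg₀V (hB V hV g₀
      (mem_centralizer_iff.2 fun v hv => (mul_inv_eq_iff_eq_mul.1 (hc v hv)).symm) hg₀2)
  have hg₀t : g₀ * t = t * g₀ := htS g₀ hg₀S
  have hu1 : u ≠ 1 := fun h => hu (by rw [h]; simp)
  have hut : u ≠ t := fun h => hu (by rw [h, hg₀t]; group)
  have hu2 : u * u = 1 := (H.isT_of_mem_four hV huV hu1).1
  have hut' : u * t = t * u := htS u (hVS huV)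
  have hconj₀ : g₀ * u * g₀⁻¹ = t * u := by
    rcases H.four_cases hV htV ht1 huV hu1 hut ((mem_normalizer_iff.1 hg₀N u).1 huV) with h | h | h | h
    · exact absurd (conj_eq_one_iff.1 h) hu1
    · refine absurd ?_ hut
      calc u = g₀⁻¹ * (g₀ * u * g₀⁻¹) * g₀ := by group
        _ = g₀⁻¹ * (t * g₀) := by rw [h]; group
        _ = t := by rw [← hg₀t]; group
    · exact absurd h hu
    · exact h
  have hg₀sq : g₀ * g₀ = 1 ∨ g₀ * g₀ = t := by
    rcases H.four_cases hV htV ht1 huV hu1 hut hg₀2 with h | h | h | h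
    · exact Or.inl h
    · exact Or.inr h
    · exact absurd (by rw [← h]; group) hu
    · refine absurd ?_ hu
      have h1 : g₀ * (t * u) * g₀⁻¹ = t * u := by rw [← h]; group
      calc g₀ * u * g₀⁻¹ = t * (t * (g₀ * u * g₀⁻¹)) := by rw [← mul_assoc, ht2, one_mul]
        _ = t * (g₀ * t * g₀⁻¹ * (g₀ * u * g₀⁻¹)) := by rw [hg₀t]; group
        _ = t * (t * u) := by
          rw [show g₀ * t * g₀⁻¹ * (g₀ * u * g₀⁻¹) = g₀ * (t * u) * g₀⁻¹ by group, h1]
        _ = u := by rw [← mul_assoc, ht2, one_mul]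
  obtain ⟨g, hgS, hgN, hgV, hg2, hgu⟩ : ∃ g ∈ (S : Subgroup G), g ∈ normalizer (V : Set G) ∧ g ∉ V ∧
      g * g = t ∧ g * u * g⁻¹ = t * u := by
    rcases hg₀sq with h | h
    · refine ⟨g₀ * u, mul_mem hg₀S (hVS huV), mul_mem hg₀N (le_normalizer huV), fun h' => hg₀V ?_, ?_, ?_⟩
      · simpa [mul_assoc, hu2] using mul_mem h' huV
      · calc g₀ * u * (g₀ * u) = g₀ * u * g₀⁻¹ * (g₀ * g₀) * u := by group
          _ = t := by rw [hconj₀, h, mul_one, mul_assoc, hu2, mul_one]
      · rw [← hconj₀]; group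
    · exact ⟨g₀, hg₀S, hg₀N, hg₀V, h, hconj₀⟩
  have hgt : g * t = t * g := htS g hgS
  have hginv : g ∈ invSet V t := ⟨⟨mem_centralizer_singleton_iff.2 hgt, hgN⟩, hg2.symm ▸ htV, hgV⟩
  obtain ⟨a, haV, hga, huniq⟩ := H.exists_fixed hV htV ht1 hhodd hginv
  have hat : a ∈ fix Ω t := haV t htV
  obtain ⟨p, hpV, hpa⟩ := Set.exists_ne_of_one_lt_ncard
    (s := fixSub Ω V) (by rw [H.ncard_fixSub hV]; exact H.two_le_hNum) a
  have hgp : p ≠ g • p := fun h => hpa (huniq p hpV h.symm)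
  have hgpV : g • p ∈ fixSub Ω V := norm_smul_mem_fixSub hgN hpV
  have hfour : 4 ≤ (swapT t p (g • p)).ncard := by
    rw [← H.ncard_swap hV htV ht1 hgp hpV hgpV]
    exact Set.ncard_le_ncard (fun k hk => ⟨H.invSet_subset_sqT hB hV htV ht1 hk.1, hk.2⟩) (Set.toFinite _)
  -- the elements of order four
  have hgn : g ∈ nOne Ω t a := H.nOne_of_sq hT hgt hg2 hat hga
  have hgtn : g * t ∈ nOne Ω t a := by
    refine H.nOne_of_sq hT (by rw [mul_assoc, ht2, mul_one, ← mul_assoc, ← hgt, mul_assoc, ht2, mul_one]) ?_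
      hat (by rw [mul_smul, hat, hga])
    calc g * t * (g * t) = g * (t * g) * t := by group
      _ = g * (g * t) * t := by rw [hgt]
      _ = t := by rw [show g * (g * t) * t = g * g * (t * t) by group, ht2, mul_one, hg2]
  have hne : g ≠ g * t := fun h => ht1 (mul_eq_left.1 h.symm)
  have hnset : ({g, g * t} : Set G) = nOne Ω t a := by
    refine Set.eq_of_subset_of_ncard_le (by simp [Set.insert_subset_iff, hgn, hgtn]) ?_ (Set.toFinite _)
    rw [Set.ncard_pair hne]
    exact H.ncard_nOne_le_two hT hfodd hlt hat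
  have hnmem : ∀ k ∈ nOne Ω t a, k = g ∨ k = g * t := fun k hk => by
    rw [← hnset] at hk
    exact hk
  have hf : H.fNum - H.hNum = H.hNum * (H.hNum - 1) := by
    have h := H.low_count_four hT hfodd hlt hat hgp (hpV t htV) (hgpV t htV) hfour
    rw [← hnset, Set.ncard_pair hne] at h
    omega
  set X : Subgroup G := centralizer ({t} : Set G) ⊓ stabilizer G a with hX
  have hXmem : ∀ {w : G}, w ∈ X ↔ w * t = t * w ∧ w • a = a := fun {w} => by
    rw [hX, Subgroup.mem_inf, mem_centralizer_singleton_iff, mem_stabilizer_iff]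
  have h32 : 2 ^ 5 ∣ Nat.card X := by
    rw [hX, H.card_cent_stab hT hat]
    obtain ⟨m, hm⟩ := hhodd
    obtain ⟨e, he⟩ := Nat.even_mul_succ_self m
    rw [show H.fNum = 4 * (m * (m + 1)) + 1 by
      have := H.hNum_le_fNum
      rw [show H.hNum - 1 = 2 * m by omega, hm] at hf
      rw [hm] at this
      have h1 : (2 * m + 1) * (2 * m) + (2 * m + 1) = 4 * (m * (m + 1)) + 1 := by ring
      omega]
    exact ⟨e, by rw [Nat.add_sub_cancel, he]; ring⟩
  have huX : u ∈ X := hXmem.2 ⟨hut', haV u huV⟩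
  have hgX : g ∈ X := hXmem.2 ⟨hgt, hga⟩
  have hconj : ∀ w ∈ X, w * g * w⁻¹ = g ∨ w * g * w⁻¹ = g * t := by
    intro w hw
    obtain ⟨hwt, hwa⟩ := hXmem.1 hw
    have hwt' : Commute w t := hwt
    refine hnmem _ (H.nOne_of_sq hT ((hwt'.mul_left hgt).mul_left hwt'.inv_left).eq ?_ hat ?_)
    · rw [show w * g * w⁻¹ * (w * g * w⁻¹) = w * (g * g) * w⁻¹ by group, hg2]
      exact mul_inv_eq_iff_eq_mul.2 hwt
    · rw [mul_smul, mul_smul, inv_smul_eq_iff.2 hwa.symm, hga, hwa]
  have hug : u * g * u⁻¹ = g * t := by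
    rcases hconj u huX with h | h
    · exfalso
      have h' : g * u * g⁻¹ = u := by
        rw [mul_inv_eq_iff_eq_mul.1 h |>.symm]; group
      rw [hgu] at h'
      exact ht1 (mul_eq_right.1 h')
    · exact h
  have hugne : ¬ u * g = g * u := fun h => hne (by rw [← hug, h, mul_inv_cancel_right])
  have hnorm : ∀ w ∈ X, ∀ c ∈ X, c * g = g * c → w * c * w⁻¹ * g = g * (w * c * w⁻¹) := by
    intro w hw c hc hcg
    have hcom : Commute c (w⁻¹ * g * w) := by
      rcases hconj w⁻¹ (inv_mem hw) with h | h <;> rw [inv_inv] at h <;> rw [h]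
      · exact hcg
      · exact Commute.mul_right hcg (hXmem.1 hc).1
    calc w * c * w⁻¹ * g = w * (c * (w⁻¹ * g * w)) * w⁻¹ := by group
      _ = w * (w⁻¹ * g * w * c) * w⁻¹ := by rw [hcom.eq]
      _ = _ := by group
  have hind : ∀ Y : Subgroup G, Y ≤ X → u ∈ Y →
      2 * Nat.card (Y ⊓ centralizer ({g} : Set G) : Subgroup G) = Nat.card Y := by
    intro Y hY huY
    have h2 : ((Y ⊓ centralizer ({g} : Set G)).subgroupOf Y).index = 2 := by
      refine index_eq_two_iff.2 ⟨⟨u, huY⟩, fun b => ?_⟩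
      simp only [mem_subgroupOf, Subgroup.coe_mul, Subgroup.mem_inf, mem_centralizer_singleton_iff]
      rcases hconj b (hY b.2) with h | h
      · refine Or.inr ⟨⟨b.2, mul_inv_eq_iff_eq_mul.1 h⟩, fun hc => hugne ?_⟩
        have := hc.2
        rw [mul_assoc, ← mul_assoc g, ← mul_inv_eq_iff_eq_mul.1 h, mul_assoc] at this
        exact mul_left_cancel this
      · refine Or.inl ⟨⟨mul_mem b.2 huY, ?_⟩, fun hc => hne ?_⟩
        · calc (b : G) * u * g = b * (u * g * u⁻¹) * u := by group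
            _ = (b * g * (b : G)⁻¹) * (b * t) * u := by rw [hug]; group
            _ = g * t * (t * b) * u := by rw [h, (hXmem.1 (hY b.2)).1]
            _ = g * (b * u) := by rw [show g * t * (t * b) * u = g * (t * t) * (b * u) by group, ht2, mul_one]
        · rw [← h]; exact (mul_inv_eq_iff_eq_mul.2 hc.2).symm
    have h := ((Y ⊓ centralizer ({g} : Set G)).subgroupOf Y).card_mul_index
    rw [h2, Nat.card_congr (subgroupOfEquivOfLe inf_le_left).toEquiv] at h
    rw [mul_comm]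
    exact h
  -- the Sylow subgroup of `X`
  have hle : V ⊔ zpowers g ≤ X := sup_le (fun v hv => hXmem.2 ⟨htS v (hVS hv), haV v hv⟩)
    (zpowers_le.2 hgX)
  obtain ⟨P, hP⟩ := ((S.2.to_le (sup_le hVS (zpowers_le.2 hgS))).of_equiv
    (subgroupOfEquivOfLe hle).symm).exists_le_sylow
  set P₀ : Subgroup G := (P : Subgroup X).map X.subtype with hP₀
  have hP₀X : P₀ ≤ X := map_subtype_le _
  have hP₀2 : IsPGroup 2 P₀ := P.2.map _
  have hmemP₀ : ∀ v ∈ V ⊔ zpowers g, v ∈ P₀ := fun v hv =>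
    ⟨⟨v, hle hv⟩, hP (mem_subgroupOf.2 hv), rfl⟩
  have huP : u ∈ P₀ := hmemP₀ u (mem_sup_left huV)
  have hgP : g ∈ P₀ := hmemP₀ g (mem_sup_right (mem_zpowers g))
  have hcardP : Nat.card P₀ = 2 ^ (Nat.card X).factorization 2 := by
    rw [hP₀, card_map_of_injective X.subtype_injective, P.card_eq_multiplicity]
  have hfX : 5 ≤ (Nat.card X).factorization 2 :=
    (Nat.prime_two.pow_dvd_iff_le_factorization Nat.card_pos.ne').1 h32
  set R : Subgroup G := P₀ ⊓ centralizer ({g} : Set G) with hR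
  have hRX : R ≤ X := inf_le_left.trans hP₀X
  have hRg : ∀ k ∈ R, k * g = g * k := fun k hk => mem_centralizer_singleton_iff.1 hk.2
  have hcR : Nat.card R = 2 ^ ((Nat.card X).factorization 2 - 1) := by
    have h := hind P₀ hP₀X huP
    rw [hcardP, ← hR] at h
    obtain ⟨j, hj⟩ : ∃ j, (Nat.card X).factorization 2 = j + 1 :=
      ⟨(Nat.card X).factorization 2 - 1, by omega⟩
    rw [hj, pow_succ'] at h
    rw [hj, Nat.add_sub_cancel]
    omega
  -- elements with fourth power one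
  have hinvR : ∀ w ∈ R, w * w = 1 → w = 1 ∨ w = t := by
    intro w hw hw2
    obtain ⟨hwt, hwa⟩ := hXmem.1 (hRX hw)
    have hmem : g * w ∈ nOne Ω t a := by
      refine H.nOne_of_sq hT (Commute.mul_left hgt hwt).eq ?_ hat (by rw [mul_smul, hwa, hga])
      calc g * w * (g * w) = g * (w * g) * w := by group
        _ = g * g * (w * w) := by rw [hRg w hw]; group
        _ = t := by rw [hw2, mul_one, hg2]
    rcases hnmem _ hmem with h | h
    · exact Or.inl (mul_eq_left.1 h)
    · exact Or.inr (mul_left_cancel h)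
  have hsqR : ∀ k ∈ R, k * k = t → k = g ∨ k = g * t := fun k hk hk2 =>
    hnmem k (H.nOne_of_sq hT (hXmem.1 (hRX hk)).1 hk2 hat (hXmem.1 (hRX hk)).2)
  have hRcyc : IsCyclic R := by
    refine CfsgLib.SubgroupCount.isCyclic_of_unique_subgroup (p := 2) (s := 2) Nat.prime_two hcR
      (by norm_num) (by omega) (Or.inr le_rfl) fun K L hK hL => ?_
    have key : ∀ K : Subgroup R, Nat.card K = 2 ^ 2 →
        ((K.map R.subtype : Subgroup G) : Set G) = {1, t, g, g * t} := by
      intro K hK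
      refine Set.eq_of_subset_of_ncard_le ?_ ?_ (Set.toFinite _)
      · rintro _ ⟨k, hk, rfl⟩
        have h4 : (k : G) * k * ((k : G) * k) = 1 := by
          have h := orderOf_dvd_iff_pow_eq_one.1 (orderOf_dvd_natCard K hk)
          rw [hK] at h
          have h' : (k : G) ^ (2 * 2) = 1 := by simpa using congrArg Subtype.val h
          rw [← pow_two, ← pow_two, ← pow_mul]
          exact h'
        rcases hinvR _ (mul_mem k.2 k.2) h4 with e | e
        · rcases hinvR _ k.2 e with e' | e' <;> simp [e']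
        · rcases hsqR _ k.2 e with e' | e' <;> simp [e']
      · rw [← Nat.card_coe_set_eq ((K.map R.subtype : Subgroup G) : Set G)]
        show _ ≤ Nat.card (K.map R.subtype : Subgroup G)
        rw [card_map_of_injective R.subtype_injective, hK]
        refine (Set.ncard_insert_le _ _).trans (Nat.add_le_add_right ((Set.ncard_insert_le _ _).trans
          (Nat.add_le_add_right ?_ 1)) 1)
        rw [Set.ncard_pair hne]
    exact map_injective R.subtype_injective (SetLike.coe_injective (by rw [key K hK, key L hL]))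
  obtain ⟨⟨x, hxR⟩, hx⟩ := hRcyc.exists_generator
  have hxord : orderOf x = 2 ^ ((Nat.card X).factorization 2 - 1) := by
    rw [← hcR, ← orderOf_eq_card_of_forall_mem_zpowers hx, Subgroup.orderOf_mk]
  have hxpow : ∀ s ∈ R, ∃ i : ℤ, x ^ i = s := fun s hs => by
    obtain ⟨i, hi⟩ := mem_zpowers_iff.1 (hx ⟨s, hs⟩)
    exact ⟨i, by simpa using congrArg Subtype.val hi⟩
  have huR : u ∉ R := fun h => hugne (hRg u h)
  have hui : u⁻¹ = u := inv_eq_of_mul_eq_one_right hu2
  -- `ux` is an involution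
  have hux : u * x * (u * x) = 1 := by
    have hy1 : u * x * u⁻¹ ∈ R := ⟨P₀.mul_mem (P₀.mul_mem huP hxR.1) (P₀.inv_mem huP),
      mem_centralizer_singleton_iff.2 (hnorm u huX x (hRX hxR) (hRg x hxR))⟩
    obtain ⟨i, hi⟩ := hxpow _ hy1
    have hy : u * x * (u * x) = u * x * u⁻¹ * x := by rw [hui]; group
    have hyR : u * x * (u * x) ∈ R := hy ▸ mul_mem hy1 hxR
    have hcx : u * x * u * x = x * (u * x * u) := by
      have h := ((Commute.refl x).zpow_left i).eq
      rw [hi, hui] at h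
      exact h
    have hyu : u * x * (u * x) * u = u * (u * x * (u * x)) := by
      calc u * x * (u * x) * u = u * x * u * x * u := by group
        _ = x * (u * x * u) * u := by rw [hcx]
        _ = x * u * x * (u * u) := by group
        _ = x * u * x := by rw [hu2, mul_one]
        _ = u * u * (x * u * x) := by rw [hu2, one_mul]
        _ = _ := by group
    obtain ⟨k, hk⟩ := hP₀2 ⟨_, hyR.1⟩
    have hyV : u * x * (u * x) ∈ V := mem_of_two hB hV k _
      (H.mem_centralizer_four hV htV ht1 huV hu1 hut (hXmem.1 (hRX hyR)).1 hyu)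
      (by simpa using congrArg Subtype.val hk)
    rcases H.four_cases hV htV ht1 huV hu1 hut hyV with h | h | h | h
    · exact h
    · exfalso
      have hxX := hXmem.1 (hRX hxR)
      have hmem := H.nOne_of_sq hT (Commute.mul_left (hut' : Commute u t) hxX.1).eq h hat
        (by rw [mul_smul, hxX.2, haV u huV])
      have huxR : u * x ∈ R := by
        rcases hnmem _ hmem with e | e <;> rw [e]
        · exact ⟨hgP, mem_centralizer_singleton_iff.2 rfl⟩
        · exact ⟨mul_mem hgP (hmemP₀ t (mem_sup_left htV)), mem_centralizer_singleton_iff.2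
            (Commute.mul_left (Commute.refl g) (hgt.symm : Commute t g)).eq⟩
      exact huR (by simpa using mul_mem huxR (inv_mem hxR))
    · have h' := hRg _ hyR
      rw [h] at h'
      exact absurd h' hugne
    · have h' := hRg _ hyR
      rw [h, mul_assoc, ← mul_assoc g, hgt, mul_assoc] at h'
      exact absurd (mul_left_cancel h') hugne
  -- `ux` is conjugate to `u`
  have hrn1 : u * x ≠ 1 := fun h => huR (by rw [eq_inv_of_mul_eq_one_left h]; exact inv_mem hxR)
  have htR : t ∈ R := ⟨hmemP₀ t (mem_sup_left htV), mem_centralizer_singleton_iff.2 hgt.symm⟩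
  have hrnt : u * x ≠ t := fun h => huR (by
    rw [eq_mul_inv_of_mul_eq h]; exact mul_mem htR (inv_mem hxR))
  have hxX := hXmem.1 (hRX hxR)
  have hrX : u * x ∈ X := mul_mem huX (hRX hxR)
  have hrsq : u * x ∈ sqT t :=
    ⟨mem_centralizer_singleton_iff.2 (hXmem.1 hrX).1, Or.inl hux, hrn1, hrnt⟩
  have hrnot : u * x ∉ nOne Ω t a := fun h => by
    rcases hnmem _ h with e | e
    · rw [e, hg2] at hux
      exact ht1 hux
    · rw [e] at hux
      exact hgtn.1.2.2.1 (by
        have h' : g * t * (g * t) = t := by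
          calc g * t * (g * t) = g * (t * g) * t := by group
            _ = g * g * (t * t) := by rw [← hgt]; group
            _ = t := by rw [ht2, mul_one, hg2]
        exact absurd (h'.symm.trans hux) ht1)
  obtain ⟨q, hq, hrq, hqa⟩ : ∃ q ∈ fix Ω t, (u * x) • q = q ∧ q ≠ a := by
    by_contra hc
    push Not at hc
    exact hrnot ⟨hrsq, (hXmem.1 hrX).2, hc⟩
  obtain ⟨w, hw, hwa, hwq⟩ := H.cent_pair hT (Ne.symm hqa) hat hq (Ne.symm hpa) hat (hpV t htV)
  have hwX : w ∈ X := hXmem.2 ⟨mem_centralizer_singleton_iff.1 hw, hwa⟩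
  have hwrV : w * (u * x) * w⁻¹ ∈ V := by
    rw [← H.four_unique hV htV ht1 (Ne.symm hpa) haV hpV]
    have hc := mul_mem (mul_mem hwX hrX) (inv_mem hwX)
    refine Five.mem_four.2 ⟨mem_pairStab.2 ⟨(hXmem.1 hc).2, ?_⟩, (hXmem.1 hc).1⟩
    rw [← hwq, mul_smul, mul_smul, inv_smul_smul, hrq]
  obtain ⟨v, hv, hvr⟩ : ∃ v ∈ X, v * u * v⁻¹ = u * x := by
    rcases H.four_cases hV htV ht1 huV hu1 hut hwrV with h | h | h | h
    · exact absurd (conj_eq_one_iff.1 h) hrn1
    · refine absurd ?_ hrnt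
      calc u * x = w⁻¹ * (w * (u * x) * w⁻¹) * w := by group
        _ = w⁻¹ * (t * w) := by rw [h]; group
        _ = t := by rw [← (hXmem.1 hwX).1]; group
    · exact ⟨w⁻¹, inv_mem hwX, by
        calc w⁻¹ * u * w⁻¹⁻¹ = w⁻¹ * (w * (u * x) * w⁻¹) * w⁻¹⁻¹ := by rw [h]
          _ = u * x := by group⟩
    · exact ⟨w⁻¹ * g, mul_mem (inv_mem hwX) hgX, by
        calc w⁻¹ * g * u * (w⁻¹ * g)⁻¹ = w⁻¹ * (g * u * g⁻¹) * w := by group
          _ = w⁻¹ * (w * (u * x) * w⁻¹) * w := by rw [hgu, h]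
          _ = u * x := by group⟩
  -- the normal complement
  set N : Subgroup G := X ⊓ centralizer ({g} : Set G) with hN
  have hRN : R ≤ N := inf_le_inf_right _ hP₀X
  have hfN : (Nat.card N).factorization 2 = (Nat.card X).factorization 2 - 1 := by
    have h0 : 2 * Nat.card N = Nat.card X := hind X le_rfl huX
    have h := congrArg (fun c => c.factorization 2) h0
    simp only [Nat.factorization_mul two_ne_zero Nat.card_pos.ne', Finsupp.add_apply,
      Nat.prime_two.factorization_self] at h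
    omega
  let Q : Sylow 2 N := Sylow.ofCard (R.subgroupOf N) (by
    rw [Nat.card_congr (subgroupOfEquivOfLe hRN).toEquiv, hcR, hfN])
  have hQc : IsCyclic Q :=
    isCyclic_of_surjective (subgroupOfEquivOfLe hRN).symm (MulEquiv.surjective _)
  have hmin : (Nat.card N).minFac = 2 := (Nat.minFac_eq_two_iff _).2
    ((dvd_pow_self 2 (by omega : (Nat.card X).factorization 2 - 1 ≠ 0)).trans
      (hcR ▸ card_dvd_of_le hRN))
  have hcompl := IsCyclic.isComplement' hmin hQc
  set τ := MonoidHom.transferSylow Q (hQc.normalizer_le_centralizer hmin) with hτ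
  have hModd : ¬ 2 ∣ Nat.card τ.ker := hcompl.index_eq_card ▸ Q.not_dvd_index
  set M : Subgroup G := τ.ker.map N.subtype with hM
  have hMnorm : ∀ w ∈ X, ∀ m ∈ M, w * m * w⁻¹ ∈ M := by
    rintro w hw _ ⟨m, hm, rfl⟩
    have hmN : w * (m : G) * w⁻¹ ∈ N := ⟨X.mul_mem (X.mul_mem hw m.2.1) (X.inv_mem hw),
      mem_centralizer_singleton_iff.2 (hnorm w hw m m.2.1 (mem_centralizer_singleton_iff.1 m.2.2))⟩
    refine ⟨⟨_, hmN⟩, ?_, rfl⟩
    rw [SetLike.mem_coe, MonoidHom.mem_ker, ← orderOf_eq_one_iff]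
    obtain ⟨k, hk⟩ := Q.2.exists_card_eq
    have hord : orderOf (⟨_, hmN⟩ : N) = orderOf m := by
      rw [← orderOf_coe, ← orderOf_coe m]
      exact orderOf_injective (MulAut.conj w).toMonoidHom (MulAut.conj w).injective _
    refine Nat.eq_one_of_dvd_coprimes
      ((Nat.Prime.coprime_iff_not_dvd Nat.prime_two).2 hModd |>.pow_left k)
      (hk ▸ orderOf_dvd_natCard _) ?_
    exact (orderOf_map_dvd τ _).trans (hord ▸ orderOf_dvd_natCard τ.ker hm)
  have hdisj : ∀ c ∈ P₀, c ∈ M → c = 1 := by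
    rintro _ hc ⟨m, hm, rfl⟩
    rw [← orderOf_eq_one_iff]
    obtain ⟨k, hk⟩ := hP₀2.exists_card_eq
    refine Nat.eq_one_of_dvd_coprimes
      ((Nat.Prime.coprime_iff_not_dvd Nat.prime_two).2 hModd |>.pow_left k)
      (hk ▸ orderOf_dvd_natCard P₀ hc) ?_
    rw [Subgroup.coe_subtype, orderOf_coe]
    exact orderOf_dvd_natCard τ.ker hm
  have hdec : ∀ n ∈ N, ∃ m ∈ M, ∃ s ∈ R, n = m * s := fun n hn => by
    obtain ⟨⟨m, s⟩, hms⟩ := hcompl.2 ⟨n, hn⟩
    exact ⟨_, ⟨m.1, m.2, rfl⟩, _, mem_subgroupOf.1 s.2, (congrArg Subtype.val hms).symm⟩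
  obtain ⟨m, hm, s, hs, hvs⟩ : ∃ m ∈ M, ∃ s ∈ P₀, v = m * s := by
    rcases hconj v hv with h | h
    · obtain ⟨m, hm, s, hs, e⟩ := hdec v ⟨hv, mem_centralizer_singleton_iff.2 (mul_inv_eq_iff_eq_mul.1 h)⟩
      exact ⟨m, hm, s, hs.1, e⟩
    · have hvu : v * u * g = g * (v * u) := by
        calc v * u * g = v * (u * g * u⁻¹) * u := by group
          _ = v * g * v⁻¹ * (v * t) * u := by rw [hug]; group
          _ = g * t * (t * v) * u := by rw [h, (hXmem.1 hv).1]
          _ = g * (v * u) := by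
            rw [show g * t * (t * v) * u = g * (t * t) * (v * u) by group, ht2, mul_one]
      obtain ⟨m, hm, s, hs, e⟩ := hdec (v * u) ⟨mul_mem hv huX, mem_centralizer_singleton_iff.2 hvu⟩
      exact ⟨m, hm, s * u, mul_mem hs.1 huP, by rw [← mul_assoc, ← e, mul_assoc, hu2, mul_one]⟩
  have hcP : s * u * s⁻¹ ∈ P₀ := mul_mem (mul_mem hs huP) (inv_mem hs)
  have hreq : u * x = s * u * s⁻¹ := by
    refine mul_inv_eq_one.1 (hdisj _ (mul_mem (mul_mem huP hxR.1) (inv_mem hcP)) ?_)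
    rw [← hvr, hvs, show m * s * u * (m * s)⁻¹ * (s * u * s⁻¹)⁻¹ =
      m * (s * u * s⁻¹ * m⁻¹ * (s * u * s⁻¹)⁻¹) by group]
    exact mul_mem hm (hMnorm _ (hP₀X hcP) _ (inv_mem hm))
  -- the conjugates of `u` in the Sylow subgroup
  have hinvx : u * x * u⁻¹ = x⁻¹ := by
    rw [hui]; exact eq_inv_of_mul_eq_one_left (by rw [mul_assoc, hux])
  have hcu : ∀ i : ℤ, x ^ i * u * (x ^ i)⁻¹ = x ^ (2 * i) * u := fun i => by
    have h : u * x ^ i * u⁻¹ = (x ^ i)⁻¹ := by rw [← conj_zpow, hinvx, inv_zpow]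
    calc x ^ i * u * (x ^ i)⁻¹ = x ^ i * u * (u * x ^ i * u⁻¹) := by rw [h]
      _ = x ^ i * (u * u) * x ^ i * u⁻¹ := by group
      _ = x ^ (2 * i) * u := by rw [hu2, mul_one, hui, two_mul, zpow_add]
  obtain ⟨i, hi⟩ : ∃ i : ℤ, u * x = x ^ (2 * i) * u := by
    rcases hconj s (hP₀X hs) with h | h
    · obtain ⟨i, hi⟩ := hxpow s ⟨hs, mem_centralizer_singleton_iff.2 (mul_inv_eq_iff_eq_mul.1 h)⟩
      exact ⟨i, by rw [hreq, ← hi, hcu]⟩
    · have hsu : s * u * g = g * (s * u) := by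
        calc s * u * g = s * (u * g * u⁻¹) * u := by group
          _ = s * g * s⁻¹ * (s * t) * u := by rw [hug]; group
          _ = g * t * (t * s) * u := by rw [h, (hXmem.1 (hP₀X hs)).1]
          _ = g * (s * u) := by
            rw [show g * t * (t * s) * u = g * (t * t) * (s * u) by group, ht2, mul_one]
      obtain ⟨i, hi⟩ := hxpow (s * u) ⟨mul_mem hs huP, mem_centralizer_singleton_iff.2 hsu⟩
      refine ⟨i, ?_⟩
      rw [hreq, show s * u * s⁻¹ = s * u * u * (s * u)⁻¹ by group, ← hi, hcu]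
  have hone : x ^ (2 * i + 1) = 1 := by
    have h : u * x = x⁻¹ * u := mul_inv_eq_iff_eq_mul.1 hinvx
    rw [h] at hi
    rw [zpow_add_one, ← mul_right_cancel hi, inv_mul_cancel]
  have hdvd := orderOf_dvd_iff_zpow_eq_one.2 hone
  rw [hxord] at hdvd
  have h2 : (2 : ℤ) ∣ 2 * i + 1 :=
    (Int.natCast_dvd_natCast.2 (dvd_pow_self 2 (by omega : (Nat.card X).factorization 2 - 1 ≠ 0))).trans hdvd
  omega

end Hyp

end CfsgLib.TwoTransAFive
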