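import Cfsg.Agent.Lib.TwoTransAFive.Basic
import Cfsg.Agent.Lib.PCore.Basic
import Cfsg.Agent.S0205
import Cfsg.Prelude.Def_CaseTheorems

/-!
`S3262`: normal subgroups: transitive, never solvable; the odd core and the centre are trivial.
-/

set_option autoImplicit false

namespace CfsgLib.TwoTransAFive

open Subgroup MulAction

variable {G : Type*} [Group G] {Ω : Type*} [MulAction G Ω]

namespace Hyp

variable (H : Hyp G Ω) [FaithfulSMul G Ω]
include H

/-- nontrivial normal subgroups are transitive -/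
theorem normal_trans {N : Subgroup G} (hN : N.Normal) (hN1 : N ≠ ⊥) (u w : Ω) : ∃ n ∈ N, n • u = w := by
  obtain ⟨n, hn, hn1⟩ : ∃ n ∈ N, n ≠ 1 := (Subgroup.bot_or_exists_ne_one N).resolve_left hN1
  obtain ⟨x, hx⟩ : ∃ x : Ω, n • x ≠ x := by
    by_contra hc
    push Not at hc
    exact hn1 (eq_of_smul_eq_smul (α := Ω) fun x => by rw [hc x, one_smul])
  have key : ∀ y : Ω, ∃ m ∈ N, m • x = y := by
    intro y
    by_cases hy : y = x
    · exact ⟨1, one_mem _, by rw [one_smul, hy]⟩
    obtain ⟨g, hgx, hgy⟩ := H.pre x (n • x) x y (Ne.symm hx) (Ne.symm hy)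
    have hg' : g⁻¹ • x = x := by rw [inv_smul_eq_iff, hgx]
    exact ⟨g * n * g⁻¹, hN.conj_mem n hn g, by rw [mul_smul, mul_smul, hg', hgy]⟩
  obtain ⟨m, hm, hmu⟩ := key u
  obtain ⟨m', hm', hmw⟩ := key w
  exact ⟨m' * m⁻¹, mul_mem hm' (inv_mem hm), by rw [mul_smul, ← hmu, inv_smul_smul, hmw]⟩

/-- there are no nontrivial abelian normal subgroups -/
theorem not_comm_normal {N : Subgroup G} (hN : N.Normal) (hN1 : N ≠ ⊥) :
    ¬ ∀ p ∈ N, ∀ q ∈ N, p * q = q * p := fun hc =>
  H.noReg N hN (H.normal_trans hN hN1) fun x n hn hnx => eq_of_smul_eq_smul (α := Ω) fun y => by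
    obtain ⟨m, hm, rfl⟩ := H.normal_trans hN hN1 x y
    rw [one_smul, ← mul_smul, hc n hn m hm, mul_smul, hnx]

/-- there are no nontrivial solvable normal subgroups -/
theorem not_solvable_normal [Finite G] : ∀ {N : Subgroup G}, N.Normal → N ≠ ⊥ → ¬ Group.IsSolvable N := by
  suffices h : ∀ k : ℕ, ∀ N : Subgroup G, Nat.card N ≤ k → N.Normal → N ≠ ⊥ → ¬ Group.IsSolvable N from
    fun {N} => h _ N le_rfl
  intro k
  induction k with
  | zero => intro N hk _ _ _; have : 0 < Nat.card N := Nat.card_pos; omega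
  | succ k ih =>
    intro N hk hN hN1 hs
    haveI := hN
    haveI : Nontrivial N := nontrivial_iff_ne_bot N |>.2 hN1
    have hlt : ⁅N, N⁆ < N := by
      refine lt_of_le_of_ne (commutator_le_self N) fun heq => ?_
      have htop := Group.IsSolvable.commutator_lt_top_of_nontrivial N
      apply htop.ne
      apply map_injective N.subtype_injective
      rw [map_subtype_commutator, heq, ← MonoidHom.range_eq_map, range_subtype]
    by_cases hb : ⁅N, N⁆ = ⊥
    · refine H.not_comm_normal hN hN1 fun p hp q hq => ?_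
      have := commutator_mem_commutator hp hq
      rw [hb, mem_bot] at this
      exact commutatorElement_eq_one_iff_mul_comm.1 this
    · refine ih _ ?_ (commutator_normal N N) hb
        (Group.isSolvable_of_isSolvable_injective (f := inclusion hlt.le) (inclusion_injective _))
      have := Set.ncard_lt_ncard (s := ((⁅N, N⁆ : Subgroup G) : Set G)) (t := (N : Set G)) (SetLike.coe_ssubset_coe.2 hlt)
        (Set.toFinite _)
      rw [← Nat.card_coe_set_eq, ← Nat.card_coe_set_eq] at this
      have h2 : Nat.card (⁅N, N⁆ : Subgroup G) < Nat.card N := this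
      omega

theorem oddCore_eq_bot [Finite G] : Cfsg.oddCore G = ⊥ := by
  by_contra h
  haveI : Fact (Nat.Prime 2) := ⟨Nat.prime_two⟩
  have hodd : Odd (Nat.card (Cfsg.oddCore G)) :=
    Nat.not_even_iff_odd.1 fun he => CfsgLib.PCore.not_dvd_card_pPrimeCore (p := 2) (even_iff_two_dvd.1 he)
  exact H.not_solvable_normal inferInstance h (Cfsg.Agent.S0205.result hodd)

theorem center_eq_bot : Subgroup.center G = ⊥ := by
  by_contra h
  exact H.not_comm_normal inferInstance h fun p hp q _ => (Subgroup.mem_center_iff.1 hp q).symm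

end Hyp

end CfsgLib.TwoTransAFive
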