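import Cfsg.Agent.Lib.TwoTransAFive.Count

/-!
`S3262`, `h < f` odd: the elements of `C(t)` squaring into `⟨t⟩`, on the fixed points of `t`.

* each either lies in the four group of a pair (`u`-type) or fixes exactly one point (`nOne`);
* `2 (f - h) + |nOne t a| * h (h - 1) = |swapT t x y| * h (h - 1)`, with `|swapT t x y| ≤ 4`.
-/

set_option autoImplicit false

namespace CfsgLib.TwoTransAFive

open Subgroup MulAction

variable {G : Type*} [Group G] {Ω : Type*} [MulAction G Ω]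

/-- The elements outside `⟨t⟩` of the centraliser of `t` squaring into `⟨t⟩`. -/
def sqT (t : G) : Set G :=
  {g | g ∈ centralizer ({t} : Set G) ∧ (g * g = 1 ∨ g * g = t) ∧ g ≠ 1 ∧ g ≠ t}

variable (Ω) in
/-- Those of `sqT t` fixing just the point `a` of the fixed points of `t`. -/
def nOne (t : G) (a : Ω) : Set G :=
  {g | g ∈ sqT t ∧ g • a = a ∧ ∀ x ∈ fix Ω t, g • x = x → x = a}

/-- Those of `sqT t` moving `x` to `y`. -/
def swapT (t : G) (x y : Ω) : Set G := {g | g ∈ sqT t ∧ g • x = y}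

theorem commute_of_sqT {t g : G} (hg : g ∈ sqT t) : g * t = t * g :=
  mem_centralizer_singleton_iff.1 hg.1

theorem smul_smul_of_sqT {t g : G} {x : Ω} (hg : g ∈ sqT t) (hx : x ∈ fix Ω t) : g • g • x = x := by
  rw [← mul_smul]
  rcases hg.2.1 with h | h <;> rw [h]
  · exact one_smul _ _
  · exact hx

theorem mul_mem_sqT {t g : G} (ht2 : t * t = 1) (hg : g ∈ sqT t) : g * t ∈ sqT t := by
  have hc := commute_of_sqT hg
  obtain ⟨hgc, hsq, hg1, hgt⟩ := hg
  have e : g * t * (g * t) = g * g := by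
    calc g * t * (g * t) = g * (t * g) * t := by group
      _ = g * (g * t) * t := by rw [hc]
      _ = g * g * (t * t) := by group
      _ = g * g := by rw [ht2, mul_one]
  refine ⟨mul_mem hgc (mem_centralizer_singleton_iff.2 rfl), e.symm ▸ hsq, fun h => hgt ?_, fun h => hg1 ?_⟩
  · exact (eq_inv_of_mul_eq_one_left h).trans (inv_eq_of_mul_eq_one_left ht2)
  · exact mul_eq_right.1 h

theorem conj_mem_sqT {t g w : G} (hw : w ∈ centralizer ({t} : Set G)) (hg : g ∈ sqT t) :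
    w * g * w⁻¹ ∈ sqT t := by
  obtain ⟨hgc, hsq, hg1, hgt⟩ := hg
  have hwt : w * t * w⁻¹ = t := mul_inv_eq_iff_eq_mul.2 (mem_centralizer_singleton_iff.1 hw)
  refine ⟨mul_mem (mul_mem hw hgc) (inv_mem hw), ?_, fun h => hg1 ?_, fun h => hgt ?_⟩
  · rw [show w * g * w⁻¹ * (w * g * w⁻¹) = w * (g * g) * w⁻¹ by group]
    rcases hsq with h | h <;> rw [h]
    · exact Or.inl (by group)
    · exact Or.inr hwt
  · calc g = w⁻¹ * (w * g * w⁻¹) * w := by group
      _ = 1 := by rw [h]; group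
  · calc g = w⁻¹ * (w * g * w⁻¹) * w := by group
      _ = w⁻¹ * (w * t * w⁻¹) * w := by rw [h, hwt]
      _ = t := by group

namespace Hyp

variable (H : Hyp G Ω)
include H

/-- an element of `sqT t` with two fixed points in `fix t` lies in their four group -/
theorem sqT_pair {t g : G} (hg : g ∈ sqT t) {x y : Ω} (hxy : x ≠ y) (hx : x ∈ fix Ω t) (hy : y ∈ fix Ω t)
    (hgx : g • x = x) (hgy : g • y = y) : g ∈ Five.four (pairStab x y) t :=
  Five.mem_four.2 ⟨mem_pairStab.2 ⟨hgx, hgy⟩, commute_of_sqT hg⟩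

theorem fix_inter_eq {t g : G} (ht : IsT Ω t) (hg : g ∈ sqT t) {x y : Ω} (hxy : x ≠ y) (hx : x ∈ fix Ω t)
    (hy : y ∈ fix Ω t) (hgx : g • x = x) (hgy : g • y = y) :
    {z ∈ fix Ω t | g • z = z} = fixSub Ω (Five.four (pairStab x y) t) := by
  obtain ⟨e⟩ := H.iso x y hxy
  have htD : t ∈ pairStab x y := mem_pairStab.2 ⟨hx, hy⟩
  obtain ⟨u, -, -, -, -, -, hiff⟩ := Five.four_elems e htD ht.1 ht.2.1
  ext z
  constructor
  · rintro ⟨hzt, hzg⟩ k hk
    have hzt' : t • z = z := hzt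
    rcases (hiff g).1 (H.sqT_pair hg hxy hx hy hgx hgy) with rfl | rfl | rfl | rfl
    · exact absurd rfl hg.2.2.1
    · exact absurd rfl hg.2.2.2
    · rcases (hiff k).1 hk with rfl | rfl | rfl | rfl
      · exact one_smul _ _
      · exact hzt'
      · exact hzg
      · rw [mul_smul, hzg, hzt']
    · have hu : u • z = z := by
        have := congrArg (fun w => t • w) hzg
        simp only [← mul_smul] at this
        rwa [← mul_assoc, ht.1, one_mul, hzt'] at this
      rcases (hiff k).1 hk with rfl | rfl | rfl | rfl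
      · exact one_smul _ _
      · exact hzt'
      · exact hu
      · exact hzg
  · intro hz
    exact ⟨hz t ⟨htD, mem_centralizer_singleton_iff.2 rfl⟩, hz g (H.sqT_pair hg hxy hx hy hgx hgy)⟩

theorem fixed_cases [Finite Ω] {t g : G} (ht : IsT Ω t) (hodd : Odd H.fNum) (hg : g ∈ sqT t) :
    (∃ x y : Ω, x ≠ y ∧ x ∈ fix Ω t ∧ y ∈ fix Ω t ∧ g • x = x ∧ g • y = y) ∨ ∃ a ∈ fix Ω t, g ∈ nOne Ω t a := by
  have hm := ncard_mod_two (fix Ω t) (Set.toFinite _) (fun x => g • x)
    (fun x hx => cent_smul_mem_fix hg.1 hx) (fun x hx => smul_smul_of_sqT hg hx)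
  rw [H.ncard_fix ht, Nat.odd_iff.1 hodd] at hm
  obtain ⟨a, ha, hga⟩ : ∃ a ∈ fix Ω t, g • a = a := by
    by_contra hc
    push Not at hc
    rw [show {x ∈ fix Ω t | g • x = x} = ∅ from Set.eq_empty_iff_forall_notMem.2 fun x hx => hc x hx.1 hx.2,
      Set.ncard_empty] at hm
    omega
  by_cases hu : ∀ x ∈ fix Ω t, g • x = x → x = a
  · exact Or.inr ⟨a, ha, hg, hga, hu⟩
  push Not at hu
  obtain ⟨x, hx, hgx, hxa⟩ := hu
  exact Or.inl ⟨x, a, hxa, hx, ha, hgx, hga⟩

theorem even_ncard_nOne [Finite G] {t : G} (ht : IsT Ω t) {a : Ω} (ha : a ∈ fix Ω t) :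
    Even (nOne Ω t a).ncard := by
  have h := ncard_mod_two (nOne Ω t a) (Set.toFinite _) (fun g => g * t) ?_ ?_
  · have he : {g ∈ nOne Ω t a | g * t = g} = ∅ :=
      Set.eq_empty_iff_forall_notMem.2 fun g hg => ht.2.1 (mul_eq_left.1 hg.2)
    rw [Nat.even_iff, h, he, Set.ncard_empty]
  · rintro g ⟨hg, hga, hu⟩
    refine ⟨mul_mem_sqT ht.1 hg, by rw [mul_smul, ha, hga], fun x hx hx' => hu x hx ?_⟩
    rwa [mul_smul, hx] at hx'
  · intro g _
    rw [mul_assoc, ht.1, mul_one]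

variable [Finite G] [Finite Ω]

theorem ncard_swapT_le {t : G} (ht : IsT Ω t) {x y : Ω} (hxy : x ≠ y) (hx : x ∈ fix Ω t) (hy : y ∈ fix Ω t) :
    (swapT t x y).ncard ≤ 4 := by
  rcases Set.eq_empty_or_nonempty (swapT t x y) with h0 | ⟨g, hg, hgx⟩
  · simp [h0]
  have hgy : g • y = x := by rw [← hgx, smul_smul_of_sqT hg hx]
  obtain ⟨e⟩ := H.iso x y hxy
  have hsub : swapT t x y ⊆ (fun v => g * v) '' (Five.four (pairStab x y) t : Set G) := by
    rintro k ⟨hk, hkx⟩
    have hky : k • y = x := by rw [← hkx, smul_smul_of_sqT hk hx]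
    refine ⟨g⁻¹ * k, Subgroup.mem_inf.2 ⟨mem_pairStab.2 ⟨?_, ?_⟩,
      Subgroup.mul_mem _ (Subgroup.inv_mem _ hg.1) hk.1⟩, mul_inv_cancel_left g k⟩
    · rw [mul_smul, hkx, ← hgx, inv_smul_smul]
    · rw [mul_smul, hky, ← hgy, inv_smul_smul]
  refine le_trans (Set.ncard_le_ncard hsub (Set.toFinite _)) ?_
  rw [Set.ncard_image_of_injective _ (mul_right_injective g), ← Nat.card_coe_set_eq]
  exact (Five.card_four e (mem_pairStab.2 ⟨hx, hy⟩) ht.1 ht.2.1).le

theorem ncard_swapT_eq {t : G} (ht : IsT Ω t) {x y x' y' : Ω} (hxy : x ≠ y) (hx : x ∈ fix Ω t)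
    (hy : y ∈ fix Ω t) (hxy' : x' ≠ y') (hx' : x' ∈ fix Ω t) (hy' : y' ∈ fix Ω t) :
    (swapT t x y).ncard = (swapT t x' y').ncard := by
  obtain ⟨w, hw, hwx, hwy⟩ := H.cent_pair ht hxy hx hy hxy' hx' hy'
  have : swapT t x' y' = (fun g => w * g * w⁻¹) '' swapT t x y := by
    ext k
    constructor
    · rintro ⟨hk, hkx⟩
      refine ⟨w⁻¹ * k * w⁻¹⁻¹, ⟨conj_mem_sqT (inv_mem hw) hk, ?_⟩, by group⟩
      rw [inv_inv, mul_smul, mul_smul, hwx, hkx, ← hwy, inv_smul_smul]
    · rintro ⟨g, ⟨hg, hgx⟩, rfl⟩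
      exact ⟨conj_mem_sqT hw hg, by rw [← hwx, mul_smul, mul_smul, inv_smul_smul, hgx, hwy]⟩
  rw [this, Set.ncard_image_of_injective _ fun p q h => mul_left_cancel (mul_right_cancel h)]

theorem ncard_nOne_eq {t : G} (ht : IsT Ω t) {a b : Ω} (ha : a ∈ fix Ω t) (hb : b ∈ fix Ω t) :
    (nOne Ω t a).ncard = (nOne Ω t b).ncard := by
  by_cases hab : a = b
  · rw [hab]
  obtain ⟨w, hw, hwa, -⟩ := H.cent_pair ht hab ha hb (Ne.symm hab) hb ha
  have hc : ∀ {w : G} {p q : Ω}, w ∈ centralizer ({t} : Set G) → w • p = q → ∀ g ∈ nOne Ω t p,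
      w * g * w⁻¹ ∈ nOne Ω t q := by
    rintro w p q hw rfl g ⟨hg, hgp, hu⟩
    refine ⟨conj_mem_sqT hw hg, by rw [mul_smul, mul_smul, inv_smul_smul, hgp], fun z hz hgz => ?_⟩
    rw [← hu (w⁻¹ • z) (cent_smul_mem_fix (inv_mem hw) hz) ?_, smul_inv_smul]
    rw [mul_smul, mul_smul] at hgz
    rw [eq_inv_smul_iff, hgz]
  have : nOne Ω t b = (fun g => w * g * w⁻¹) '' nOne Ω t a := by
    ext k
    constructor
    · intro hk
      exact ⟨w⁻¹ * k * w⁻¹⁻¹, hc (inv_mem hw) (by rw [← hwa, inv_smul_smul]) k hk, by group⟩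
    · rintro ⟨g, hg, rfl⟩
      exact hc hw hwa g hg
  rw [this, Set.ncard_image_of_injective _ fun p q h => mul_left_cancel (mul_right_cancel h)]

/-- the count -/
theorem low_count {t : G} (ht : IsT Ω t) (hodd : Odd H.fNum) (hlt : H.hNum < H.fNum) {a x y : Ω}
    (ha : a ∈ fix Ω t) (hxy : x ≠ y) (hx : x ∈ fix Ω t) (hy : y ∈ fix Ω t) :
    2 * (H.fNum - H.hNum) + (nOne Ω t a).ncard * (H.hNum * (H.hNum - 1)) =
      (swapT t x y).ncard * (H.hNum * (H.hNum - 1)) := by
  classical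
  have := Fintype.ofFinite G
  have := Fintype.ofFinite Ω
  let F : Finset Ω := Finset.univ.filter fun z => z ∈ fix Ω t
  let fc : G → ℕ := fun g => (F.filter fun z => g • z = z).card
  let S : Finset G := Finset.univ.filter fun g => g ∈ sqT t
  let U : Finset G := S.filter fun g => 1 < fc g
  let N : Finset G := S.filter fun g => ¬ 1 < fc g
  have hF : F.card = H.fNum := by rw [← H.ncard_fix ht, ← Set.ncard_coe_finset]; simp [F]
  have hmemF : ∀ z, z ∈ F ↔ z ∈ fix Ω t := fun z => by simp [F]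
  have hmemS : ∀ g, g ∈ S ↔ g ∈ sqT t := fun g => by simp [S]
  have hFo : F.offDiag.card = H.fNum * (H.fNum - 1) := by rw [Finset.offDiag_card, hF, Nat.mul_sub_one]
  have hUh : ∀ g ∈ U, fc g = H.hNum := by
    intro g hg
    obtain ⟨hgS, hgU⟩ := Finset.mem_filter.1 hg
    obtain ⟨p, hp, q, hq, hpq⟩ := Finset.one_lt_card.1 hgU
    obtain ⟨hp, hgp⟩ := Finset.mem_filter.1 hp
    obtain ⟨hq, hgq⟩ := Finset.mem_filter.1 hq
    rw [hmemF] at hp hq
    obtain ⟨e⟩ := H.iso p q hpq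
    rw [← H.ncard_fixSub (H.isFour_four hpq (mem_pairStab.2 ⟨hp, hq⟩) ht.1 ht.2.1),
      ← H.fix_inter_eq ht ((hmemS g).1 hgS) hpq hp hq hgp hgq]
    show (F.filter fun z => g • z = z).card = _
    rw [← Set.ncard_coe_finset]
    simp [F]
  -- the pairs fixed
  let r : G → Ω × Ω → Prop := fun g p => g • p.1 = p.1 ∧ g • p.2 = p.2
  have hA : ∀ g ∈ U, (F.offDiag.bipartiteAbove r g).card = H.hNum * (H.hNum - 1) := by
    intro g hg
    rw [← hUh g hg, Nat.mul_sub_one, ← Finset.offDiag_card]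
    refine congrArg Finset.card (Finset.ext fun p => ?_)
    simp only [Finset.bipartiteAbove, r, Finset.mem_filter, Finset.mem_offDiag]
    tauto
  have hB : ∀ p ∈ F.offDiag, (U.bipartiteBelow r p).card = 2 := by
    rintro ⟨p, q⟩ hp
    obtain ⟨hp, hq, hpq⟩ := Finset.mem_offDiag.1 hp
    rw [hmemF] at hp hq
    obtain ⟨e⟩ := H.iso p q hpq
    have htD : t ∈ pairStab p q := mem_pairStab.2 ⟨hp, hq⟩
    obtain ⟨u, huD, hu2, hu1, hut, htu, hiff⟩ := Five.four_elems e htD ht.1 ht.2.1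
    have hset : U.bipartiteBelow r (p, q) = {u, t * u} := by
      ext g
      simp only [Finset.bipartiteBelow, r, Finset.mem_filter, U, hmemS, Finset.mem_insert,
        Finset.mem_singleton]
      constructor
      · rintro ⟨⟨hg, -⟩, hgp, hgq⟩
        rcases (hiff g).1 (H.sqT_pair hg hpq hp hq hgp hgq) with h | h | h | h
        · exact absurd h hg.2.2.1
        · exact absurd h hg.2.2.2
        · exact Or.inl h
        · exact Or.inr h
      · intro hg
        have hgV : g ∈ Five.four (pairStab p q) t := (hiff g).2 (by tauto)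
        obtain ⟨hgp, hgq⟩ := mem_pairStab.1 hgV.1
        refine ⟨⟨⟨hgV.2, Or.inl (Five.sq_of_mem_four e htD ht.1 ht.2.1 hgV), ?_, ?_⟩, ?_⟩, hgp, hgq⟩
        · rcases hg with rfl | rfl
          · exact hu1
          · exact fun h => hut (mul_left_cancel (h.trans ht.1.symm))
        · rcases hg with rfl | rfl
          · exact hut
          · exact fun h => hu1 (mul_eq_left.1 h)
        · exact Finset.one_lt_card.2 ⟨p, Finset.mem_filter.2 ⟨(hmemF p).2 hp, hgp⟩, q,
            Finset.mem_filter.2 ⟨(hmemF q).2 hq, hgq⟩, hpq⟩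
    rw [hset, Finset.card_pair fun h => ht.2.1 (mul_eq_right.1 h.symm)]
  have hUc := Finset.card_mul_eq_card_mul r hA hB
  rw [hFo] at hUc
  -- the one-point elements
  have hN1 : ∀ g ∈ N, fc g = 1 := by
    intro g hg
    obtain ⟨hgS, hgN⟩ := Finset.mem_filter.1 hg
    have : 0 < fc g := by
      rcases H.fixed_cases ht hodd ((hmemS g).1 hgS) with ⟨p, q, -, hp, -, hgp, -⟩ | ⟨p, hp, -, hgp, -⟩
      all_goals exact Finset.card_pos.2 ⟨p, Finset.mem_filter.2 ⟨(hmemF p).2 hp, hgp⟩⟩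
    omega
  have hNc : N.card = H.fNum * (nOne Ω t a).ncard := by
    have hdisj : N = F.biUnion fun p => Finset.univ.filter fun g => g ∈ nOne Ω t p := by
      ext g
      simp only [Finset.mem_biUnion, Finset.mem_filter, Finset.mem_univ, true_and]
      constructor
      · intro hg
        obtain ⟨p, hp⟩ := Finset.card_eq_one.1 (hN1 g hg)
        have hp' : p ∈ F.filter fun z => g • z = z := by rw [hp]; exact Finset.mem_singleton_self p
        obtain ⟨hpF, hgp⟩ := Finset.mem_filter.1 hp'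
        refine ⟨p, hpF, (hmemS g).1 (Finset.mem_filter.1 hg).1, hgp, fun z hz hgz => ?_⟩
        have : z ∈ F.filter fun z => g • z = z := Finset.mem_filter.2 ⟨(hmemF z).2 hz, hgz⟩
        rwa [hp, Finset.mem_singleton] at this
      · rintro ⟨p, -, hg, hgp, hu⟩
        refine Finset.mem_filter.2 ⟨(hmemS g).2 hg, fun h => ?_⟩
        obtain ⟨z, hz, w, hw, hzw⟩ := Finset.one_lt_card.1 h
        obtain ⟨hz, hgz⟩ := Finset.mem_filter.1 hz
        obtain ⟨hw, hgw⟩ := Finset.mem_filter.1 hw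
        exact hzw ((hu z ((hmemF z).1 hz) hgz).trans (hu w ((hmemF w).1 hw) hgw).symm)
    rw [hdisj, Finset.card_biUnion, Finset.sum_congr rfl fun p hp => ?_, Finset.sum_const, hF, smul_eq_mul]
    · rw [← H.ncard_nOne_eq ht ((hmemF p).1 hp) ha, ← Set.ncard_coe_finset]
      simp
    · intro p _ q _ hpq
      rw [Function.onFun, Finset.disjoint_left]
      intro g hgp hgq
      obtain ⟨-, -, hgp', hu⟩ := Finset.mem_filter.1 hgp
      obtain ⟨-, -, hgq', hu'⟩ := Finset.mem_filter.1 hgq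
      by_cases hpF : p ∈ fix Ω t
      · exact hpq (hu' p hpF hgp')
      · exact hpF ((hmemF p).1 ‹p ∈ F›)
  -- the pairs interchanged
  let r' : G → Ω × Ω → Prop := fun g p => g • p.1 = p.2
  have hC : ∀ g ∈ S, (F.offDiag.bipartiteAbove r' g).card = H.fNum - fc g := by
    intro g hg
    have hgs := (hmemS g).1 hg
    have himg : F.offDiag.bipartiteAbove r' g =
        (F \ F.filter fun z => g • z = z).image fun z => (z, g • z) := by
      ext ⟨p, q⟩
      simp only [Finset.bipartiteAbove, r', Finset.mem_filter, Finset.mem_offDiag, Finset.mem_image,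
        Finset.mem_sdiff, Prod.mk.injEq, hmemF]
      constructor
      · rintro ⟨⟨hp, -, hne⟩, hpq⟩
        exact ⟨p, ⟨hp, fun hc => hne (hc.2.symm.trans hpq)⟩, rfl, hpq⟩
      · rintro ⟨z, ⟨hz, hne⟩, rfl, rfl⟩
        exact ⟨⟨hz, cent_smul_mem_fix hgs.1 hz, fun hc => hne ⟨hz, hc.symm⟩⟩, rfl⟩
    rw [himg, Finset.card_image_of_injective _ (fun p q h => (Prod.ext_iff.1 h).1),
      Finset.card_sdiff_of_subset (Finset.filter_subset _ _), hF]
  have hD : ∀ p ∈ F.offDiag, (S.bipartiteBelow r' p).card = (swapT t x y).ncard := by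
    rintro ⟨p, q⟩ hp
    obtain ⟨hp, hq, hpq⟩ := Finset.mem_offDiag.1 hp
    rw [H.ncard_swapT_eq ht hxy hx hy hpq ((hmemF p).1 hp) ((hmemF q).1 hq), ← Set.ncard_coe_finset]
    simp [Finset.bipartiteBelow, r', S, swapT]
  have hsum := Finset.sum_card_bipartiteAbove_eq_sum_card_bipartiteBelow r' (s := S) (t := F.offDiag)
  rw [Finset.sum_congr rfl hC, Finset.sum_congr rfl hD, Finset.sum_const, hFo, smul_eq_mul,
    ← Finset.sum_filter_add_sum_filter_not S (fun g => 1 < fc g)] at hsum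
  change (∑ g ∈ U, (H.fNum - fc g)) + (∑ g ∈ N, (H.fNum - fc g)) = _ at hsum
  rw [Finset.sum_congr rfl fun g hg => by rw [hUh g hg], Finset.sum_const,
    Finset.sum_congr rfl fun g hg => by rw [hN1 g hg], Finset.sum_const, smul_eq_mul, smul_eq_mul, hNc] at hsum
  have hpos : 0 < H.fNum * (H.fNum - 1) := Nat.mul_pos (by omega) (by
    have := H.two_le_hNum; omega)
  refine Nat.eq_of_mul_eq_mul_left hpos ?_
  generalize H.fNum - H.hNum = d at hsum ⊢
  generalize H.hNum * (H.hNum - 1) = k at hUc ⊢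
  generalize H.fNum - 1 = f1 at hsum hUc ⊢
  generalize H.fNum = f at hsum hUc ⊢
  generalize (nOne Ω t a).ncard = m at hsum ⊢
  generalize (swapT t x y).ncard = s at hsum ⊢
  calc f * f1 * (2 * d + m * k) = f * f1 * 2 * d + f * m * f1 * k := by ring
    _ = U.card * k * d + f * m * f1 * k := by rw [hUc]
    _ = (U.card * d + f * m * f1) * k := by ring
    _ = f * f1 * s * k := by rw [hsum]
    _ = _ := by ring

theorem ncard_nOne_le_two {t : G} (ht : IsT Ω t) (hodd : Odd H.fNum) (hlt : H.hNum < H.fNum) {a : Ω}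
    (ha : a ∈ fix Ω t) : (nOne Ω t a).ncard ≤ 2 := by
  obtain ⟨x, y, hxy, hx, hy⟩ := ht.2.2
  have h := H.low_count ht hodd hlt ha hxy hx hy
  have hs := H.ncard_swapT_le ht hxy hx hy
  obtain ⟨m, hm⟩ := H.even_ncard_nOne ht ha
  have hk : 0 < H.hNum * (H.hNum - 1) := by
    have := H.two_le_hNum
    exact Nat.mul_pos (by omega) (by omega)
  have : (nOne Ω t a).ncard < 4 := by
    by_contra hc
    have h1 := Nat.mul_le_mul_right (H.hNum * (H.hNum - 1)) (not_lt.1 hc)
    have h2 := Nat.mul_le_mul_right (H.hNum * (H.hNum - 1)) hs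
    omega
  omega

/-- four swappers on one pair force equality -/
theorem low_count_four {t : G} (ht : IsT Ω t) (hodd : Odd H.fNum) (hlt : H.hNum < H.fNum) {a x y : Ω}
    (ha : a ∈ fix Ω t) (hxy : x ≠ y) (hx : x ∈ fix Ω t) (hy : y ∈ fix Ω t) (hfour : 4 ≤ (swapT t x y).ncard) :
    2 * (H.fNum - H.hNum) + (nOne Ω t a).ncard * (H.hNum * (H.hNum - 1)) = 4 * (H.hNum * (H.hNum - 1)) := by
  rw [H.low_count ht hodd hlt ha hxy hx hy, le_antisymm (H.ncard_swapT_le ht hxy hx hy) hfour]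

end Hyp

end CfsgLib.TwoTransAFive
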