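import Cfsg.Agent.Lib.TwoTransAFive.Sharp
import Cfsg.Agent.Lib.TwoTransAFive.Low
import Mathlib.GroupTheory.Index

/-!
`S3262`: tools for the case of a swap.

* actions of `A₅` on at most four things are trivial;
* `C(t) ≤ N(V)` when `h = f`;
* an involution of `C(t)` fixing only `a` is determined up to the four group.
-/

set_option autoImplicit false

namespace CfsgLib.TwoTransAFive

open Subgroup MulAction

theorem index_le_four_eq_top {G : Type*} [Group G] {D : Subgroup G} (e : D ≃* Model.A5) (K : Subgroup D)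
    (hK : K.index ≤ 4) : K = ⊤ := by
  haveI := Five.isSimple e
  haveI : Finite D := Nat.finite_of_card_ne_zero (by rw [Five.card_D e]; norm_num)
  by_contra hne
  have hcore : K.normalCore = ⊥ := (Subgroup.Normal.eq_bot_or_eq_top K.normalCore_normal).resolve_right
    fun h => hne (top_le_iff.1 (h ▸ K.normalCore_le))
  have hdvd : Nat.card D ∣ Nat.card (Equiv.Perm (D ⧸ K)) := by
    have hinj : Function.Injective (MulAction.toPermHom D (D ⧸ K)) := by
      rw [← MonoidHom.ker_eq_bot_iff, ← Subgroup.normalCore_eq_ker, hcore]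
    rw [Nat.card_congr (MonoidHom.ofInjective hinj).toEquiv]
    exact card_subgroup_dvd_card _
  rw [Five.card_D e, Nat.card_perm, ← Subgroup.index_eq_card] at hdvd
  have := Nat.le_of_dvd (Nat.factorial_pos _) hdvd
  have h24 := Nat.factorial_le hK
  norm_num [Nat.factorial] at h24
  omega

variable {G : Type*} [Group G] {Ω : Type*} [MulAction G Ω]

/-- `D` fixes the points of an invariant set of at most four elements, for the conjugation action -/
theorem comm_of_small {D : Subgroup G} (e : D ≃* Model.A5) (S : Set G) (hSf : S.Finite) (hS : S.ncard ≤ 4)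
    (hinv : ∀ k ∈ D, ∀ x ∈ S, k * x * k⁻¹ ∈ S) {x : G} (hx : x ∈ S) : ∀ k ∈ D, k * x = x * k := by
  let K : Subgroup D := (centralizer ({x} : Set G)).subgroupOf D
  have hK : K = ⊤ := by
    refine index_le_four_eq_top e K ?_
    haveI := hSf.to_subtype
    rw [Subgroup.index_eq_card]
    refine le_trans ?_ hS
    rw [← Nat.card_coe_set_eq]
    refine Nat.card_le_card_of_injective
      (Quotient.lift (fun k : D => (⟨(k : G) * x * (k : G)⁻¹, hinv k k.2 x hx⟩ : S)) ?_) ?_
    · intro k l hkl
      have h : k⁻¹ * l ∈ K := QuotientGroup.leftRel_apply.1 hkl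
      have h' : ((k : G))⁻¹ * l * x = x * ((k : G)⁻¹ * l) := mem_centralizer_singleton_iff.1 (mem_subgroupOf.1 h)
      refine Subtype.ext ?_
      calc (k : G) * x * (k : G)⁻¹ = k * (x * ((k : G)⁻¹ * l)) * (l : G)⁻¹ := by group
        _ = k * ((k : G)⁻¹ * l * x) * (l : G)⁻¹ := by rw [h']
        _ = l * x * (l : G)⁻¹ := by group
    · intro p q
      induction p using QuotientGroup.induction_on with
      | H k =>
        induction q using QuotientGroup.induction_on with
        | H l =>
          intro hkl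
          have h : (k : G) * x * (k : G)⁻¹ = l * x * (l : G)⁻¹ := congrArg Subtype.val hkl
          refine QuotientGroup.eq.2 (mem_subgroupOf.2 (mem_centralizer_singleton_iff.2 ?_))
          show (k : G)⁻¹ * l * x = x * ((k : G)⁻¹ * l)
          calc (k : G)⁻¹ * l * x = (k : G)⁻¹ * (l * x * (l : G)⁻¹) * l := by group
            _ = (k : G)⁻¹ * (k * x * (k : G)⁻¹) * l := by rw [h]
            _ = _ := by group
  intro k hk
  have : (⟨k, hk⟩ : D) ∈ K := by rw [hK]; exact mem_top _
  exact mem_centralizer_singleton_iff.1 (mem_subgroupOf.1 this)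

namespace Hyp

variable (H : Hyp G Ω) [Finite Ω]
include H

theorem fixSub_eq_fix {V : Subgroup G} (hV : IsFour Ω V) {t : G} (htV : t ∈ V) (ht1 : t ≠ 1)
    (hhf : H.hNum = H.fNum) : fixSub Ω V = fix Ω t :=
  Set.eq_of_subset_of_ncard_le (H.fixSub_subset_fix htV)
    (by rw [H.ncard_fixSub hV, H.ncard_fix (H.isT_of_mem_four hV htV ht1), hhf]) (Set.toFinite _)

theorem cent_le_cn {V : Subgroup G} (hV : IsFour Ω V) {t : G} (htV : t ∈ V) (ht1 : t ≠ 1)
    (hhf : H.hNum = H.fNum) : centralizer ({t} : Set G) ≤ cn V t := by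
  have key : ∀ g ∈ centralizer ({t} : Set G), ∀ v ∈ V, g * v * g⁻¹ ∈ V := by
    intro g hg v hv
    obtain ⟨x, y, hxy, hx, hy⟩ := H.exists_pair_fixSub hV
    have heq := H.fixSub_eq_fix hV htV ht1 hhf
    have hgx : g • x ∈ fixSub Ω V := by rw [heq] at hx ⊢; exact cent_smul_mem_fix hg hx
    have hgy : g • y ∈ fixSub Ω V := by rw [heq] at hy ⊢; exact cent_smul_mem_fix hg hy
    rw [← H.four_unique hV htV ht1 ((smul_left_cancel_iff g).not.2 hxy) hgx hgy, Five.mem_four]
    have hc := H.four_le_cent hV htV ht1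
    refine ⟨(conj_pairStab g x y).2 (mem_pairStab.2 ⟨hx v hv, hy v hv⟩), ?_⟩
    exact mem_centralizer_singleton_iff.1 (mul_mem (mul_mem hg (hc hv)) (inv_mem hg))
  intro g hg
  refine ⟨hg, (Subgroup.mem_normalizer_iff (H := V)).2 fun v => ⟨key g hg v, fun h => ?_⟩⟩
  have h' := key g⁻¹ (inv_mem hg) _ h
  rwa [show g⁻¹ * (g * v * g⁻¹) * g⁻¹⁻¹ = v by group] at h'

/-- two involutions centralising `t` and fixing `a` only -/
theorem onlyFix_coset [Finite G] (hh : Odd H.hNum) (hf : Odd H.fNum) {a b : Ω} (hab : a ≠ b) {t z x : G}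
    (ht : t ∈ pairStab a b) (ht2 : t * t = 1) (ht1 : t ≠ 1) (hz : z ∈ onlyFix Ω G a)
    (hzV : ∀ v ∈ Five.four (pairStab a b) t, v * z = z * v) (hx : x ∈ onlyFix Ω G a) (hxt : x * t = t * x) :
    z⁻¹ * x ∈ Five.four (pairStab a b) t := by
  obtain ⟨e⟩ := H.iso a b hab
  have hT := H.isT_of_mem hab ht ht2 ht1
  have hV := H.isFour_four hab ht ht2 ht1
  have htV : t ∈ Five.four (pairStab a b) t := ⟨ht, mem_centralizer_singleton_iff.2 rfl⟩
  have hnot : ∀ y ∈ onlyFix Ω G a, y ∉ Five.four (pairStab a b) t := fun y hy hyV => by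
    have : b ∈ fix Ω y := (mem_pairStab.1 hyV.1).2
    rw [hy.2.2] at this
    exact hab this.symm
  have haf : a ∈ fix Ω t := (mem_pairStab.1 ht).1
  have hzt : z * t = t * z := (hzV t htV).symm
  rcases eq_or_lt_of_le H.hNum_le_fNum with hhf | hlt
  · have hle := H.cent_le_cn hV htV ht1 hhf
    have hinv : ∀ y ∈ onlyFix Ω G a, y * t = t * y → y ∈ invSet (Five.four (pairStab a b) t) t ∧ y • a = a :=
      fun y hy hyt => ⟨⟨hle (mem_centralizer_singleton_iff.2 hyt), by rw [hy.1]; exact one_mem _, hnot y hy⟩,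
        by
          have : a ∈ fix Ω y := by rw [hy.2.2]; rfl
          exact this⟩
    exact H.sharp_unique hV htV ht1 hh (fun v hv => (mem_pairStab.1 hv.1).1) (hinv z hz hzt).1
      (hinv z hz hzt).2 (hinv x hx hxt).1 (hinv x hx hxt).2
  · have hN : ∀ y ∈ onlyFix Ω G a, y * t = t * y → y ∈ nOne Ω t a ∧ y * t ∈ nOne Ω t a := by
      intro y hy hyt
      have hys : y ∈ sqT t := ⟨mem_centralizer_singleton_iff.2 hyt, Or.inl hy.1, hy.2.1,
        fun h => hnot y hy (h ▸ htV)⟩
      have hya : y • a = a := by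
        have : a ∈ fix Ω y := by rw [hy.2.2]; rfl
        exact this
      have hu : ∀ w ∈ fix Ω t, y • w = w → w = a := fun w _ hw => by
        have : w ∈ fix Ω y := hw
        rwa [hy.2.2] at this
      refine ⟨⟨hys, hya, hu⟩, mul_mem_sqT ht2 hys, by rw [mul_smul, haf, hya], fun w hw hw' => hu w hw ?_⟩
      rwa [mul_smul, hw] at hw'
    have hpair : ({z, z * t} : Set G) = nOne Ω t a := by
      refine Set.eq_of_subset_of_ncard_le (Set.insert_subset (hN z hz hzt).1
        (Set.singleton_subset_iff.2 (hN z hz hzt).2)) ?_ (Set.toFinite _)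
      rw [Set.ncard_pair fun h => ht1 (mul_eq_left.1 h.symm)]
      exact H.ncard_nOne_le_two hT hf hlt haf
    have hx' := (hN x hx hxt).1
    rw [← hpair] at hx'
    rcases hx' with rfl | hx'
    · rw [inv_mul_cancel]; exact one_mem _
    · rw [Set.mem_singleton_iff] at hx'
      rw [hx', inv_mul_cancel_left]; exact htV

end Hyp

end CfsgLib.TwoTransAFive
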