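import Cfsg.Agent.Lib.TwoTransAFive.Swap
import Cfsg.Agent.Lib.TwoTransAFive.Tools
import Cfsg.Agent.Lib.TwoTransAFive.Setup
import Cfsg.Agent.Lib.Involutions.BrauerSuzuki

/-!
`S3262`: a swap with one fixed point is impossible: it would be isolated.
-/

set_option autoImplicit false

namespace CfsgLib.TwoTransAFive

open Subgroup MulAction

variable {G : Type*} [Group G] {Ω : Type*} [MulAction G Ω]

/-- The conjugates of `z` fixing `a`. -/
def conjAt (z : G) (a : Ω) : Set G := {w | (∃ g : G, g * z * g⁻¹ = w) ∧ w • a = a}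

theorem conj_fix_eq {z w g : G} {a : Ω} (hfz : fix Ω z = {a}) (hgw : g * z * g⁻¹ = w) :
    fix Ω w = {g • a} := by rw [← hgw, fix_conj, hfz, Set.image_singleton]

theorem conjAt_exists {z w : G} {a : Ω} (hfz : fix Ω z = {a}) (hw : w ∈ conjAt z a) :
    ∃ g : G, g • a = a ∧ g * z * g⁻¹ = w := by
  obtain ⟨⟨g, hg⟩, hwa⟩ := hw
  have : a ∈ fix Ω w := hwa
  rw [conj_fix_eq hfz hg, Set.mem_singleton_iff] at this
  exact ⟨g, this.symm, hg⟩

theorem conjAt_sub {z : G} {a : Ω} (hz : z ∈ onlyFix Ω G a) : conjAt z a ⊆ onlyFix Ω G a := by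
  intro w hw
  obtain ⟨g, hga, hgw⟩ := conjAt_exists hz.2.2 hw
  refine ⟨?_, fun h => hz.2.1 ?_, by rw [conj_fix_eq hz.2.2 hgw, hga]⟩
  · rw [← hgw, show g * z * g⁻¹ * (g * z * g⁻¹) = g * (z * z) * g⁻¹ by group, hz.1]; group
  · calc z = g⁻¹ * (g * z * g⁻¹) * g := by group
      _ = 1 := by rw [hgw, h]; group

theorem conjAt_conj {z w g : G} {a : Ω} (hga : g • a = a) (hw : w ∈ conjAt z a) :
    g * w * g⁻¹ ∈ conjAt z a := by
  obtain ⟨⟨k, rfl⟩, hwa⟩ := hw
  refine ⟨⟨g * k, by group⟩, ?_⟩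
  have hg' : g⁻¹ • a = a := by rw [inv_smul_eq_iff, hga]
  rw [mul_smul, mul_smul, hg', hwa, hga]

namespace Hyp

variable (H : Hyp G Ω) [Finite G] [Finite Ω] [FaithfulSMul G Ω]
include H

theorem false_of_swap_one (hodd : Odd (Nat.card Ω)) {a b : Ω} {z : G} (hz : Swap a b z)
    (hT : ¬ IsT Ω z) : False := by
  classical
  obtain ⟨hab, hz2, hza, hzb, hzD⟩ := hz
  obtain ⟨hh, hf⟩ := H.odd_hNum hodd
  obtain ⟨e⟩ := H.iso a b hab
  have hz1 : z ≠ 1 := fun h => hzb (by rw [h, one_smul])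
  have hfz : fix Ω z = {a} := Set.eq_singleton_iff_unique_mem.2
    ⟨hza, fun x hx => fix_eq_of_not_isT hz2 hz1 hT hx hza⟩
  have hzF : z ∈ onlyFix Ω G a := ⟨hz2, hz1, hfz⟩
  have hkz : ∀ k ∈ pairStab a b, k * z * k⁻¹ = z := fun k hk => mul_inv_eq_iff_eq_mul.2 (hzD k hk)
  -- elements of `conjAt` commuting with an involution of `D`
  have step1 : ∀ w ∈ conjAt z a, ∀ t : G, t ∈ pairStab a b → t * t = 1 → t ≠ 1 → w * t = t * w → w = z := by
    intro w hw t ht ht2 ht1 hwt
    have hv := H.onlyFix_coset hh hf hab ht ht2 ht1 hzF (fun v hv => hzD v hv.1) (conjAt_sub hzF hw) hwt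
    by_contra hne
    have hv1 : z⁻¹ * w ≠ 1 := fun h => hne (inv_mul_eq_one.1 h).symm
    have hv2 := Five.sq_of_mem_four e ht ht2 ht1 hv
    have hsub : insert z ((fun y => z * y) '' {y : G | y ∈ pairStab a b ∧ y * y = 1 ∧ y ≠ 1}) ⊆
        onlyFix Ω G a := by
      refine Set.insert_subset hzF ?_
      rintro _ ⟨y, ⟨hy, hy2, hy1⟩, rfl⟩
      obtain ⟨k, hk, hky⟩ := Five.invol_conj e hv.1 hy hv2 hy2 hv1 hy1
      refine conjAt_sub hzF (a := a) ?_
      have : z * y = k * w * k⁻¹ := by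
        rw [← hky]
        calc z * (k * (z⁻¹ * w) * k⁻¹) = (z * k) * z⁻¹ * w * k⁻¹ := by group
          _ = (k * z) * z⁻¹ * w * k⁻¹ := by rw [hzD k hk]
          _ = k * w * k⁻¹ := by group
      show z * y ∈ conjAt z a
      rw [this]
      exact conjAt_conj (mem_pairStab.1 hk).1 hw
    have h16 := Set.ncard_le_ncard hsub (Set.toFinite _)
    rw [Set.ncard_insert_of_notMem ?_ (Set.toFinite _),
      Set.ncard_image_of_injective _ (mul_right_injective z), Five.card_invol e] at h16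
    · have := H.ncard_onlyFix_lt a
      omega
    · rintro ⟨y, ⟨-, -, hy1⟩, hy⟩
      exact hy1 (mul_eq_left.1 hy)
  -- the other elements of `conjAt`: one orbit of twelve
  by_cases hiso : ∀ w ∈ conjAt z a, w * z = z * w → w = z
  · have hI : Cfsg.IsIsolatedInvolution z := by
      refine ⟨orderOf_eq_prime (by rw [pow_two]; exact hz2) hz1, fun g hg => ?_⟩
      refine hiso _ ⟨⟨g, rfl⟩, ?_⟩ hg.eq.symm
      have hfix := conj_fix_eq (g := g) hfz rfl
      have h : z • (g * z * g⁻¹) • a = (g * z * g⁻¹) • a := by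
        rw [← mul_smul, hg.eq, mul_smul, hza]
      have h' : (g * z * g⁻¹) • a ∈ fix Ω z := h
      rwa [hfz, Set.mem_singleton_iff] at h'
    have hZ := CfsgLib.Involutions.zstar G z hI
    have hc : z ∈ Subgroup.center G := Subgroup.mem_center_iff.2 fun g => by
      have h := hZ g
      rw [show Cfsg.pPrimeCore 2 G = ⊥ from H.oddCore_eq_bot, mem_bot, mul_inv_eq_one,
        mul_inv_eq_iff_eq_mul] at h
      exact h
    rw [H.center_eq_bot, mem_bot] at hc
    exact hz1 hc
  push Not at hiso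
  obtain ⟨w, hw, hwz, hwne⟩ := hiso
  let St : Subgroup (pairStab a b : Subgroup G) := (centralizer ({w} : Set G)).subgroupOf (pairStab a b)
  have hmem : ∀ k : (pairStab a b : Subgroup G), k ∈ St ↔ (k : G) * w = w * k := fun k => by
    rw [Subgroup.mem_subgroupOf, mem_centralizer_singleton_iff]
  let O : Set G := conjAt z a \ {z}
  have horbO : ∀ k ∈ pairStab a b, ∀ y ∈ O, k * y * k⁻¹ ∈ O := by
    intro k hk y hy
    refine ⟨conjAt_conj (mem_pairStab.1 hk).1 hy.1, fun h => hy.2 ?_⟩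
    rw [Set.mem_singleton_iff] at h ⊢
    calc y = k⁻¹ * (k * y * k⁻¹) * k := by group
      _ = k⁻¹ * z * k := by rw [h]
      _ = z := by rw [mul_assoc, ← hzD k hk]; group
  have hOle : O.ncard ≤ 14 := by
    have h := Set.ncard_le_ncard (conjAt_sub hzF) (Set.toFinite _)
    have h15 := H.ncard_onlyFix_lt a
    have hzz : z ∈ conjAt z a := ⟨⟨1, by group⟩, hza⟩
    rw [Set.ncard_sdiff_singleton_of_mem hzz]
    omega
  have hOgt : ∀ y ∈ O, 5 ≤ ((fun k : (pairStab a b : Subgroup G) => (k : G) * y * (k : G)⁻¹) '' Set.univ).ncard := by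
    intro y hy
    by_contra hlt
    have hcomm := comm_of_small e _ (Set.toFinite _) (show Set.ncard
      ((fun k : (pairStab a b : Subgroup G) => (k : G) * y * (k : G)⁻¹) '' Set.univ) ≤ 4 by omega) ?_
      (x := y) ⟨1, Set.mem_univ _, by simp⟩
    · obtain ⟨t, ht, ht2, ht1⟩ := H.exists_invol hab
      exact hy.2 (step1 y hy.1 t ht ht2 ht1 (hcomm t ht).symm)
    · rintro k hk _ ⟨l, -, rfl⟩
      exact ⟨⟨k, hk⟩ * l, Set.mem_univ _, by simp only [Subgroup.coe_mul]; group⟩
  -- the orbit of `w`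
  let orb : Set G := (fun k : (pairStab a b : Subgroup G) => (k : G) * w * (k : G)⁻¹) '' Set.univ
  have hwO : w ∈ O := ⟨hw, hwne⟩
  have horb_sub : orb ⊆ O := by
    rintro _ ⟨k, -, rfl⟩
    exact horbO k k.2 w hwO
  have horb_card : orb.ncard = St.index := by
    rw [Subgroup.index_eq_card, ← Nat.card_coe_set_eq]
    refine (Nat.card_congr (Equiv.ofBijective
      (Quotient.lift (fun k : (pairStab a b : Subgroup G) => (⟨_, k, Set.mem_univ _, rfl⟩ : orb)) ?_)
      ⟨?_, ?_⟩)).symm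
    · intro k l hkl
      have h := (hmem _).1 (QuotientGroup.leftRel_apply.1 hkl)
      refine Subtype.ext ?_
      show (k : G) * w * (k : G)⁻¹ = l * w * (l : G)⁻¹
      calc (k : G) * w * (k : G)⁻¹ = k * (w * ((k : G)⁻¹ * l)) * (l : G)⁻¹ := by group
        _ = k * ((k : G)⁻¹ * l * w) * (l : G)⁻¹ := by rw [show (k : G)⁻¹ * l * w = w * ((k : G)⁻¹ * l) from h]
        _ = l * w * (l : G)⁻¹ := by group
    · intro p q
      induction p using QuotientGroup.induction_on with
      | H k =>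
        induction q using QuotientGroup.induction_on with
        | H l =>
          intro hkl
          have h : (k : G) * w * (k : G)⁻¹ = l * w * (l : G)⁻¹ := congrArg Subtype.val hkl
          refine QuotientGroup.eq.2 ((hmem _).2 ?_)
          show (k : G)⁻¹ * l * w = w * ((k : G)⁻¹ * l)
          calc (k : G)⁻¹ * l * w = (k : G)⁻¹ * (l * w * (l : G)⁻¹) * l := by group
            _ = (k : G)⁻¹ * (k * w * (k : G)⁻¹) * l := by rw [h]
            _ = _ := by group
    · rintro ⟨_, k, -, rfl⟩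
      exact ⟨QuotientGroup.mk k, rfl⟩
  have hSodd : ¬ 2 ∣ Nat.card St := by
    intro h2
    haveI : Fact (Nat.Prime 2) := ⟨Nat.prime_two⟩
    obtain ⟨k, hk⟩ := exists_prime_orderOf_dvd_card' 2 h2
    rw [← Subgroup.orderOf_coe, ← Subgroup.orderOf_coe] at hk
    obtain ⟨hk2, hk1⟩ := orderOf_eq_prime_iff.1 hk
    rw [pow_two] at hk2
    exact hwne (step1 w hw _ k.1.2 hk2 hk1 ((hmem _).1 k.2).symm)
  have hS15 : Nat.card St ≠ 15 := fun h15 => by
    haveI : Fact (Nat.Prime 3) := ⟨Nat.prime_three⟩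
    haveI : Fact (Nat.Prime 5) := ⟨by norm_num⟩
    have hidx := St.card_mul_index
    rw [h15, Five.card_D e] at hidx
    have htop := index_le_four_eq_top e St (by omega)
    rw [htop, Subgroup.card_top, Five.card_D e] at h15
    omega
  have hidx : St.index * Nat.card St = 60 := by rw [mul_comm, St.card_mul_index, Five.card_D e]
  have horb12 : orb.ncard = 12 := by
    have h14 := (Set.ncard_le_ncard horb_sub (Set.toFinite _)).trans hOle
    have h5 : 5 ≤ orb.ncard := hOgt w hwO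
    rw [horb_card] at h14 h5 ⊢
    generalize St.index = i at hidx h14 h5 ⊢
    generalize Nat.card St = c at hidx hSodd hS15
    interval_cases i <;> omega
  have hOorb : O = orb := by
    refine (Set.Subset.antisymm horb_sub fun y hy => ?_).symm
    by_contra hyn
    have hdisj : Disjoint orb ((fun k : (pairStab a b : Subgroup G) => (k : G) * y * (k : G)⁻¹) '' Set.univ) := by
      rw [Set.disjoint_left]
      rintro _ ⟨k, -, rfl⟩ ⟨l, -, hl⟩
      refine hyn ⟨l⁻¹ * k, Set.mem_univ _, ?_⟩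
      simp only [Subgroup.coe_mul, Subgroup.coe_inv] at hl ⊢
      calc (l : G)⁻¹ * k * w * ((l : G)⁻¹ * k)⁻¹ = (l : G)⁻¹ * (k * w * (k : G)⁻¹) * l := by group
        _ = (l : G)⁻¹ * (l * y * (l : G)⁻¹) * l := by rw [hl]
        _ = y := by group
    have h := Set.ncard_le_ncard (Set.union_subset horb_sub (show
      ((fun k : (pairStab a b : Subgroup G) => (k : G) * y * (k : G)⁻¹) '' Set.univ) ⊆ O by
        rintro _ ⟨k, -, rfl⟩; exact horbO k k.2 y hy)) (Set.toFinite _)
    rw [Set.ncard_union_eq hdisj (Set.toFinite _) (Set.toFinite _)] at h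
    have := hOgt y hy
    omega
  -- all of `conjAt` commute
  have hcz : ∀ y ∈ conjAt z a, y * z = z * y := by
    intro y hy
    by_cases hyz : y = z
    · rw [hyz]
    obtain ⟨k, -, rfl⟩ : y ∈ orb := hOorb ▸ (⟨hy, hyz⟩ : y ∈ O)
    have h : (k : G) * (w * z) * (k : G)⁻¹ = k * (z * w) * (k : G)⁻¹ := by rw [hwz]
    calc (k : G) * w * (k : G)⁻¹ * z = k * w * (k : G)⁻¹ * (k * z * (k : G)⁻¹) := by rw [hkz k k.2]
      _ = k * (w * z) * (k : G)⁻¹ := by group
      _ = k * (z * w) * (k : G)⁻¹ := h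
      _ = (k * z * (k : G)⁻¹) * (k * w * (k : G)⁻¹) := by group
      _ = z * (k * w * (k : G)⁻¹) := by rw [hkz k k.2]
  have hcomm : ∀ x ∈ conjAt z a, ∀ y ∈ conjAt z a, x * y = y * x := by
    intro x hx y hy
    obtain ⟨g, hga, rfl⟩ := conjAt_exists hfz hx
    have hg' : g⁻¹ • a = a := by rw [inv_smul_eq_iff, hga]
    have h := hcz _ (conjAt_conj hg' hy)
    rw [inv_inv] at h
    calc g * z * g⁻¹ * y = g * (z * (g⁻¹ * y * g)) * g⁻¹ := by group
      _ = g * (g⁻¹ * y * g * z) * g⁻¹ := by rw [h]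
      _ = y * (g * z * g⁻¹) := by group
  let L : Subgroup G := Subgroup.closure (conjAt z a)
  have hLc : IsMulCommutative L := Subgroup.isMulCommutative_closure hcomm
  have hLcomm : ∀ x ∈ L, ∀ y ∈ L, x * y = y * x := fun x hx y hy =>
    congrArg Subtype.val (hLc.is_comm.comm (⟨x, hx⟩ : L) ⟨y, hy⟩)
  have hLsq : ∀ x ∈ L, x * x = 1 := by
    intro x hx
    induction hx using Subgroup.closure_induction with
    | mem x hx => exact (conjAt_sub hzF hx).1
    | one => exact one_mul 1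
    | mul x y hxm hym hx hy =>
      calc x * y * (x * y) = x * (y * x) * y := by group
        _ = x * (x * y) * y := by rw [hLcomm y hym x hxm]
        _ = (x * x) * (y * y) := by group
        _ = 1 := by rw [hx, hy, one_mul]
    | inv x _ hx => rw [← mul_inv_rev, hx, inv_one]
  have hLa : ∀ x ∈ L, x • a = a := fun x hx => by
    have : L ≤ stabilizer G a := (closure_le _).2 fun y hy => hy.2
    exact this hx
  have hLconj : ∀ g : G, g • a = a → ∀ x ∈ L, g * x * g⁻¹ ∈ L := by
    intro g hga x hx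
    have : (L.map (MulAut.conj g).toMonoidHom) ≤ L := by
      rw [MonoidHom.map_closure, closure_le]
      rintro _ ⟨y, hy, rfl⟩
      exact subset_closure (conjAt_conj hga hy)
    exact this ⟨x, hx, rfl⟩
  have hLfix : ∀ x ∈ L, x ≠ 1 → x ∈ onlyFix Ω G a := by
    intro x hx hx1
    refine ⟨hLsq x hx, hx1, Set.eq_singleton_iff_unique_mem.2 ⟨hLa x hx, fun c hc => ?_⟩⟩
    by_contra hca
    obtain ⟨e'⟩ := H.iso a c (Ne.symm hca)
    have hxD : x ∈ pairStab a c := mem_pairStab.2 ⟨hLa x hx, hc⟩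
    obtain ⟨k, hk, -, -, hne, -⟩ := Five.three_four e' hxD (hLsq x hx) hx1
    haveI := Five.isSimple e'
    haveI hn : (L.subgroupOf (pairStab a c)).Normal := ⟨fun y hy g =>
      mem_subgroupOf.2 (hLconj g (mem_pairStab.1 g.2).1 _ (mem_subgroupOf.1 hy))⟩
    rcases hn.eq_bot_or_eq_top with h | h
    · have hm : (⟨x, hxD⟩ : (pairStab a c : Subgroup G)) ∈ L.subgroupOf (pairStab a c) := mem_subgroupOf.2 hx
      rw [h, mem_bot] at hm
      exact hx1 (congrArg Subtype.val hm)
    · refine hne ?_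
      have hkL : k ∈ L := mem_subgroupOf.1 (show (⟨k, hk⟩ : (pairStab a c : Subgroup G)) ∈
        L.subgroupOf (pairStab a c) by rw [h]; exact mem_top _)
      rw [hLcomm k hkL x hx, mul_inv_cancel_right]
  have hL16 : Nat.card L = 16 := by
    haveI : Fact (Nat.Prime 2) := ⟨Nat.prime_two⟩
    have hp : IsPGroup 2 L := fun x => ⟨1, Subtype.ext (by
      rw [pow_one, Subgroup.coe_pow, pow_two]; exact hLsq x x.2)⟩
    obtain ⟨n, hn⟩ := IsPGroup.iff_card.1 hp
    have hupp : Nat.card L ≤ 16 := by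
      have h := Set.ncard_le_ncard (s := (L : Set G)) (t := insert 1 (onlyFix Ω G a))
        (fun x hx => by
          by_cases hx1 : x = 1
          · exact Or.inl hx1
          · exact Or.inr (hLfix x hx hx1)) (Set.toFinite _)
      rw [← Nat.card_coe_set_eq] at h
      refine le_trans h ((Set.ncard_insert_le _ _).trans ?_)
      have := H.ncard_onlyFix_lt a
      omega
    have hlow : 12 ≤ Nat.card L := by
      rw [← horb12]
      have h := Set.ncard_le_ncard (horb_sub.trans (fun x hx => subset_closure hx.1) : orb ⊆ (L : Set G))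
        (Set.toFinite _)
      rwa [← Nat.card_coe_set_eq (L : Set G)] at h
    rw [hn] at hupp hlow ⊢
    have hn4 : n ≤ 4 := by
      by_contra hc
      have := Nat.pow_le_pow_right two_pos (show 5 ≤ n by omega)
      omega
    interval_cases n <;> first | rfl | omega
  let R : Set G := (L : Set G) \ insert 1 (conjAt z a)
  have hzz : z ∈ conjAt z a := ⟨⟨1, by group⟩, hza⟩
  have hcA : (conjAt z a).ncard = 13 := by
    have h := Set.ncard_sdiff_singleton_of_mem hzz
    rw [show conjAt z a \ {z} = orb from hOorb, horb12] at h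
    omega
  have hR : R.ncard = 2 := by
    have hins : (insert 1 (conjAt z a) : Set G).ncard = 14 := by
      rw [Set.ncard_insert_of_notMem (fun h => (conjAt_sub hzF h).2.1 rfl) (Set.toFinite _), hcA]
    have hsub : (insert 1 (conjAt z a) : Set G) ⊆ (L : Set G) :=
      Set.insert_subset (one_mem L) fun x hx => subset_closure hx
    rw [Set.ncard_sdiff hsub (Set.toFinite _), hins, ← Nat.card_coe_set_eq (L : Set G)]
    rw [show Nat.card ↥(L : Set G) = 16 from hL16]
  obtain ⟨x, hx⟩ : R.Nonempty := Set.nonempty_of_ncard_ne_zero (by rw [hR]; norm_num)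
  have hxD : ∀ k ∈ pairStab a b, k * x = x * k := by
    refine comm_of_small e R (Set.toFinite _) (by omega) ?_ hx
    rintro k hk y ⟨hyL, hyn⟩
    refine ⟨hLconj k (mem_pairStab.1 hk).1 y hyL, fun h => hyn ?_⟩
    have hk' : k⁻¹ • a = a := by rw [inv_smul_eq_iff, (mem_pairStab.1 hk).1]
    rcases h with h | h
    · left
      calc y = k⁻¹ * (k * y * k⁻¹) * k := by group
        _ = 1 := by rw [h]; group
    · right
      have := conjAt_conj hk' h
      rwa [inv_inv, show k⁻¹ * (k * y * k⁻¹) * k = y by group] at this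
  have hx1 : x ≠ 1 := fun h => hx.2 (Or.inl h)
  obtain ⟨t, ht, ht2, ht1⟩ := H.exists_invol hab
  have hv := H.onlyFix_coset hh hf hab ht ht2 ht1 hzF (fun v hv => hzD v hv.1) (hLfix x hx.1 hx1)
    (hxD t ht).symm
  have hzx : z⁻¹ * x = 1 := H.eq_one_of_central hab hv.1 (Five.sq_of_mem_four e ht ht2 ht1 hv) fun d hd => by
    have h1 : d * z⁻¹ = z⁻¹ * d := by rw [inv_eq_of_mul_eq_one_left hz2]; exact hzD d hd
    rw [← mul_assoc, h1, mul_assoc, hxD d hd, mul_assoc]
  exact hx.2 (Or.inr ((inv_mul_eq_one.1 hzx) ▸ hzz))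

end Hyp

end CfsgLib.TwoTransAFive
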