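import Cfsg.Agent.Lib.TwoTransAFive.Setup
import Cfsg.Agent.Lib.FewOrders.Prime
import Cfsg.Agent.Lib.Golay.Mathieu
import Cfsg.Agent.S0420
import Cfsg.Prelude.Def_Spor_Mathieu

/-!
`S3262`: twelve points: `G` is simple of order `7920`, hence the Mathieu group of degree eleven.
-/

set_option autoImplicit false

namespace CfsgLib.TwoTransAFive

open Subgroup MulAction

/-- A group whose order divides `132` is solvable. -/
theorem isSolvable_of_dvd_132 {X : Type*} [Group X] [Finite X] (h : Nat.card X ∣ 132) :
    Group.IsSolvable X := by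
  have key : ∀ t : ℕ, t.Prime → t ∣ 12 → t = 2 ∨ t = 3 := by
    intro t ht htd
    have := Nat.le_of_dvd (by norm_num) htd
    interval_cases t <;> norm_num at *
  have twelve : ∀ (Y : Type _) [Group Y] [Finite Y], Nat.card Y ∣ 12 → Group.IsSolvable Y :=
    fun Y _ _ hY => CfsgLib.FewOrders.isSolvable_of_two_primes Nat.prime_two Nat.prime_three
      fun t ht htd => key t ht (htd.trans hY)
  haveI : Fact (Nat.Prime 11) := ⟨by norm_num⟩
  by_cases h11 : 11 ∣ Nat.card X
  swap
  · refine twelve X ?_
    exact Nat.Coprime.dvd_of_dvd_mul_left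
      (Nat.Coprime.symm ((Nat.Prime.coprime_iff_not_dvd (by norm_num)).2 h11)) (m := 11) h
  obtain ⟨k, hk⟩ := h11
  have hk12 : k ∣ 12 := Nat.dvd_of_mul_dvd_mul_left (k := 11) (by norm_num) (hk ▸ h)
  obtain ⟨P⟩ := (inferInstance : Nonempty (Sylow 11 X))
  have hn11 : ¬ 11 ∣ k := fun hd => by
    have := hd.trans hk12
    norm_num at this
  have hk0 : k ≠ 0 := fun h0 => (Nat.card_pos (α := X)).ne' (by rw [hk, h0, mul_zero])
  have hP : Nat.card (P : Subgroup X) = 11 := by
    rw [P.card_eq_multiplicity, hk, Nat.factorization_mul (by norm_num) hk0, Finsupp.add_apply,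
      Nat.Prime.factorization_self (by norm_num), Nat.factorization_eq_zero_of_not_dvd hn11,
      add_zero, pow_one]
  have hidx : (P : Subgroup X).index = k := by
    have := (P : Subgroup X).card_mul_index
    rw [hP, hk] at this
    omega
  by_cases hN : (P : Subgroup X).Normal
  · haveI := hN
    haveI : IsCyclic (P : Subgroup X) := isCyclic_of_prime_card hP
    refine (Group.isSolvable_iff_subgroup_quotient (P : Subgroup X)).2
      ⟨Group.isSolvable_of_comm fun a b => IsMulCommutative.is_comm.comm a b, twelve _ ?_⟩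
    rwa [← Subgroup.index_eq_card, hidx]
  -- otherwise the Sylow subgroup is self-normalising and has a normal complement
  set K := normalizer ((P : Subgroup X) : Set X) with hK
  have hmod : K.index % 11 = 1 := by
    have h3 := card_sylow_modEq_one 11 X
    rw [Sylow.card_eq_index_normalizer P] at h3
    exact h3
  have hdvd : K.index ∣ k := hidx ▸ Subgroup.index_dvd_of_le le_normalizer
  have hne : K.index ≠ 1 := fun h1 => hN (normalizer_eq_top_iff.1 (index_eq_one.1 h1))
  have hle := Nat.le_of_dvd (by norm_num) (hdvd.trans hk12)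
  have h12 : K.index = 12 := by omega
  have hk' : k = 12 := Nat.dvd_antisymm hk12 (h12 ▸ hdvd)
  have hKP : K = (P : Subgroup X) := by
    refine (Subgroup.eq_of_le_of_card_ge le_normalizer ?_).symm
    have := K.card_mul_index
    rw [h12, hk, hk'] at this
    rw [hP]
    exact (Nat.eq_of_mul_eq_mul_right (by norm_num) this).le
  haveI : IsCyclic (P : Subgroup X) := isCyclic_of_prime_card hP
  have hPc : K ≤ centralizer ((P : Subgroup X) : Set X) := by
    rw [hKP]
    exact Subgroup.le_centralizer_iff_isMulCommutative.2 inferInstance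
  haveI : IsMulCommutative (P : Subgroup X) := inferInstance
  have hc := MonoidHom.ker_transferSylow_isComplement' P hPc
  set N := (MonoidHom.transferSylow P hPc).ker
  have hNc : Nat.card N = 12 := by rw [← hc.index_eq_card, hidx, hk']
  refine (Group.isSolvable_iff_subgroup_quotient N).2 ⟨twelve _ (by rw [hNc]), ?_⟩
  have hq : Nat.card (X ⧸ N) = 11 := by rw [← Subgroup.index_eq_card, hc.symm.index_eq_card, hP]
  haveI : IsCyclic (X ⧸ N) := isCyclic_of_prime_card hq
  exact Group.isSolvable_of_comm fun a b => IsMulCommutative.is_comm.comm a b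

variable {G : Type*} [Group G] {Ω : Type*} [MulAction G Ω]

namespace Hyp

variable (H : Hyp G Ω)
include H

theorem isSimple_of_twelve [Finite G] [Finite Ω] [FaithfulSMul G Ω] (hn : Nat.card Ω = 12) :
    IsSimpleGroup G := by
  obtain ⟨a, b, hab⟩ := H.exists_pair
  have hG : Nat.card G = 7920 := by rw [H.card_G, hn]
  haveI : Nontrivial G := Finite.one_lt_card_iff_nontrivial.1 (by rw [hG]; norm_num)
  refine ⟨fun M hM => ?_⟩
  by_cases hM1 : M = ⊥
  · exact Or.inl hM1
  refine Or.inr ?_
  haveI := hM
  have hD : Nat.card (pairStab a b : Subgroup G) = 60 := H.card_pairStab hab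
  haveI := Five.isSimple (H.iso a b hab).some
  haveI : (M.subgroupOf (pairStab a b)).Normal := inferInstance
  rcases IsSimpleGroup.eq_bot_or_eq_top_of_normal (M.subgroupOf (pairStab a b)) inferInstance with hb | ht
  · -- `M` meets the two-point stabiliser trivially, so its order divides 132
    exfalso
    refine H.not_solvable_normal hM hM1 (isSolvable_of_dvd_132 ?_)
    have hinj : Function.Injective ((QuotientGroup.mk' M).comp (pairStab a b : Subgroup G).subtype) := by
      rw [injective_iff_map_eq_one]
      intro x hx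
      have hx' : x ∈ M.subgroupOf (pairStab a b) :=
        mem_subgroupOf.2 ((QuotientGroup.eq_one_iff (x : G)).1 hx)
      rwa [hb, mem_bot] at hx'
    have h60 : 60 ∣ M.index := by
      rw [← hD, Subgroup.index_eq_card]
      exact Subgroup.card_dvd_of_injective _ hinj
    have : Nat.card M * 60 ∣ 132 * 60 := by
      rw [show 132 * 60 = Nat.card G by rw [hG], ← M.card_mul_index]
      exact Nat.mul_dvd_mul_left _ h60
    exact Nat.dvd_of_mul_dvd_mul_right (by norm_num) this
  · -- `M` contains the two-point stabiliser, hence the point stabiliser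
    have hle : pairStab a b ≤ M := subgroupOf_eq_top.1 ht
    set A := M ⊓ stabilizer G a with hA
    have hDA : pairStab a b ≤ A := le_inf hle inf_le_left
    have h1 : 60 ∣ Nat.card A := hD ▸ Subgroup.card_dvd_of_le hDA
    have h2 : Nat.card A ∣ 660 := by
      have := Subgroup.card_dvd_of_le (inf_le_right : A ≤ stabilizer G a)
      rwa [H.card_stab a, hn] at this
    obtain ⟨k, hk⟩ := h1
    have hk11 : k = 1 ∨ k = 11 :=
      (Nat.dvd_prime (by norm_num)).1
        (Nat.dvd_of_mul_dvd_mul_left (k := 60) (by norm_num) (hk ▸ h2))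
    rcases hk11 with hk1 | hk1
    · exfalso
      have hAD : pairStab a b = A := Subgroup.eq_of_le_of_card_ge hDA (by rw [hk, hk1, hD])
      haveI : Nontrivial (pairStab a b : Subgroup G) :=
        Finite.one_lt_card_iff_nontrivial.1 (by rw [hD]; norm_num)
      obtain ⟨⟨x, hx⟩, hx1⟩ := exists_ne (1 : (pairStab a b : Subgroup G))
      refine hx1 (Subtype.ext (eq_of_smul_eq_smul (α := Ω) fun c => ?_))
      rw [Subgroup.coe_one, one_smul]
      obtain ⟨hxa, hxb⟩ := mem_pairStab.1 hx
      by_cases hc : c = a
      · rw [hc]; exact hxa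
      obtain ⟨g, hga, hgb⟩ := H.pre a b a c hab (Ne.symm hc)
      have hga' : g⁻¹ • a = a := by rw [inv_smul_eq_iff, hga]
      have hconj : g⁻¹ * x * g ∈ A := by
        refine ⟨?_, ?_⟩
        · simpa using hM.conj_mem x (hle hx) g⁻¹
        · show (g⁻¹ * x * g) • a = a
          rw [mul_smul, mul_smul, hga, hxa, hga']
      rw [← hAD] at hconj
      have hb' := (mem_pairStab.1 hconj).2
      rw [mul_smul, mul_smul, hgb, inv_smul_eq_iff, hgb] at hb'
      exact hb'
    · have hAS : A = stabilizer G a :=
        Subgroup.eq_of_le_of_card_ge inf_le_right (by rw [H.card_stab a, hn, hk, hk1])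
      rw [eq_top_iff]
      intro g _
      obtain ⟨m, hm, hma⟩ := H.normal_trans hM hM1 a (g • a)
      have : m⁻¹ * g ∈ A := by
        rw [hAS, mem_stabilizer_iff, mul_smul, inv_smul_eq_iff, hma]
      simpa using mul_mem hm this.1

/-- Twelve points: `G` is the Mathieu group of degree eleven. -/
theorem isoM11_of_twelve [Finite G] [Finite Ω] [FaithfulSMul G Ω] (hn : Nat.card Ω = 12) :
    Cfsg.Spor.IsoM11 G := by
  have hG : Cfsg.IsM11 G := ⟨H.isSimple_of_twelve hn, by rw [H.card_G, hn]⟩
  have hM : Cfsg.IsM11 Cfsg.Spor.M11 :=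
    ⟨CfsgLib.Golay.isSimpleGroup_sporM11, CfsgLib.Golay.natCard_sporM11⟩
  obtain ⟨e⟩ := Cfsg.Agent.S0420.result hG Cfsg.Spor.squareDodecad CfsgLib.Golay.squareDodecad_mem
    (some 0) CfsgLib.Golay.some_zero_mem_squareDodecad
  obtain ⟨e'⟩ := Cfsg.Agent.S0420.result hM Cfsg.Spor.squareDodecad CfsgLib.Golay.squareDodecad_mem
    (some 0) CfsgLib.Golay.some_zero_mem_squareDodecad
  exact ⟨e.trans e'.symm⟩

end Hyp

end CfsgLib.TwoTransAFive
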