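import Cfsg.Agent.Lib.TwoTransAFive.SwapTQuot
import Cfsg.Agent.Lib.TwoTransAFive.SwapOne
import Cfsg.Agent.Lib.TwoTransAFive.OddLow
import Cfsg.Agent.Lib.TwoTransAFive.Twelve
import Mathlib.GroupTheory.SpecificGroups.Alternating

/-!
`S3262`: from the statement to `Hyp`, and the degree seven conclusion.
-/

set_option autoImplicit false

namespace CfsgLib.TwoTransAFive

open Subgroup MulAction

variable {G : Type*} [Group G] {Ω : Type*} [MulAction G Ω]

theorem hyp_of (h2 : MulAction.IsMultiplyPretransitive G Ω 2) {a b : Ω} (hab : a ≠ b)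
    (hnr : ∀ N : Subgroup G, N.Normal → MulAction.IsPretransitive ↥N Ω →
      (∀ x : Ω, MulAction.stabilizer ↥N x = ⊥) → False)
    (e : ↥(MulAction.stabilizer G a ⊓ MulAction.stabilizer G b) ≃* ↥(alternatingGroup (Fin 5))) :
    Hyp G Ω := by
  have hpre : ∀ x y x' y' : Ω, x ≠ y → x' ≠ y' → ∃ g : G, g • x = x' ∧ g • y = y' := by
    intro x y x' y' h h'
    obtain ⟨g, hgx, hgy⟩ := (MulAction.is_two_pretransitive_iff (G := G) (α := Ω)).1 h2 h h'
    exact ⟨g, hgx, hgy⟩
  refine ⟨hpre, fun N hN ht hf => hnr N hN ⟨fun x y => ?_⟩ fun x => ?_, fun c d hcd => ?_, ⟨a, b, hab⟩⟩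
  · obtain ⟨n, hn, hny⟩ := ht x y
    exact ⟨⟨n, hn⟩, hny⟩
  · rw [eq_bot_iff]
    rintro ⟨n, hn⟩ hnx
    exact mem_bot.2 (Subtype.ext (hf x n hn hnx))
  · obtain ⟨g, hga, hgb⟩ := hpre a b c d hab hcd
    have hmap : (pairStab a b : Subgroup G).map (MulAut.conj g).toMonoidHom = pairStab c d := by
      ext z
      simp only [Subgroup.mem_map, MulEquiv.coe_toMonoidHom, MulAut.conj_apply]
      constructor
      · rintro ⟨y, hy, rfl⟩
        rw [← hga, ← hgb]
        exact (conj_pairStab g a b).2 hy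
      · intro hz
        exact ⟨g⁻¹ * z * g, (conj_pairStab g a b).1 (by
          rw [hga, hgb, show g * (g⁻¹ * z * g) * g⁻¹ = z by group]; exact hz), by group⟩
    exact ⟨((MulEquiv.subgroupCongr hmap.symm).trans
      ((pairStab a b : Subgroup G).equivMapOfInjective (MulAut.conj g).toMonoidHom
        (MulAut.conj g).injective).symm).trans e⟩

theorem Hyp.alt_seven [Finite G] {Ω : Type*} [Fintype Ω] [MulAction G Ω] [FaithfulSMul G Ω] (H : Hyp G Ω)
    (h7 : Fintype.card Ω = 7) : Nonempty (G ≃* alternatingGroup (Fin 7)) := by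
  classical
  have hinj : Function.Injective (MulAction.toPermHom G Ω) := fun x y hxy =>
    eq_of_smul_eq_smul (α := Ω) fun w => by
      have := congrArg (fun p : Equiv.Perm Ω => p w) hxy
      simpa using this
  have hcard : Nat.card (MulAction.toPermHom G Ω).range = 2520 := by
    rw [← Nat.card_congr (MonoidHom.ofInjective hinj).toEquiv, H.card_G, Nat.card_eq_fintype_card, h7]
  have hperm : Nat.card (Equiv.Perm Ω) = 5040 := by
    rw [Nat.card_perm, Nat.card_eq_fintype_card, h7]; rfl
  have hidx : (MulAction.toPermHom G Ω).range.index = 2 := by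
    have := (MulAction.toPermHom G Ω).range.card_mul_index
    rw [hcard, hperm] at this
    omega
  have heq := Equiv.Perm.eq_alternatingGroup_of_index_eq_two hidx
  exact ⟨((MonoidHom.ofInjective hinj).trans (MulEquiv.subgroupCongr heq)).trans
    (Equiv.altCongrHom (Fintype.equivFinOfCardEq h7))⟩

end CfsgLib.TwoTransAFive
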