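import Mathlib.GroupTheory.SpecificGroups.Alternating
import Mathlib.GroupTheory.OrderOfElement
import Mathlib.Algebra.Group.Subgroup.Lattice
import Mathlib.Tactic.NormNum
import Mathlib.Tactic.Group
import Mathlib.GroupTheory.Perm.Basic

/-!
Facts on `A₅`, checked on the model, for the two-point stabiliser of `S3262`.
-/

set_option autoImplicit false
set_option maxRecDepth 20000

namespace CfsgLib.TwoTransAFive.Model

open Equiv

abbrev A5 := alternatingGroup (Fin 5)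

def x0 : A5 := ⟨swap 0 1 * swap 2 3, Equiv.Perm.mem_alternatingGroup.mpr (by decide +kernel)⟩
def y0 : A5 := ⟨swap 0 2 * swap 1 3, Equiv.Perm.mem_alternatingGroup.mpr (by decide +kernel)⟩
def b0 : A5 := ⟨swap 0 1 * swap 1 4, Equiv.Perm.mem_alternatingGroup.mpr (by decide +kernel)⟩

theorem pow_cases : ∀ x : A5, x ^ 2 = 1 ∨ x ^ 3 = 1 ∨ x ^ 5 = 1 := by decide +kernel

theorem invol_conj : ∀ x : A5, x * x = 1 → x ≠ 1 → ∃ g : A5, g * x * g⁻¹ = x0 := by decide +kernel

theorem cent_x0 : ∀ g : A5, g * x0 = x0 * g → g = 1 ∨ g = x0 ∨ g = y0 ∨ g = x0 * y0 := by decide +kernel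

theorem four_x0 : x0 * x0 = 1 ∧ x0 ≠ 1 ∧ y0 * y0 = 1 ∧ y0 ≠ 1 ∧ x0 ≠ y0 ∧ x0 * y0 = y0 * x0 := by
  decide +kernel

theorem card_invol : (Finset.univ.filter fun x : A5 => x * x = 1 ∧ x ≠ 1).card = 15 := by decide +kernel

theorem card_all : Fintype.card A5 = 60 := by decide +kernel

/-- an element of order three normalises two given four groups -/
theorem three_common : ∀ v : A5, v * v = 1 → v ≠ 1 → v * x0 ≠ x0 * v →
    ∃ g : A5, g ^ 3 = 1 ∧ g ≠ 1 ∧ (g * x0 * g⁻¹) * x0 = x0 * (g * x0 * g⁻¹) ∧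
      (g * v * g⁻¹) * v = v * (g * v * g⁻¹) := by decide +kernel

/-- normaliser of the standard four group: an element of order three -/
theorem three_x0 : ∃ g : A5, g ^ 3 = 1 ∧ g ≠ 1 ∧ g * x0 * g⁻¹ = y0 ∧ g * y0 * g⁻¹ = x0 * y0 := by
  decide +kernel

/-- the relations between `b0` and the standard four group determine `b0` up to this four group -/
theorem sig_b0 : ∀ c : A5, c ^ 3 = 1 → c ≠ 1 → (c * x0) ^ 2 = 1 → (c * y0) ^ 5 = 1 → c * y0 ≠ 1 →
    (c * (x0 * y0)) ^ 5 = 1 → c * (x0 * y0) ≠ 1 → (c * x0 * c⁻¹ * y0) ^ 5 = 1 → c * x0 * c⁻¹ * y0 ≠ 1 →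
    c = b0 ∨ c = x0 * b0 * x0⁻¹ ∨ c = y0 * b0 * y0⁻¹ ∨ c = x0 * y0 * b0 * (x0 * y0)⁻¹ := by
  decide +kernel

theorem b0_sig : b0 ^ 3 = 1 ∧ b0 ≠ 1 ∧ (b0 * x0) ^ 2 = 1 ∧ (b0 * y0) ^ 5 = 1 ∧ b0 * y0 ≠ 1 ∧
    (b0 * (x0 * y0)) ^ 5 = 1 ∧ b0 * (x0 * y0) ≠ 1 ∧ (b0 * x0 * b0⁻¹ * y0) ^ 5 = 1 ∧
    b0 * x0 * b0⁻¹ * y0 ≠ 1 := by decide +kernel

/-- products of at most `n` generators -/
def words : ℕ → Finset A5
  | 0 => {1}
  | n + 1 => words n ∪ ((words n ×ˢ ({x0, y0, b0, b0⁻¹} : Finset A5)).image fun p => p.1 * p.2)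

theorem words_six : ∀ g : A5, g ∈ words 6 := by decide +kernel

theorem words_le {H : Subgroup A5} (hx : x0 ∈ H) (hy : y0 ∈ H) (hb : b0 ∈ H) :
    ∀ n g, g ∈ words n → g ∈ H := by
  intro n
  induction n with
  | zero => intro g hg; simp only [words, Finset.mem_singleton] at hg; exact hg ▸ H.one_mem
  | succ n ih =>
    intro g hg
    simp only [words, Finset.mem_union, Finset.mem_image, Finset.mem_product, Finset.mem_insert,
      Finset.mem_singleton] at hg
    rcases hg with hg | ⟨⟨u, w⟩, ⟨hu, hw⟩, rfl⟩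
    · exact ih g hg
    · refine H.mul_mem (ih u hu) ?_
      rcases hw with rfl | rfl | rfl | rfl
      exacts [hx, hy, hb, H.inv_mem hb]

theorem eq_top {H : Subgroup A5} (hx : x0 ∈ H) (hy : y0 ∈ H) (hb : b0 ∈ H) : H = ⊤ := by
  rw [eq_top_iff]
  exact fun g _ => words_le hx hy hb 6 g (words_six g)

/-- An automorphism fixing the standard four group is inner by one of its elements. -/
theorem aut_inner (φ : A5 ≃* A5) (hx : φ x0 = x0) (hy : φ y0 = y0) :
    ∃ v : A5, v * x0 = x0 * v ∧ ∀ g, φ g = v * g * v⁻¹ := by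
  obtain ⟨h1, h2, h3, h4, h5, h6, h7, h8, h9⟩ := b0_sig
  have hne : ∀ {g : A5}, g ≠ 1 → φ g ≠ 1 := fun hg e => hg (φ.injective (by rw [e, map_one]))
  have hc := sig_b0 (φ b0) (by rw [← map_pow, h1, map_one]) (hne h2)
    (by rw [← hx, ← map_mul, ← map_pow, h3, map_one])
    (by rw [← hy, ← map_mul, ← map_pow, h4, map_one]) (by rw [← hy, ← map_mul]; exact hne h5)
    (by rw [← hy, ← hx, ← map_mul, ← map_mul, ← map_pow, h6, map_one])
    (by rw [← hy, ← hx, ← map_mul, ← map_mul]; exact hne h7)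
    (by rw [← hy, ← hx, ← map_inv, ← map_mul, ← map_mul, ← map_mul, ← map_pow, h8, map_one])
    (by rw [← hy, ← hx, ← map_inv, ← map_mul, ← map_mul, ← map_mul]; exact hne h9)
  have key : ∀ v : A5, v * x0 = x0 * v → v * y0 = y0 * v → φ b0 = v * b0 * v⁻¹ →
      ∀ g, φ g = v * g * v⁻¹ := by
    intro v hvx hvy hvb g
    have hK : φ.toMonoidHom.eqLocus (MulAut.conj v).toMonoidHom = ⊤ := by
      refine eq_top ?_ ?_ ?_
      · show φ x0 = v * x0 * v⁻¹
        rw [hx, hvx, mul_inv_cancel_right]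
      · show φ y0 = v * y0 * v⁻¹
        rw [hy, hvy, mul_inv_cancel_right]
      · exact hvb
    exact (SetLike.ext_iff.1 hK g).2 (Subgroup.mem_top g)
  have hxy := four_x0.2.2.2.2.2
  rcases hc with e | e | e | e
  · exact ⟨1, by simp, key 1 (by simp) (by simp) (by simpa using e)⟩
  · exact ⟨x0, rfl, key x0 rfl hxy e⟩
  · exact ⟨y0, hxy.symm, key y0 hxy.symm rfl e⟩
  · refine ⟨x0 * y0, ?_, key _ ?_ ?_ e⟩ <;> decide +kernel

end CfsgLib.TwoTransAFive.Model

namespace CfsgLib.TwoTransAFive.Model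

open Equiv

/-- the outer automorphism given by a transposition -/
def sw : A5 ≃* A5 :=
  MulAut.conjNormal (swap 0 1 : Perm (Fin 5))

theorem sw_x0 : sw x0 = x0 ∧ sw (x0 * y0) = y0 := by decide +kernel

/-- every automorphism is conjugation by a permutation -/
theorem exists_perm (α : A5 ≃* A5) :
    ∃ p : Perm (Fin 5), ∀ g : A5, ((α g : A5) : Perm (Fin 5)) = p * (g : Perm (Fin 5)) * p⁻¹ := by
  obtain ⟨h1, h2, h3, h4, h5, h6⟩ := four_x0
  obtain ⟨k, hk⟩ := invol_conj (α x0) (by rw [← map_mul, h1, map_one])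
    (fun e => h2 (α.injective (by rw [e, map_one])))
  have hconj : ∀ g, (α.trans (MulAut.conj k)) g = k * α g * k⁻¹ := fun g => rfl
  set β := α.trans (MulAut.conj k) with hβ
  have hx : β x0 = x0 := by rw [hconj, hk]
  have hy : β y0 = y0 ∨ β y0 = x0 * y0 := by
    have hc := cent_x0 (β y0) (by rw [← hx, ← map_mul, ← map_mul, h6])
    rcases hc with e | e | e | e
    · exact absurd (β.injective (e.trans (map_one β).symm)) h4
    · exact absurd (β.injective (e.trans hx.symm)).symm h5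
    · exact Or.inl e
    · exact Or.inr e
  rcases hy with hy | hy
  · obtain ⟨v, -, hv⟩ := aut_inner β hx hy
    refine ⟨((k⁻¹ * v : A5) : Perm (Fin 5)), fun g => ?_⟩
    have h : α g = k⁻¹ * v * g * (k⁻¹ * v)⁻¹ := by
      have := hv g
      rw [hconj] at this
      calc α g = k⁻¹ * (k * α g * k⁻¹) * k := by group
        _ = k⁻¹ * (v * g * v⁻¹) * k := by rw [this]
        _ = _ := by group
    rw [h]; rfl
  · obtain ⟨v, -, hv⟩ := aut_inner (β.trans sw) (by show sw (β x0) = x0; rw [hx, sw_x0.1])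
      (by show sw (β y0) = y0; rw [hy, sw_x0.2])
    refine ⟨((k⁻¹ : A5) : Perm (Fin 5)) * (swap 0 1) * ((v : A5) : Perm (Fin 5)), fun g => ?_⟩
    have h := congrArg (Subtype.val : A5 → Perm (Fin 5)) (hv g)
    rw [MulEquiv.trans_apply, sw, MulAut.conjNormal_apply, hconj] at h
    simp only [Subgroup.coe_mul, InvMemClass.coe_inv, Equiv.swap_inv] at h
    simp only [InvMemClass.coe_inv, mul_inv_rev, Equiv.swap_inv, inv_inv]
    calc ((α g : A5) : Perm (Fin 5))
        = (k : Perm (Fin 5))⁻¹ * swap 0 1 * (swap 0 1 * ((k : Perm (Fin 5)) * ((α g : A5) : Perm (Fin 5)) * (k : Perm (Fin 5))⁻¹) *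
            swap 0 1) * swap 0 1 * (k : Perm (Fin 5)) := by
          simp only [mul_assoc, Equiv.swap_mul_self_mul, inv_mul_cancel_left, inv_mul_cancel, mul_one]
      _ = _ := by rw [h]; simp only [mul_assoc]

theorem perm_inverts : ∀ p : Perm (Fin 5),
    (Finset.univ.filter fun g : A5 => p * (g : Perm (Fin 5)) * p⁻¹ = (g : Perm (Fin 5))⁻¹).card ≤ 16 := by
  decide +kernel

/-- an automorphism inverts at most sixteen elements -/
theorem card_inverted (α : A5 ≃* A5) : (Finset.univ.filter fun g : A5 => α g = g⁻¹).card ≤ 16 := by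
  obtain ⟨p, hp⟩ := exists_perm α
  refine le_trans (Finset.card_le_card fun g hg => ?_) (perm_inverts p)
  simp only [Finset.mem_filter, Finset.mem_univ, true_and] at hg ⊢
  rw [← hp g, hg]; rfl

end CfsgLib.TwoTransAFive.Model
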