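import Cfsg.Agent.Lib.TwoTransAFive.Sharp

/-!
`S3262`: if a further 2-element centralises a four group of a two-point stabiliser, an involution
centralises the stabiliser of `a` and `b`, fixes `a` and moves `b`.
-/

set_option autoImplicit false

namespace CfsgLib.TwoTransAFive

open Subgroup MulAction

variable {G : Type*} [Group G] {Ω : Type*} [MulAction G Ω]

/-- An involution fixing `a`, moving `b`, centralising their stabiliser. -/
def Swap (a b : Ω) (z : G) : Prop :=
  a ≠ b ∧ z * z = 1 ∧ z • a = a ∧ z • b ≠ b ∧ ∀ d ∈ pairStab a b, d * z = z * d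

namespace Hyp

variable (H : Hyp G Ω)
include H

/-- the centre of a two-point stabiliser is trivial -/
theorem eq_one_of_central {a b : Ω} (hab : a ≠ b) {c : G} (hc : c ∈ pairStab a b) (hc2 : c * c = 1)
    (hcc : ∀ d ∈ pairStab a b, d * c = c * d) : c = 1 := by
  by_contra hc1
  obtain ⟨e⟩ := H.iso a b hab
  obtain ⟨g, hg, -, -, hne, -⟩ := Five.three_four e hc hc2 hc1
  exact hne (by rw [hcc g hg, mul_inv_cancel_right])

theorem odd_hNum [Finite Ω] (hodd : Odd (Nat.card Ω)) : Odd H.hNum ∧ Odd H.fNum := by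
  have h1 := H.card_mod_two
  have h2 := H.hNum_mod_two
  rw [Nat.odd_iff] at hodd ⊢
  rw [Nat.odd_iff]
  omega

theorem exists_swap [Finite G] [Finite Ω] (hodd : Odd (Nat.card Ω)) (hB : ¬ NoExtra Ω G) :
    ∃ (a b : Ω) (z : G), Swap a b z := by
  obtain ⟨hh, -⟩ := H.odd_hNum hodd
  rw [NoExtra] at hB
  push Not at hB
  obtain ⟨V, hV, g, hgC, hg2, hgV⟩ := hB
  obtain ⟨t, htV, ht1⟩ := H.exists_mem_four hV
  have hgc : ∀ v ∈ V, g * v = v * g := fun v hv => ((mem_centralizer_iff.1 hgC) v hv).symm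
  have hginv : g ∈ invSet V t :=
    ⟨⟨mem_centralizer_singleton_iff.2 (hgc t htV), Subgroup.centralizer_le_normalizer _ hgC⟩, hg2, hgV⟩
  obtain ⟨a0, ha0, -, huniq⟩ := H.exists_fixed hV htV ht1 hh hginv
  obtain ⟨p, hp, hpa⟩ : ∃ p ∈ fixSub Ω V, p ≠ a0 := by
    obtain ⟨x, y, hxy, hx, hy⟩ := H.exists_pair_fixSub hV
    by_cases hxa : x = a0
    · exact ⟨y, hy, fun h => hxy (hxa.trans h.symm)⟩
    · exact ⟨x, hx, hxa⟩
  have hgp : g • p ≠ p := fun h => hpa (huniq p hp h)
  have hq : g • p ∈ fixSub Ω V := norm_smul_mem_fixSub hginv.1.2 hp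
  have hgq : g • g • p = p := by rw [← mul_smul]; exact hp _ hg2
  obtain ⟨e⟩ := H.iso p (g • p) (Ne.symm hgp)
  have hD : Five.four (pairStab p (g • p)) t = V := H.four_unique hV htV ht1 (Ne.symm hgp) hp hq
  have htD : t ∈ pairStab p (g • p) := mem_pairStab.2 ⟨hp t htV, hq t htV⟩
  have ht2 := (H.isT_of_mem_four hV htV ht1).1
  have hnorm : ∀ k : G, k ∈ pairStab p (g • p) ↔ g * k * g⁻¹ ∈ pairStab p (g • p) := fun k => by
    have h := conj_pairStab (G := G) g p (g • p) (x := k)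
    rw [hgq] at h
    rw [show pairStab p (g • p) = pairStab (g • p) p from inf_comm _ _] at h ⊢
    exact h.symm
  let φ : (pairStab p (g • p) : Subgroup G) ≃* (pairStab p (g • p) : Subgroup G) :=
    { toFun := fun k => ⟨g * k * g⁻¹, (hnorm k).1 k.2⟩
      invFun := fun k => ⟨g⁻¹ * k * g, (hnorm _).2 (by
        rw [show g * (g⁻¹ * (k : G) * g) * g⁻¹ = k by group]; exact k.2)⟩
      left_inv := fun k => Subtype.ext (by show g⁻¹ * (g * (k : G) * g⁻¹) * g = k; group)
      right_inv := fun k => Subtype.ext (by show g * (g⁻¹ * (k : G) * g) * g⁻¹ = k; group)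
      map_mul' := fun k k' => Subtype.ext (by
        show g * ((k : G) * k') * g⁻¹ = g * k * g⁻¹ * (g * k' * g⁻¹); group) }
  obtain ⟨v, hv, hφ⟩ := Five.aut_inner e htD ht2 ht1 φ fun k hk => by
    rw [hD] at hk
    exact Subtype.ext (mul_inv_eq_iff_eq_mul.2 (hgc _ hk))
  rw [hD] at hv
  have hv2 : (v : G) * v = 1 := by
    rw [← hD] at hv
    exact Five.sq_of_mem_four e htD ht2 ht1 hv
  obtain ⟨z, hzdef⟩ : ∃ z : G, z = (v : G) * g := ⟨_, rfl⟩
  have hvi : (v : G)⁻¹ = v := inv_eq_of_mul_eq_one_left hv2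
  have hzc : ∀ d ∈ pairStab p (g • p), d * z = z * d := by
    intro d hd
    have h : g * d * g⁻¹ = v * d * (v : G)⁻¹ := congrArg Subtype.val (hφ ⟨d, hd⟩)
    rw [mul_inv_eq_iff_eq_mul, hvi] at h
    calc d * z = (v : G) * v * d * v * g := by rw [hv2, hzdef]; group
      _ = v * ((v : G) * d * v * g) := by group
      _ = v * (g * d) := by rw [h]
      _ = z * d := by rw [hzdef]; group
  have hzz : z * z = g * g := by
    calc z * z = v * (g * v) * g := by rw [hzdef]; group
      _ = v * (v * g) * g := by rw [hgc _ hv]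
      _ = _ := by rw [← mul_assoc, hv2, one_mul]
  have hg2D : g * g ∈ pairStab p (g • p) := by
    rw [← hD] at hg2
    exact hg2.1
  have hz2 : z * z = 1 := by
    rw [hzz]
    refine H.eq_one_of_central (Ne.symm hgp) hg2D (Five.sq_of_mem_four e htD ht2 ht1 (hD ▸ hg2)) fun d hd => ?_
    calc d * (g * g) = d * z * z := by rw [← hzz, mul_assoc]
      _ = z * (d * z) := (congrArg (· * z) (hzc d hd)).trans (mul_assoc _ _ _)
      _ = z * z * d := by rw [hzc d hd, mul_assoc]
      _ = g * g * d := by rw [hzz]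
  have hzp : z • p = g • p := by rw [hzdef, mul_smul]; exact (mem_pairStab.1 v.2).2
  have hz1 : z ≠ 1 := fun h => hgp (by rw [← hzp, h, one_smul])
  -- the fixed point of `z` on the fixed points of each four group
  have hzx : ∀ x : G, x ∈ pairStab p (g • p) → x * x = 1 → x ≠ 1 →
      ∃ c ∈ fixSub Ω (Five.four (pairStab p (g • p)) x), z • c = c ∧
        ∀ y ∈ fixSub Ω (Five.four (pairStab p (g • p)) x), z • y = y → y = c := by
    intro x hx hx2 hx1
    have hW := H.isFour_four (Ne.symm hgp) hx hx2 hx1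
    refine H.exists_fixed hW (t := x) ⟨hx, mem_centralizer_singleton_iff.2 rfl⟩ hx1 hh
      ⟨⟨mem_centralizer_singleton_iff.2 (hzc x hx).symm, ?_⟩, by rw [hz2]; exact one_mem _, fun h => ?_⟩
    · exact Subgroup.centralizer_le_normalizer _ (mem_centralizer_iff.2 fun w hw => hzc w hw.1)
    · have := (mem_pairStab.1 h.1).1
      rw [hzp] at this
      exact hgp this
  choose c hc hzcx hcu using hzx
  have key : ∀ (x : G) (hx : x ∈ pairStab p (g • p)) (hx2 : x * x = 1) (hx1 : x ≠ 1)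
      (w : G) (hw : w ∈ pairStab p (g • p)) (hw2 : w * w = 1) (hw1 : w ≠ 1), c x hx hx2 hx1 = c w hw hw2 hw1 := by
    intro x hx hx2 hx1 w hw hw2 hw1
    by_cases hwx : w * x = x * w
    · have heq := Five.four_eq_of_mem e hx hx2 hx1 (Five.mem_four.2 ⟨hw, hwx⟩) hw1
      refine hcu w hw hw2 hw1 _ ?_ (hzcx x hx hx2 hx1)
      rw [heq]
      exact hc x hx hx2 hx1
    obtain ⟨k, hk, hk3, hk1, hkx, hkw⟩ := Five.three_common e hx hw hx2 hw2 hx1 hw1 hwx
    have hfixed : ∀ (y : G) (hy : y ∈ pairStab p (g • p)) (hy2 : y * y = 1) (hy1 : y ≠ 1),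
        k * y * k⁻¹ ∈ Five.four (pairStab p (g • p)) y → k • c y hy hy2 hy1 = c y hy hy2 hy1 := by
      intro y hy hy2 hy1 hky
      have hky1 : k * y * k⁻¹ ≠ 1 := fun h => hy1 (by
        calc y = k⁻¹ * (k * y * k⁻¹) * k := by group
          _ = 1 := by rw [h]; group)
      have heq := Five.four_eq_of_mem e hy hy2 hy1 hky hky1
      refine hcu y hy hy2 hy1 _ (fun u hu => ?_) (by rw [← mul_smul, ← hzc k hk, mul_smul, hzcx])
      rw [← heq, Five.mem_four] at hu
      have hu' : k⁻¹ * u * k ∈ Five.four (pairStab p (g • p)) y := Five.mem_four.2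
        ⟨mul_mem (mul_mem (inv_mem hk) hu.1) hk, by
          calc k⁻¹ * u * k * y = k⁻¹ * (u * (k * y * k⁻¹)) * k := by group
            _ = k⁻¹ * (k * y * k⁻¹ * u) * k := by rw [hu.2]
            _ = y * (k⁻¹ * u * k) := by group⟩
      calc u • k • c y hy hy2 hy1 = k • (k⁻¹ * u * k) • c y hy hy2 hy1 := by
            rw [← mul_smul, ← mul_smul]; group
        _ = k • c y hy hy2 hy1 := by rw [hc y hy hy2 hy1 _ hu']
    by_contra hne
    obtain ⟨e'⟩ := H.iso _ _ hne
    have hkD : k ∈ pairStab (c x hx hx2 hx1) (c w hw hw2 hw1) :=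
      mem_pairStab.2 ⟨hfixed x hx hx2 hx1 hkx, hfixed w hw hw2 hw1 hkw⟩
    have hzD : z ∈ pairStab (c x hx hx2 hx1) (c w hw hw2 hw1) :=
      mem_pairStab.2 ⟨hzcx x hx hx2 hx1, hzcx w hw hw2 hw1⟩
    have hk2 := Five.sq_of_mem_four e' hzD hz2 hz1 (Five.mem_four.2 ⟨hkD, hzc k hk⟩)
    refine hk1 ?_
    rw [pow_succ, pow_two, hk2, one_mul] at hk3
    exact hk3
  let a := c t htD ht2 ht1
  have hinv : ∀ x : G, x ∈ pairStab p (g • p) → x * x = 1 → x • a = a := by
    intro x hx hx2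
    by_cases hx1 : x = 1
    · rw [hx1, one_smul]
    rw [show a = c x hx hx2 hx1 from key _ _ _ _ _ _ _ _]
    exact hc x hx hx2 hx1 x ⟨hx, mem_centralizer_singleton_iff.2 rfl⟩
  haveI := Five.isSimple e
  have hle : pairStab p (g • p) ≤ stabilizer G a := by
    let N : Subgroup (pairStab p (g • p) : Subgroup G) := Subgroup.normalClosure {(⟨t, htD⟩ : _)}
    have hN : N ≤ (stabilizer G a).subgroupOf (pairStab p (g • p)) := by
      refine (closure_le _).2 fun y hy => ?_
      obtain ⟨d, hd, hdy⟩ := Group.mem_conjugatesOfSet_iff.1 hy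
      rw [Set.mem_singleton_iff.1 hd] at hdy
      obtain ⟨k, rfl⟩ := isConj_iff.1 hdy
      refine hinv _ (k * (⟨t, htD⟩ : (pairStab p (g • p) : Subgroup G)) * k⁻¹).2 ?_
      show (k : G) * t * (k : G)⁻¹ * ((k : G) * t * (k : G)⁻¹) = 1
      rw [show (k : G) * t * (k : G)⁻¹ * ((k : G) * t * (k : G)⁻¹) = k * (t * t) * (k : G)⁻¹ by group, ht2]
      group
    have htop : N = ⊤ := (Subgroup.Normal.eq_bot_or_eq_top (Subgroup.normalClosure_normal)).resolve_left fun h => by
      have : (⟨t, htD⟩ : (pairStab p (g • p) : Subgroup G)) ∈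
          Subgroup.normalClosure {(⟨t, htD⟩ : (pairStab p (g • p) : Subgroup G))} :=
        Subgroup.subset_normalClosure rfl
      rw [h, mem_bot] at this
      exact ht1 (congrArg Subtype.val this)
    intro d hd
    exact hN (show (⟨d, hd⟩ : (pairStab p (g • p) : Subgroup G)) ∈ N by rw [htop]; exact mem_top _)
  have hza : z • a = a := hzcx t htD ht2 ht1
  have hap : a ≠ p := fun h => hgp (by rw [← hzp, ← h, hza])
  have heq : (pairStab a p : Subgroup G) = pairStab p (g • p) := by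
    refine (Subgroup.eq_of_le_of_card_ge (fun d hd => mem_pairStab.2 ⟨hle hd, (mem_pairStab.1 hd).1⟩) ?_).symm
    rw [H.card_pairStab hap, H.card_pairStab (Ne.symm hgp)]
  exact ⟨a, p, z, hap, hz2, hza, by rw [hzp]; exact hgp, fun d hd => hzc d (heq ▸ hd)⟩

end Hyp

end CfsgLib.TwoTransAFive
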