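import Cfsg.Agent.Lib.TwoTransAFive.SwapTQuot
import Cfsg.Agent.Lib.TwoTransAFive.FourSylow

/-!
`S3262`: a swap with several fixed points is impossible.
-/

set_option autoImplicit false

namespace CfsgLib.TwoTransAFive

open Subgroup MulAction

variable {G : Type*} [Group G] {Ω : Type*} [MulAction G Ω]

theorem arith_quot {h r c cV m i : ℕ} {ε : ℤ} {N : ℕ} (hε : ε = 1 ∨ ε = -1) (hm : ε = 1 → 3 ≤ m)
    (hc : Odd c) (hmo : Odd m) (hi : 1 ≤ i) (hdvd : cV ∣ c) (hr : r * cV ^ 2 = c ^ 3)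
    (h2 : 2 ≤ h) (hcm : 2 * (h - 1) = 4 * (c * m * i)) (hcv : 2 * (h - 1) = 4 * (cV * i))
    (hN : N = 2 * (h - 1) * (2 * h + 1)) (hX : (N : ℤ) = r * i * (4 * m * (4 * m - ε) * (2 * m - ε))) :
    h = 7 := by
  have e1 : c * m = cV := Nat.eq_of_mul_eq_mul_right (by omega : 0 < i) (by omega)
  have hcpos : 0 < c := hc.pos
  have hle : cV ≤ c := Nat.le_of_dvd hcpos hdvd
  have hm1 : m = 1 := by
    have h1 : c * m ≤ c * 1 := by rw [mul_one, e1]; exact hle
    have := Nat.le_of_mul_le_mul_left h1 hcpos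
    have := hmo.pos
    omega
  subst hm1
  rw [mul_one] at e1
  subst e1
  have hrc : r = c := by
    have h3 : r * c ^ 2 = c * c ^ 2 := by rw [hr]; ring
    exact Nat.eq_of_mul_eq_mul_right (pow_pos hcpos 2) h3
  subst hrc
  have hεm : ε = -1 := hε.resolve_left fun h => by have := hm h; omega
  subst hεm
  norm_num at hX
  have h4 : N = 60 * (r * i) := by
    have : (N : ℤ) = ((60 * (r * i) : ℕ) : ℤ) := by rw [hX]; push_cast; ring
    exact_mod_cast this
  rw [hN, hcv] at h4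
  have hpos : 0 < 4 * (r * i) := by positivity
  have h5 : 4 * (r * i) * (2 * h + 1) = 4 * (r * i) * 15 := by rw [h4]; ring
  have := Nat.eq_of_mul_eq_mul_left hpos h5
  omega

theorem Hyp.false_of_swap_T [Finite G] [Finite Ω] (H : Hyp G Ω) (hodd : Odd (Nat.card Ω)) {a b : Ω}
    {z : G} (hz : Swap a b z) (hT : IsT Ω z) : False := by
  obtain ⟨c, t, v, L⟩ := H.exists_loc hodd hz hT
  obtain ⟨X, _, _, h4, D, t', ⟨e⟩, ht, ht2, ht1, hC, hCV, hX⟩ := H.exists_fourQuot hodd L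
  obtain ⟨r, c', cV, m, i, ε, hε, hm, hco, hmo, hi, hdvd, hr, hC', hCV', hX'⟩ :=
    four_structure h4 D e ht ht2 ht1
  have h7 := arith_quot hε hm hco hmo hi hdvd hr H.two_le_hNum (hC.symm.trans hC') (hCV.symm.trans hCV') hX hX'
  refine H.false_of_seven hodd L h7 ?_
  have := H.fNum_of_swap hodd hz hT
  rw [h7] at this
  omega

end CfsgLib.TwoTransAFive
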