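import Cfsg.Agent.Lib.TwoTransAFive.SwapTLow
import Mathlib.GroupTheory.Sylow

/-!
`S3262`: a swap `z` with several fixed points, the 2-local structure of `X = C(z) ∩ G_a`:
`E = four D t × ⟨z⟩` is a Sylow 2-subgroup, and `Y = X ∩ N(⟨z, t⟩)` centralises `v` modulo `z`.
-/

set_option autoImplicit false

namespace CfsgLib.TwoTransAFive

open Subgroup MulAction

variable {G : Type*} [Group G] {Ω : Type*} [MulAction G Ω]

/-- The data of an involution `t` of `D` at a swap `z`. -/
structure Loc (a b c : Ω) (z t v : G) : Prop where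
  swap : Swap a b z
  isT : IsT Ω z
  ht : t ∈ pairStab a b
  ht2 : t * t = 1
  ht1 : t ≠ 1
  hc : c ∈ fix Ω z
  hca : c ≠ a
  htc : t • c = c
  hvV : v ∈ Five.four (pairStab a b) t
  hvI : v ∈ invSet (Five.four (pairStab a c) z) z
  hva : v • a = a
  hv1 : v ≠ 1
  hvt : v ≠ t

/-- `E` -/
def eSet (a b : Ω) (z t : G) : Set G :=
  {g | g ∈ Five.four (pairStab a b) t ∨ g * z ∈ Five.four (pairStab a b) t}

/-- `Y` -/
def yGrp (a c : Ω) (z : G) : Subgroup G := cn (Five.four (pairStab a c) z) z ⊓ stabilizer G a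

/-- `X` -/
def xGrp (a : Ω) (z : G) : Subgroup G := centralizer ({z} : Set G) ⊓ stabilizer G a

namespace Loc

variable {a b c : Ω} {z t v : G}

theorem z_sq (L : Loc a b c z t v) : z * z = 1 := L.swap.2.1

theorem z_comm (L : Loc a b c z t v) {y : G} (hy : y ∈ Five.four (pairStab a b) t) : y * z = z * y :=
  L.swap.2.2.2.2 y hy.1

theorem t_mem (L : Loc a b c z t v) : t ∈ Five.four (pairStab a b) t :=
  ⟨L.ht, mem_centralizer_singleton_iff.2 rfl⟩

end Loc

namespace Hyp

variable (H : Hyp G Ω) [Finite G] [Finite Ω]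
include H

theorem exists_loc {a b : Ω} {z : G} (hodd : Odd (Nat.card Ω)) (hz : Swap a b z) (hT : IsT Ω z) :
    ∃ (c : Ω) (t v : G), Loc a b c z t v := by
  obtain ⟨t, ht, ht2, ht1⟩ := H.exists_invol hz.1
  obtain ⟨c, v, h1, h2, h3, h4, h5, h6, h7, h8⟩ := H.swap_data hodd hz hT ht ht2 ht1
  exact ⟨c, t, v, ⟨hz, hT, ht, ht2, ht1, h1, h2, h3, h4, h5, h6, h7, h8⟩⟩

omit [Finite G] [Finite Ω] in
theorem four_ab {a b c : Ω} {z t v : G} (L : Loc a b c z t v) {y : G}
    (hy : y ∈ Five.four (pairStab a b) t) : y = 1 ∨ y = t ∨ y = v ∨ y = t * v := by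
  obtain ⟨u, -, -, -, -, -, hiff⟩ := Five.four_elems (H.iso a b L.swap.1).some L.ht L.ht2 L.ht1
  rcases (hiff v).1 L.hvV with h | h | h | h
  · exact absurd h L.hv1
  · exact absurd h L.hvt
  · rw [h]; exact (hiff y).1 hy
  · have hu : u = t * v := by rw [h, ← mul_assoc, L.ht2, one_mul]
    rcases (hiff y).1 hy with h' | h' | h' | h'
    · exact Or.inl h'
    · exact Or.inr (Or.inl h')
    · exact Or.inr (Or.inr (Or.inr (h'.trans hu)))
    · exact Or.inr (Or.inr (Or.inl (h'.trans h.symm)))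

theorem eSet_cases {a b c : Ω} {z t v : G} (L : Loc a b c z t v) {g : G} (hg : g ∈ eSet a b z t) :
    g ∈ Five.four (pairStab a c) z ∨ ∃ y : G, (y = v ∨ y = t * v) ∧ (g = y ∨ g = y * z) := by
  obtain ⟨-, hzW, htW, -⟩ := H.four_z L.swap L.isT L.ht L.ht1 L.hc L.hca L.htc
  obtain ⟨y, hy, hgy⟩ : ∃ y ∈ Five.four (pairStab a b) t, g = y ∨ g = y * z := by
    rcases hg with h | h
    · exact ⟨g, h, Or.inl rfl⟩
    · exact ⟨g * z, h, Or.inr (by rw [mul_assoc, L.z_sq, mul_one])⟩
  rcases H.four_ab L hy with rfl | rfl | h | h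
  · left; rcases hgy with rfl | rfl
    · exact one_mem _
    · rwa [one_mul]
  · left; rcases hgy with rfl | rfl
    · exact htW
    · exact mul_mem htW hzW
  · exact Or.inr ⟨y, Or.inl h, hgy⟩
  · exact Or.inr ⟨y, Or.inr h, hgy⟩

theorem wFour_subset_eSet {a b c : Ω} {z t v : G} (L : Loc a b c z t v) {w : G}
    (hw : w ∈ Five.four (pairStab a c) z) : w ∈ eSet a b z t := by
  obtain ⟨-, -, -, hWel⟩ := H.four_z L.swap L.isT L.ht L.ht1 L.hc L.hca L.htc
  rcases hWel w hw with rfl | rfl | rfl | rfl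
  · exact Or.inl (one_mem _)
  · exact Or.inr (by rw [L.z_sq]; exact one_mem _)
  · exact Or.inl L.t_mem
  · refine Or.inr ?_
    rw [mul_assoc, L.z_comm L.t_mem, ← mul_assoc, L.z_sq, one_mul]
    exact L.t_mem

omit H [Finite G] [Finite Ω] in
theorem eSet_mul {a b c : Ω} {z t v : G} (L : Loc a b c z t v) {g k : G} (hg : g ∈ eSet a b z t)
    (hk : k ∈ eSet a b z t) : g * k ∈ eSet a b z t := by
  have hz2 := L.z_sq
  rcases hg with hg | hg <;> rcases hk with hk | hk
  · exact Or.inl (mul_mem hg hk)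
  · exact Or.inr (by rw [mul_assoc]; exact mul_mem hg hk)
  · refine Or.inr ?_
    rw [mul_assoc, L.z_comm hk, ← mul_assoc]
    exact mul_mem hg hk
  · refine Or.inl ?_
    have : g * k = g * z * (k * z) := by
      calc g * k = g * ((k * z) * z) := by rw [mul_assoc k, hz2, mul_one]
        _ = g * (z * (k * z)) := by rw [L.z_comm hk]
        _ = g * z * (k * z) := by group
    rw [this]
    exact mul_mem hg hk

omit [Finite G] [Finite Ω] in
theorem eSet_sq {a b c : Ω} {z t v : G} (L : Loc a b c z t v) {g : G} (hg : g ∈ eSet a b z t) : g * g = 1 := by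
  have key : ∀ y ∈ Five.four (pairStab a b) t, y * y = 1 := fun y hy =>
    Five.sq_of_mem_four (H.iso a b L.swap.1).some L.ht L.ht2 L.ht1 hy
  rcases hg with hg | hg
  · exact key g hg
  · have h := key _ hg
    have h1 : z * g = g * z := by
      have := L.z_comm hg
      rw [mul_assoc, L.z_sq, mul_one, ← mul_assoc] at this
      calc z * g = z * g * (z * z) := by rw [L.z_sq, mul_one]
        _ = z * g * z * z := by group
        _ = g * z := by rw [← this]
    calc g * g = g * (g * (z * z)) := by rw [L.z_sq, mul_one]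
      _ = g * (g * z) * z := by group
      _ = g * (z * g) * z := by rw [h1]
      _ = g * z * (g * z) := by group
      _ = 1 := h

omit H [Finite G] [Finite Ω] in
theorem eSet_subset_xGrp {a b c : Ω} {z t v : G} (L : Loc a b c z t v) {g : G} (hg : g ∈ eSet a b z t) :
    g ∈ xGrp a z := by
  have key : ∀ y ∈ Five.four (pairStab a b) t, y ∈ xGrp a z := fun y hy =>
    ⟨mem_centralizer_singleton_iff.2 (L.z_comm hy), (mem_pairStab.1 hy.1).1⟩
  have hzX : z ∈ xGrp a z := ⟨mem_centralizer_singleton_iff.2 rfl, L.swap.2.2.1⟩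
  rcases hg with hg | hg
  · exact key g hg
  · have := mul_mem (key _ hg) (inv_mem hzX)
    rwa [mul_inv_cancel_right] at this

/-- an element of `X` commuting with an involution of `D` and squaring into their four group at `z` -/
theorem sq_one_of_sq_mem {a b : Ω} {z : G} (hodd : Odd (Nat.card Ω)) (hz : Swap a b z) (hT : IsT Ω z) {y q : G}
    (hy : y ∈ pairStab a b) (hy2 : y * y = 1) (hy1 : y ≠ 1) (hqz : q ∈ centralizer ({z} : Set G))
    (hqy : q * y = y * q) (hqa : q • a = a) (hq2 : q * q = y ∨ q * q = y * z) : q * q = 1 := by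
  obtain ⟨hh, -⟩ := H.odd_hNum hodd
  obtain ⟨c, v, hc, hca, hyc, hvV, hvI, hva, hv1, hvy⟩ := H.swap_data hodd hz hT hy hy2 hy1
  have L : Loc a b c z y v := ⟨hz, hT, hy, hy2, hy1, hc, hca, hyc, hvV, hvI, hva, hv1, hvy⟩
  obtain ⟨hW, hzW, hyW, hWel⟩ := H.four_z hz hT hy hy1 hc hca hyc
  have hqc : q ∈ cn (Five.four (pairStab a c) z) z := by
    refine ⟨hqz, Subgroup.centralizer_le_normalizer _ (mem_centralizer_iff.2 fun w hw => ?_)⟩
    have h1 : q * z = z * q := mem_centralizer_singleton_iff.1 hqz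
    rcases hWel w hw with rfl | rfl | rfl | rfl
    · simp
    · exact h1.symm
    · exact hqy.symm
    · rw [mul_assoc, ← hqy, ← mul_assoc, ← h1, mul_assoc]
  have hqW : q * q ∈ Five.four (pairStab a c) z := by
    rcases hq2 with h | h <;> rw [h]
    · exact hyW
    · exact mul_mem hyW hzW
  by_cases hin : q ∈ Five.four (pairStab a c) z
  · exact H.eSet_sq L (H.wFour_subset_eSet L hin)
  have hx := H.sharp_unique hW hzW hT.2.1 hh (fun w hw => (mem_pairStab.1 hw.1).1) hvI hva ⟨hqc, hqW, hin⟩ hqa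
  refine H.eSet_sq L ?_
  have := eSet_mul L (Or.inl hvV) (H.wFour_subset_eSet L hx)
  rwa [mul_inv_cancel_left] at this

theorem mem_eSet_of_sq {a b c : Ω} {z t v : G} (hodd : Odd (Nat.card Ω)) (L : Loc a b c z t v) {q : G}
    (hq : q ∈ yGrp a c z) (hq2 : q * q ∈ eSet a b z t) : q ∈ eSet a b z t := by
  obtain ⟨hh, -⟩ := H.odd_hNum hodd
  obtain ⟨hW, hzW, htW, hWel⟩ := H.four_z L.swap L.isT L.ht L.ht1 L.hc L.hca L.htc
  obtain ⟨e⟩ := H.iso a b L.swap.1
  obtain ⟨hqc, hqa⟩ := Subgroup.mem_inf.1 hq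
  have hqa' : q • a = a := hqa
  rcases H.eSet_cases L hq2 with hin | ⟨y, hy, hqy⟩
  · by_cases hqW : q ∈ Five.four (pairStab a c) z
    · exact H.wFour_subset_eSet L hqW
    have hx := H.sharp_unique hW hzW L.isT.2.1 hh (fun w hw => (mem_pairStab.1 hw.1).1) L.hvI L.hva
      ⟨hqc, hin, hqW⟩ hqa'
    have := eSet_mul L (Or.inl L.hvV) (H.wFour_subset_eSet L hx)
    rwa [mul_inv_cancel_left] at this
  exfalso
  have hyV : y ∈ Five.four (pairStab a b) t := by
    rcases hy with rfl | rfl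
    · exact L.hvV
    · exact mul_mem L.t_mem L.hvV
  have hy2 : y * y = 1 := Five.sq_of_mem_four e L.ht L.ht2 L.ht1 hyV
  have hy1 : y ≠ 1 := by
    rcases hy with rfl | rfl
    · exact L.hv1
    · exact fun h => L.hvt (mul_left_cancel (h.trans L.ht2.symm))
  have hqz : q * z = z * q := mem_centralizer_singleton_iff.1 hqc.1
  have hcomm : q * y = y * q := by
    rcases hqy with h | h
    · rw [← h, mul_assoc]
    · have hy' : y = q * q * z := by rw [h, mul_assoc, L.z_sq, mul_one]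
      rw [hy']
      calc q * (q * q * z) = q * q * (q * z) := by group
        _ = q * q * (z * q) := by rw [hqz]
        _ = q * q * z * q := by group
  have h1 := H.sq_one_of_sq_mem hodd L.swap L.isT hyV.1 hy2 hy1 hqc.1 hcomm hqa' hqy
  rw [h1] at hqy
  rcases hqy with h | h
  · exact hy1 h.symm
  · exact H.not_mem_of_swap L.swap (by
      rw [show z = y⁻¹ from (inv_eq_of_mul_eq_one_right h.symm).symm]
      exact inv_mem hyV.1)

theorem two_elem_mem_eSet {a b c : Ω} {z t v : G} (hodd : Odd (Nat.card Ω)) (L : Loc a b c z t v) :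
    ∀ (k : ℕ) {q : G}, q ∈ yGrp a c z → q ^ 2 ^ k = 1 → q ∈ eSet a b z t
  | 0, q, _, h => by rw [pow_zero, pow_one] at h; rw [h]; exact Or.inl (one_mem _)
  | k + 1, q, hq, h => by
    refine H.mem_eSet_of_sq hodd L hq (two_elem_mem_eSet hodd L k (mul_mem hq hq) ?_)
    rw [← pow_two, ← pow_mul, ← pow_succ', h]

theorem card_yGrp {a b c : Ω} {z t v : G} (L : Loc a b c z t v) :
    Nat.card (yGrp a c z) = 4 * (H.hNum - 1) := by
  obtain ⟨hW, hzW, -, -⟩ := H.four_z L.swap L.isT L.ht L.ht1 L.hc L.hca L.htc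
  exact H.card_cent_norm_stab hW hzW L.isT.2.1 fun w hw => (mem_pairStab.1 hw.1).1

theorem card_xGrp {a b c : Ω} {z t v : G} (L : Loc a b c z t v) :
    Nat.card (xGrp a z) = 4 * (H.fNum - 1) :=
  H.card_cent_stab L.isT L.swap.2.2.1

theorem ncard_eSet {a b c : Ω} {z t v : G} (L : Loc a b c z t v) : (eSet a b z t).ncard = 8 := by
  have hset : eSet a b z t = (Five.four (pairStab a b) t : Set G) ∪
      (fun y => y * z) '' (Five.four (pairStab a b) t : Set G) := by
    ext g
    constructor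
    · rintro (h | h)
      · exact Or.inl h
      · exact Or.inr ⟨g * z, h, by show g * z * z = g; rw [mul_assoc, L.z_sq, mul_one]⟩
    · rintro (h | ⟨y, hy, rfl⟩)
      · exact Or.inl h
      · exact Or.inr (by rw [mul_assoc, L.z_sq, mul_one]; exact hy)
  have hcard : (Five.four (pairStab a b) t : Set G).ncard = 4 := by
    rw [← Nat.card_coe_set_eq]
    exact Five.card_four (H.iso a b L.swap.1).some L.ht L.ht2 L.ht1
  rw [hset, Set.ncard_union_eq ?_ (Set.toFinite _) (Set.toFinite _),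
    Set.ncard_image_of_injective _ (mul_left_injective z), hcard]
  rw [Set.disjoint_left]
  rintro g hg ⟨y, hy, rfl⟩
  have := mul_mem (inv_mem hy) hg
  rw [inv_mul_cancel_left] at this
  exact H.not_mem_of_swap L.swap this.1

/-- `h - 1` is twice an odd number -/
theorem hNum_sub_one {a b c : Ω} {z t v : G} (hodd : Odd (Nat.card Ω)) (L : Loc a b c z t v) :
    (H.hNum - 1) % 4 = 2 := by
  obtain ⟨hh, -⟩ := H.odd_hNum hodd
  have := H.two_le_hNum
  have hodd' := Nat.odd_iff.1 hh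
  by_contra hne
  have h4 : 2 ^ 4 ∣ Nat.card (yGrp a c z) := by
    rw [H.card_yGrp L, show 2 ^ 4 = 4 * 4 by norm_num]
    exact Nat.mul_dvd_mul_left _ (Nat.dvd_of_mod_eq_zero (by omega))
  haveI : Fact (Nat.Prime 2) := ⟨Nat.prime_two⟩
  obtain ⟨P, hP⟩ := Sylow.exists_subgroup_card_pow_prime (G := yGrp a c z) 2 h4
  have hsub : (fun q : P => ((q : yGrp a c z) : G)) '' Set.univ ⊆ eSet a b z t := by
    rintro _ ⟨q, -, rfl⟩
    refine H.two_elem_mem_eSet hodd L 4 (q : yGrp a c z).2 ?_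
    have h : q ^ Nat.card P = 1 := pow_card_eq_one'
    rw [hP] at h
    simpa using congrArg (fun q : P => ((q : yGrp a c z) : G)) h
  have h := Set.ncard_le_ncard hsub (Set.toFinite _)
  rw [Set.ncard_image_of_injective _ (fun p q h => Subtype.val_injective (Subtype.val_injective h)),
    Set.ncard_univ, hP, H.ncard_eSet L] at h
  norm_num at h

/-- all 2-elements of `X` are involutions -/
theorem sq_one_xGrp {a b c : Ω} {z t v : G} (hodd : Odd (Nat.card Ω)) (L : Loc a b c z t v) {q : G}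
    (hq : q ∈ xGrp a z) {k : ℕ} (hk : q ^ 2 ^ k = 1) : q * q = 1 := by
  haveI : Fact (Nat.Prime 2) := ⟨Nat.prime_two⟩
  let E : Subgroup (xGrp a z) :=
    { carrier := {g | (g : G) ∈ eSet a b z t}
      one_mem' := Or.inl (one_mem _)
      mul_mem' := fun {x y} hx hy => eSet_mul L hx hy
      inv_mem' := fun {x} hx => by
        show ((x⁻¹ : xGrp a z) : G) ∈ eSet a b z t
        rw [Subgroup.coe_inv, inv_eq_of_mul_eq_one_left (H.eSet_sq L hx)]
        exact hx }
  have hE : Nat.card E = 8 := by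
    rw [← H.ncard_eSet L, ← Nat.card_coe_set_eq]
    exact Nat.card_congr
      { toFun := fun g => ⟨((g : xGrp a z) : G), g.2⟩
        invFun := fun g => ⟨⟨g, eSet_subset_xGrp L g.2⟩, g.2⟩
        left_inv := fun g => rfl
        right_inv := fun g => rfl }
  have hfac : (Nat.card (xGrp a z)).factorization 2 = 3 := by
    have hF := H.fNum_of_swap hodd L.swap L.isT
    have h2 := H.two_le_hNum
    obtain ⟨o, ho⟩ : ∃ o, H.hNum = 4 * o + 3 := ⟨(H.hNum - 3) / 4, by
      have := H.hNum_sub_one hodd L; omega⟩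
    have hm : Nat.card (xGrp a z) = 2 ^ 3 * ((2 * o + 1) * (8 * o + 7)) := by
      rw [H.card_xGrp L]
      rw [ho] at hF
      have hf : H.fNum = 2 * ((4 * o + 3) * (4 * o + 3)) - (4 * o + 3) := by omega
      rw [hf]
      have e1 : 2 * ((4 * o + 3) * (4 * o + 3)) = (2 * ((2 * o + 1) * (8 * o + 7)) + 1) + (4 * o + 3) := by ring
      omega
    rw [hm, Nat.factorization_mul (by norm_num) (by positivity), Finsupp.add_apply,
      Nat.prime_two.factorization_pow, Finsupp.single_eq_same,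
      Nat.factorization_eq_zero_of_not_dvd (fun h => by
        rcases Nat.prime_two.dvd_mul.1 h with h | h <;> omega)]
  let S : Sylow 2 (xGrp a z) := Sylow.ofCard E (by rw [hE, hfac]; rfl)
  have hpq : IsPGroup 2 (zpowers (⟨q, hq⟩ : xGrp a z)) := by
    have hord : orderOf (⟨q, hq⟩ : xGrp a z) ∣ 2 ^ k :=
      orderOf_dvd_of_pow_eq_one (Subtype.ext (by rw [Subgroup.coe_pow]; exact hk))
    obtain ⟨j, -, hj⟩ := (Nat.dvd_prime_pow Nat.prime_two).1 hord
    exact IsPGroup.of_card (n := j) (by rw [Nat.card_zpowers, hj])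
  obtain ⟨Q, hQ⟩ := hpq.exists_le_sylow
  obtain ⟨g, hg⟩ := MulAction.exists_smul_eq (xGrp a z) Q S
  have h1 : g * (⟨q, hq⟩ : xGrp a z) * g⁻¹ ∈ E := by
    have hm : g * (⟨q, hq⟩ : xGrp a z) * g⁻¹ ∈ (g • Q : Sylow 2 (xGrp a z)) := by
      rw [← MulAut.conj_apply]
      exact ⟨_, hQ (mem_zpowers _), rfl⟩
    rw [hg] at hm
    exact hm
  have h2 := H.eSet_sq L h1
  simp only [Subgroup.coe_mul, Subgroup.coe_inv] at h2
  calc q * q = (g : G)⁻¹ * ((g : G) * q * (g : G)⁻¹ * ((g : G) * q * (g : G)⁻¹)) * g := by group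
    _ = 1 := by rw [h2]; group

/-- `Y` centralises `v` modulo `z` -/
theorem conj_v {a b c : Ω} {z t v : G} (hodd : Odd (Nat.card Ω)) (L : Loc a b c z t v) {g : G}
    (hg : g ∈ yGrp a c z) : g * v * g⁻¹ = v ∨ g * v * g⁻¹ = v * z := by
  obtain ⟨hW, hzW, htW, hWel⟩ := H.four_z L.swap L.isT L.ht L.ht1 L.hc L.hca L.htc
  obtain ⟨e⟩ := H.iso a b L.swap.1
  have hvY : v ∈ yGrp a c z := ⟨L.hvI.1, L.hva⟩
  have hv2 : v * v = 1 := Five.sq_of_mem_four e L.ht L.ht2 L.ht1 L.hvV
  have hvz : v * z = z * v := L.z_comm L.hvV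
  have htz : t * z = z * t := L.z_comm L.t_mem
  have htv : t * v = v * t := (mem_centralizer_singleton_iff.1 L.hvV.2).symm
  -- the image of `v`
  have himg : ∀ g ∈ yGrp a c z, g * v * g⁻¹ = v ∨ g * v * g⁻¹ = v * z ∨ g * v * g⁻¹ = v * t ∨
      g * v * g⁻¹ = v * t * z := by
    intro g hg
    have hmem : g * v * g⁻¹ ∈ eSet a b z t := H.two_elem_mem_eSet hodd L 1
      (mul_mem (mul_mem hg hvY) (inv_mem hg)) (by
        rw [pow_one, pow_two, show g * v * g⁻¹ * (g * v * g⁻¹) = g * (v * v) * g⁻¹ by group, hv2]; group)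
    rcases H.eSet_cases L hmem with h | ⟨y, hy, hgy⟩
    · exfalso
      have := conj_mem_of_cn (inv_mem hg.1) h
      rw [show g⁻¹ * (g * v * g⁻¹) * g⁻¹⁻¹ = v by group] at this
      exact L.hvI.2.2 this
    · rcases hy with rfl | rfl <;> rcases hgy with h | h
      · exact Or.inl h
      · exact Or.inr (Or.inl h)
      · exact Or.inr (Or.inr (Or.inl (h.trans htv)))
      · exact Or.inr (Or.inr (Or.inr (h.trans (by rw [htv]))))
  -- the image of `t`
  have htimg : ∀ g ∈ yGrp a c z, g * t * g⁻¹ = t ∨ g * t * g⁻¹ = z * t := by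
    intro g hg
    have h := conj_mem_of_cn hg.1 htW
    have hgz : g * z * g⁻¹ = z := mul_inv_eq_iff_eq_mul.2 (mem_centralizer_singleton_iff.1 hg.1.1)
    rcases hWel _ h with h' | h' | h' | h'
    · exact absurd (conj_eq_one_iff.1 h') L.ht1
    · have : t = z := mul_left_cancel (mul_right_cancel (h'.trans hgz.symm))
      exact absurd (this ▸ L.ht) (H.not_mem_of_swap L.swap)
    · exact Or.inl h'
    · exact Or.inr h'
  let K : Set G := {g | g ∈ yGrp a c z ∧ (g * v * g⁻¹ = v ∨ g * v * g⁻¹ = v * z)}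
  have hgz : ∀ g ∈ yGrp a c z, g * z * g⁻¹ = z := fun g hg =>
    mul_inv_eq_iff_eq_mul.2 (mem_centralizer_singleton_iff.1 hg.1.1)
  have hKmul : ∀ g ∈ K, ∀ k ∈ K, g * k ∈ K := by
    rintro g ⟨hg, hg'⟩ k ⟨hk, hk'⟩
    refine ⟨mul_mem hg hk, ?_⟩
    rw [show g * k * v * (g * k)⁻¹ = g * (k * v * k⁻¹) * g⁻¹ by group]
    rcases hk' with h | h <;> rw [h]
    · exact hg'
    · rw [show g * (v * z) * g⁻¹ = g * v * g⁻¹ * (g * z * g⁻¹) by group, hgz g hg]
      rcases hg' with h' | h' <;> rw [h']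
      · exact Or.inr rfl
      · exact Or.inl (by rw [mul_assoc, L.z_sq, mul_one])
  have hKinv : ∀ g ∈ K, g⁻¹ ∈ K := by
    rintro g ⟨hg, hg'⟩
    refine ⟨inv_mem hg, ?_⟩
    rw [inv_inv]
    rcases hg' with h | h
    · left
      calc g⁻¹ * v * g = g⁻¹ * (g * v * g⁻¹) * g := by rw [h]
        _ = v := by group
    · right
      have h1 : g⁻¹ * z * g = z := by
        calc g⁻¹ * z * g = g⁻¹ * (g * z * g⁻¹) * g := by rw [hgz g hg]
          _ = z := by group
      calc g⁻¹ * v * g = g⁻¹ * (g * v * g⁻¹ * z) * g := by rw [h, mul_assoc v, L.z_sq, mul_one]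
        _ = v * (g⁻¹ * z * g) := by group
        _ = v * z := by rw [h1]
  have hsq : ∀ g ∈ yGrp a c z, g * g ∈ K := by
    intro g hg
    by_cases hgK : g ∈ K
    · exact hKmul g hgK g hgK
    refine ⟨mul_mem hg hg, ?_⟩
    rw [show g * g * v * (g * g)⁻¹ = g * (g * v * g⁻¹) * g⁻¹ by group]
    have hz' := hgz g hg
    rcases himg g hg with h | h | h | h
    · exact absurd ⟨hg, Or.inl h⟩ hgK
    · exact absurd ⟨hg, Or.inr h⟩ hgK
    · rw [h]
      rw [show g * (v * t) * g⁻¹ = g * v * g⁻¹ * (g * t * g⁻¹) by group, h]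
      rcases htimg g hg with h' | h' <;> rw [h']
      · exact Or.inl (by rw [mul_assoc, L.ht2, mul_one])
      · exact Or.inr (by rw [← mul_assoc, mul_assoc v t z, htz, ← mul_assoc, mul_assoc (v * z), L.ht2, mul_one])
    · rw [h]
      rw [show g * (v * t * z) * g⁻¹ = g * v * g⁻¹ * (g * t * g⁻¹) * (g * z * g⁻¹) by group, h, hz']
      rcases htimg g hg with h' | h' <;> rw [h']
      · refine Or.inl ?_
        calc v * t * z * t * z = v * t * (z * t) * z := by group
          _ = v * t * (t * z) * z := by rw [htz]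
          _ = v * (t * t) * (z * z) := by group
          _ = v := by rw [L.ht2, L.z_sq, mul_one, mul_one]
      · refine Or.inr ?_
        calc v * t * z * (z * t) * z = v * t * (z * z) * t * z := by group
          _ = v * (t * t) * z := by rw [L.z_sq]; group
          _ = v * z := by rw [L.ht2, mul_one]
  obtain ⟨j, m, hm, hn⟩ := Nat.exists_eq_pow_mul_and_not_dvd (orderOf_pos g).ne' 2 (by norm_num)
  have hr : g ^ m ∈ eSet a b z t := H.two_elem_mem_eSet hodd L j (pow_mem hg m) (by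
    rw [← pow_mul, mul_comm, ← hn, pow_orderOf_eq_one])
  have hrK : g ^ m ∈ K := by
    refine ⟨pow_mem hg m, Or.inl ?_⟩
    rw [mul_inv_eq_iff_eq_mul]
    have h2 := H.eSet_sq L hr
    have h3 := H.eSet_sq L (eSet_mul L hr (Or.inl L.hvV))
    calc g ^ m * v = (g ^ m * v)⁻¹ := (inv_eq_of_mul_eq_one_left h3).symm
      _ = v⁻¹ * (g ^ m)⁻¹ := mul_inv_rev _ _
      _ = v * g ^ m := by rw [inv_eq_of_mul_eq_one_left hv2, inv_eq_of_mul_eq_one_left h2]
  have hone : (1 : G) ∈ K := ⟨one_mem _, Or.inl (by group)⟩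
  have hpows : ∀ i : ℕ, (g * g) ^ i ∈ K := by
    intro i
    induction i with
    | zero => simpa using hone
    | succ i ih => rw [pow_succ]; exact hKmul _ ih _ (hsq g hg)
  obtain ⟨i, hi⟩ : ∃ i, m = 2 * i + 1 := ⟨m / 2, by
    have : m % 2 = 1 := by omega
    omega⟩
  have : g = ((g * g) ^ i)⁻¹ * g ^ m := by
    rw [hi, pow_succ, pow_mul, pow_two, inv_mul_cancel_left]
  rw [this]
  exact (hKmul _ (hKinv _ (hpows i)) _ hrK).2

end Hyp

end CfsgLib.TwoTransAFive
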