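import Cfsg.Agent.Lib.TwoTransAFive.Swap
import Cfsg.Agent.Lib.TwoTransAFive.Tools

/-!
`S3262`: a swap `z` with several fixed points: `h < f`, `f + h = 2 h ^ 2`, and `C(z)` has elementary
abelian Sylow 2-subgroups `E = four D t × ⟨z⟩` of order eight.
-/

set_option autoImplicit false

namespace CfsgLib.TwoTransAFive

open Subgroup MulAction

variable {G : Type*} [Group G] {Ω : Type*} [MulAction G Ω]

namespace Hyp

variable (H : Hyp G Ω) [Finite G] [Finite Ω]
include H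

theorem hNum_lt_of_swap {a b : Ω} {z : G} (hodd : Odd (Nat.card Ω)) (hz : Swap a b z) (hT : IsT Ω z) :
    H.hNum < H.fNum := by
  obtain ⟨hab, hz2, hza, hzb, hzD⟩ := hz
  obtain ⟨hh, -⟩ := H.odd_hNum hodd
  refine lt_of_le_of_ne H.hNum_le_fNum fun hhf => ?_
  obtain ⟨x, y, hxy, hx, hy⟩ := hT.2.2
  obtain ⟨c, hc, hca⟩ : ∃ c ∈ fix Ω z, c ≠ a := by
    by_cases hxa : x = a
    · exact ⟨y, hy, fun h => hxy (hxa.trans h.symm)⟩
    · exact ⟨x, hx, hxa⟩
  obtain ⟨e⟩ := H.iso a b hab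
  have hzac : z ∈ pairStab a c := mem_pairStab.2 ⟨hza, hc⟩
  have hW := H.isFour_four hca.symm hzac hT.1 hT.2.1
  have hzW : z ∈ Five.four (pairStab a c) z := ⟨hzac, mem_centralizer_singleton_iff.2 rfl⟩
  have hle := H.cent_le_cn hW hzW hT.2.1 hhf
  have haW : a ∈ fixSub Ω (Five.four (pairStab a c) z) := fun v hv => (mem_pairStab.1 hv.1).1
  let S : Set G := {y : G | y ∈ pairStab a b ∧ y * y = 1 ∧ y ≠ 1}
  have hS : S.ncard = 15 := Five.card_invol e
  have hW4 : (Five.four (pairStab a c) z : Set G).ncard = 4 := by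
    rw [← Nat.card_coe_set_eq]; exact H.card_isFour hW
  have hcn : ∀ t ∈ S, t ∈ cn (Five.four (pairStab a c) z) z := fun t ht =>
    hle (mem_centralizer_singleton_iff.2 (hzD t ht.1))
  by_cases hin : ∃ t ∈ S, t ∈ Five.four (pairStab a c) z
  · obtain ⟨t, htS, htW⟩ := hin
    have hsub : S ⊆ (Five.four (pairStab a c) z : Set G) := fun y hy => by
      obtain ⟨k, hk, rfl⟩ := Five.invol_conj e htS.1 hy.1 htS.2.1 hy.2.1 htS.2.2 hy.2.2
      exact conj_mem_of_cn (hle (mem_centralizer_singleton_iff.2 (hzD k hk))) htW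
    have := Set.ncard_le_ncard hsub (Set.toFinite _)
    omega
  push Not at hin
  obtain ⟨t, ht, ht2, ht1⟩ := H.exists_invol hab
  have hinv : ∀ y ∈ S, y ∈ invSet (Five.four (pairStab a c) z) z ∧ y • a = a := fun y hy =>
    ⟨⟨hcn y hy, by rw [hy.2.1]; exact one_mem _, hin y hy⟩, (mem_pairStab.1 hy.1).1⟩
  have hsub : S ⊆ (fun w => t * w) '' (Five.four (pairStab a c) z : Set G) := fun y hy =>
    ⟨t⁻¹ * y, H.sharp_unique hW hzW hT.2.1 hh haW (hinv t ⟨ht, ht2, ht1⟩).1 (hinv t ⟨ht, ht2, ht1⟩).2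
      (hinv y hy).1 (hinv y hy).2, mul_inv_cancel_left t y⟩
  have := Set.ncard_le_ncard hsub (Set.toFinite _)
  rw [Set.ncard_image_of_injective _ (mul_right_injective t)] at this
  omega

omit [Finite G] [Finite Ω] in
theorem not_mem_of_swap {a b : Ω} {z : G} (hz : Swap a b z) : z ∉ pairStab a b := fun h =>
  hz.2.2.2.1 (mem_pairStab.1 h).2

/-- every involution of `D` fixes a second fixed point of `z` -/
theorem exists_other {a b : Ω} {z : G} (hodd : Odd (Nat.card Ω)) (hz : Swap a b z) (hT : IsT Ω z) {t : G}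
    (ht : t ∈ pairStab a b) (ht2 : t * t = 1) (ht1 : t ≠ 1) : ∃ c ∈ fix Ω z, c ≠ a ∧ t • c = c := by
  have hlt := H.hNum_lt_of_swap hodd hz hT
  have hnot := H.not_mem_of_swap hz
  obtain ⟨hab, hz2, hza, hzb, hzD⟩ := hz
  obtain ⟨-, hf⟩ := H.odd_hNum hodd
  obtain ⟨e⟩ := H.iso a b hab
  have hts : t ∈ sqT z := ⟨mem_centralizer_singleton_iff.2 (hzD t ht), Or.inl ht2, ht1, fun h => hnot (h ▸ ht)⟩
  rcases H.fixed_cases hT hf hts with ⟨x, y, hxy, hx, hy, htx, hty⟩ | ⟨p, hp, hts', htp, hu⟩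
  · by_cases hxa : x = a
    · exact ⟨y, hy, fun h => hxy (hxa.trans h.symm), hty⟩
    · exact ⟨x, hx, hxa, htx⟩
  · exfalso
    have hta := (mem_pairStab.1 ht).1
    have hap : a = p := hu a hza hta
    subst hap
    let S : Set G := {y : G | y ∈ pairStab a b ∧ y * y = 1 ∧ y ≠ 1}
    have hsub : S ⊆ nOne Ω z a := fun y hy => by
      obtain ⟨k, hk, rfl⟩ := Five.invol_conj e ht hy.1 ht2 hy.2.1 ht1 hy.2.2
      have hkc : k ∈ centralizer ({z} : Set G) := mem_centralizer_singleton_iff.2 (hzD k hk)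
      have hka : k⁻¹ • a = a := by rw [inv_smul_eq_iff, (mem_pairStab.1 hk).1]
      refine ⟨conj_mem_sqT hkc hts', by rw [mul_smul, mul_smul, hka, hta, (mem_pairStab.1 hk).1],
        fun x hx hkx => ?_⟩
      have h := hu (k⁻¹ • x) (cent_smul_mem_fix (inv_mem hkc) hx) (by
        rw [mul_smul, mul_smul] at hkx
        rw [eq_inv_smul_iff, hkx])
      rw [← smul_inv_smul k x, h, (mem_pairStab.1 hk).1]
    have h1 := Set.ncard_le_ncard hsub (Set.toFinite _)
    have h2 := H.ncard_nOne_le_two hT hf hlt hza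
    have h3 : S.ncard = 15 := Five.card_invol e
    omega

/-- the four group `{1, z, t, z * t}` of the pair `a`, `c` -/
theorem four_z {a b c : Ω} {z : G} (hz : Swap a b z) (hT : IsT Ω z) {t : G} (ht : t ∈ pairStab a b)
    (ht1 : t ≠ 1) (hc : c ∈ fix Ω z) (hca : c ≠ a) (htc : t • c = c) :
    IsFour Ω (Five.four (pairStab a c) z) ∧ z ∈ Five.four (pairStab a c) z ∧ t ∈ Five.four (pairStab a c) z ∧
      ∀ w ∈ Five.four (pairStab a c) z, w = 1 ∨ w = z ∨ w = t ∨ w = z * t := by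
  have hnot := H.not_mem_of_swap hz
  obtain ⟨hab, hz2, hza, hzb, hzD⟩ := hz
  have hzac : z ∈ pairStab a c := mem_pairStab.2 ⟨hza, hc⟩
  have htW : t ∈ Five.four (pairStab a c) z :=
    Five.mem_four.2 ⟨mem_pairStab.2 ⟨(mem_pairStab.1 ht).1, htc⟩, hzD t ht⟩
  obtain ⟨e⟩ := H.iso a c hca.symm
  obtain ⟨y, -, hy2, -, -, hzy, hiff⟩ := Five.four_elems e hzac hT.1 hT.2.1
  refine ⟨H.isFour_four hca.symm hzac hT.1 hT.2.1, ⟨hzac, mem_centralizer_singleton_iff.2 rfl⟩, htW,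
    fun w hw => ?_⟩
  have htz : t ≠ z := fun h => hnot (h ▸ ht)
  rcases (hiff t).1 htW with h | h | h | h
  · exact absurd h ht1
  · exact absurd h htz
  · rw [← h] at hiff
    exact (hiff w).1 hw
  · have hy : y = z * t := by rw [h, ← mul_assoc, hz2, one_mul]
    rcases (hiff w).1 hw with h' | h' | h' | h'
    · exact Or.inl h'
    · exact Or.inr (Or.inl h')
    · exact Or.inr (Or.inr (Or.inr (h'.trans hy)))
    · exact Or.inr (Or.inr (Or.inl (h'.trans h.symm)))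

/-- the data of an involution of `D` at `z` -/
theorem swap_data {a b : Ω} {z : G} (hodd : Odd (Nat.card Ω)) (hz : Swap a b z) (hT : IsT Ω z) {t : G}
    (ht : t ∈ pairStab a b) (ht2 : t * t = 1) (ht1 : t ≠ 1) :
    ∃ (c : Ω) (v : G), c ∈ fix Ω z ∧ c ≠ a ∧ t • c = c ∧ v ∈ Five.four (pairStab a b) t ∧
      v ∈ invSet (Five.four (pairStab a c) z) z ∧ v • a = a ∧ v ≠ 1 ∧ v ≠ t := by
  obtain ⟨c, hc, hca, htc⟩ := H.exists_other hodd hz hT ht ht2 ht1
  obtain ⟨hW, hzW, htW, hWel⟩ := H.four_z hz hT ht ht1 hc hca htc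
  have hnot := H.not_mem_of_swap hz
  obtain ⟨hab, hz2, hza, hzb, hzD⟩ := hz
  obtain ⟨e⟩ := H.iso a b hab
  obtain ⟨v, hvD, hv2, hv1, hvt, htv, hiff⟩ := Five.four_elems e ht ht2 ht1
  have hvV : v ∈ Five.four (pairStab a b) t := (hiff v).2 (by simp)
  refine ⟨c, v, hc, hca, htc, hvV, ⟨⟨mem_centralizer_singleton_iff.2 (hzD v hvD), ?_⟩, ?_, fun h => ?_⟩,
    (mem_pairStab.1 hvD).1, hv1, hvt⟩
  · refine Subgroup.centralizer_le_normalizer _ (mem_centralizer_iff.2 fun w hw => ?_)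
    rcases hWel w hw with rfl | rfl | rfl | rfl
    · simp
    · exact (hzD v hvD).symm
    · exact htv
    · rw [mul_assoc, htv, ← mul_assoc, ← hzD v hvD, mul_assoc]
  · rw [hv2]; exact one_mem _
  · rcases hWel v h with h | h | h | h
    · exact hv1 h
    · exact hnot (h ▸ hvD)
    · exact hvt h
    · exact hnot (by rw [show z = v * t by rw [h, mul_assoc, ht2, mul_one]]; exact mul_mem hvD ht)

theorem four_le_swapT {a b : Ω} {z : G} (hodd : Odd (Nat.card Ω)) (hz : Swap a b z) (hT : IsT Ω z) :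
    ∃ x y : Ω, x ≠ y ∧ x ∈ fix Ω z ∧ y ∈ fix Ω z ∧ 4 ≤ (swapT z x y).ncard := by
  obtain ⟨t, ht, ht2, ht1⟩ := H.exists_invol hz.1
  obtain ⟨c, v, hc, hca, htc, hvV, hvI, hva, hv1, hvt⟩ := H.swap_data hodd hz hT ht ht2 ht1
  obtain ⟨hW, hzW, htW, hWel⟩ := H.four_z hz hT ht ht1 hc hca htc
  have hcW : c ∈ fixSub Ω (Five.four (pairStab a c) z) := fun w hw => (mem_pairStab.1 hw.1).2
  have haW : a ∈ fixSub Ω (Five.four (pairStab a c) z) := fun w hw => (mem_pairStab.1 hw.1).1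
  have hvc : v • c ≠ c := fun h => hvI.2.2 (H.cn_pair hW hzW hT.2.1 hvI.1 hca.symm haW hcW hva h)
  refine ⟨c, v • c, hvc.symm, hc, cent_smul_mem_fix hvI.1.1 hc, ?_⟩
  have hsub : (fun w => v * w) '' (Five.four (pairStab a c) z : Set G) ⊆ swapT z c (v • c) := by
    rintro _ ⟨w, hw, rfl⟩
    have hvw := H.mul_mem_invSet hW hzW hT.2.1 hvI hw
    have hv2 : v * v = 1 := Five.sq_of_mem_four (H.iso a b hz.1).some ht ht2 ht1 hvV
    have hw2 : w * w = 1 := Five.sq_of_mem_four (H.iso a c hca.symm).some (mem_pairStab.2 ⟨hz.2.2.1, hc⟩)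
      hT.1 hT.2.1 hw
    have hvc' : v * w = w * v := by
      have h1 : v * t = t * v := hvV.2 |> mem_centralizer_singleton_iff.1
      rcases hWel w hw with rfl | rfl | rfl | rfl
      · simp
      · exact hz.2.2.2.2 v hvV.1
      · exact h1
      · rw [← mul_assoc, hz.2.2.2.2 v hvV.1, mul_assoc, h1, ← mul_assoc]
    refine ⟨⟨hvw.1.1, Or.inl ?_, fun h => hvw.2.2 (by rw [show v * w = 1 from h]; exact one_mem _), fun h => hvw.2.2 (by rw [show v * w = z from h]; exact hzW)⟩,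
      by rw [mul_smul, hcW w hw]⟩
    calc v * w * (v * w) = v * (w * v) * w := by group
      _ = v * (v * w) * w := by rw [hvc']
      _ = (v * v) * (w * w) := by group
      _ = 1 := by rw [hv2, hw2, one_mul]
  refine le_trans ?_ (Set.ncard_le_ncard hsub (Set.toFinite _))
  rw [Set.ncard_image_of_injective _ (mul_right_injective v), ← Nat.card_coe_set_eq]
  exact (H.card_isFour hW).ge

theorem nOne_eq_empty {a b : Ω} {z : G} (hodd : Odd (Nat.card Ω)) (hz : Swap a b z) (hT : IsT Ω z) :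
    nOne Ω z a = ∅ := by
  have hlt := H.hNum_lt_of_swap hodd hz hT
  obtain ⟨hh, hf⟩ := H.odd_hNum hodd
  have hz' := hz
  obtain ⟨hab, hz2, hza, hzb, hzD⟩ := hz
  refine Set.eq_empty_iff_forall_notMem.2 fun w hw => ?_
  obtain ⟨e⟩ := H.iso a b hab
  have hsmall := H.ncard_nOne_le_two hT hf hlt hza
  have hcomm := comm_of_small e (nOne Ω z a) (Set.toFinite _) (by omega) (by
    intro k hk y hy
    have hkc : k ∈ centralizer ({z} : Set G) := mem_centralizer_singleton_iff.2 (hzD k hk)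
    have hka : k⁻¹ • a = a := by rw [inv_smul_eq_iff, (mem_pairStab.1 hk).1]
    refine ⟨conj_mem_sqT hkc hy.1, by rw [mul_smul, mul_smul, hka, hy.2.1, (mem_pairStab.1 hk).1],
      fun x hx hkx => ?_⟩
    have h := hy.2.2 (k⁻¹ • x) (cent_smul_mem_fix (inv_mem hkc) hx) (by
      rw [mul_smul, mul_smul] at hkx
      rw [eq_inv_smul_iff, hkx])
    rw [← smul_inv_smul k x, h, (mem_pairStab.1 hk).1]) hw
  obtain ⟨t, ht, ht2, ht1⟩ := H.exists_invol hab
  obtain ⟨c, v, hc, hca, htc, hvV, hvI, hva, hv1, hvt⟩ := H.swap_data hodd hz' hT ht ht2 ht1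
  obtain ⟨hW, hzW, htW, hWel⟩ := H.four_z hz' hT ht ht1 hc hca htc
  have haW : a ∈ fixSub Ω (Five.four (pairStab a c) z) := fun w hw => (mem_pairStab.1 hw.1).1
  have hwW : w ∉ Five.four (pairStab a c) z := fun h => hca (hw.2.2 c hc (mem_pairStab.1 h.1).2)
  have hwI : w ∈ invSet (Five.four (pairStab a c) z) z := by
    refine ⟨⟨hw.1.1, Subgroup.centralizer_le_normalizer _ (mem_centralizer_iff.2 fun x hx => ?_)⟩, ?_, hwW⟩
    · have h1 : w * z = z * w := commute_of_sqT hw.1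
      rcases hWel x hx with rfl | rfl | rfl | rfl
      · simp
      · exact h1.symm
      · exact hcomm x ht
      · rw [mul_assoc, hcomm t ht, ← mul_assoc, ← h1, mul_assoc]
    · rcases hw.1.2.1 with h | h <;> rw [h]
      · exact one_mem _
      · exact hzW
  have hx := H.sharp_unique hW hzW hT.2.1 hh haW hvI hva hwI hw.2.1
  -- `w` is an involution of `D`, possibly times `z`, so fixes a second point
  obtain ⟨y, hyD, hy2, hy1, hwy⟩ : ∃ y : G, y ∈ pairStab a b ∧ y * y = 1 ∧ y ≠ 1 ∧ (w = y ∨ w = y * z) := by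
    have hv2 : v * v = 1 := Five.sq_of_mem_four e ht ht2 ht1 hvV
    have hvt' : v * t ∈ Five.four (pairStab a b) t := mul_mem hvV ⟨ht, mem_centralizer_singleton_iff.2 rfl⟩
    have hvt1 : v * t ≠ 1 := fun h => hvt (by rw [← mul_one v, ← ht2, ← mul_assoc, h, one_mul])
    rcases hWel _ hx with h | h | h | h <;> rw [inv_mul_eq_iff_eq_mul] at h
    · exact ⟨v, hvV.1, hv2, hv1, Or.inl (by rw [h, mul_one])⟩
    · exact ⟨v, hvV.1, hv2, hv1, Or.inr h⟩
    · exact ⟨v * t, hvt'.1, Five.sq_of_mem_four e ht ht2 ht1 hvt', hvt1, Or.inl h⟩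
    · refine ⟨v * t, hvt'.1, Five.sq_of_mem_four e ht ht2 ht1 hvt', hvt1, Or.inr ?_⟩
      rw [h, mul_assoc, hzD t ht]
  obtain ⟨c', hc', hca', hyc⟩ := H.exists_other hodd hz' hT hyD hy2 hy1
  refine hca' (hw.2.2 c' hc' ?_)
  rcases hwy with rfl | rfl
  · exact hyc
  · rw [mul_smul, hc', hyc]

/-- `f + h = 2 h ^ 2` -/
theorem fNum_of_swap {a b : Ω} {z : G} (hodd : Odd (Nat.card Ω)) (hz : Swap a b z) (hT : IsT Ω z) :
    H.fNum + H.hNum = 2 * (H.hNum * H.hNum) := by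
  have hlt := H.hNum_lt_of_swap hodd hz hT
  obtain ⟨-, hf⟩ := H.odd_hNum hodd
  obtain ⟨x, y, hxy, hx, hy, hfour⟩ := H.four_le_swapT hodd hz hT
  have h := H.low_count_four hT hf hlt hz.2.2.1 hxy hx hy hfour
  rw [H.nOne_eq_empty hodd hz hT, Set.ncard_empty, zero_mul, add_zero, Nat.mul_sub_one] at h
  have : H.hNum ≤ H.hNum * H.hNum := Nat.le_mul_self _
  omega

end Hyp

end CfsgLib.TwoTransAFive
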