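import Cfsg.Agent.Lib.TwoTransAFive.SwapTThirteen
import Cfsg.Agent.Lib.PCore.Basic

/-!
`S3262`: a swap `z` with several fixed points: the hypotheses of the Sylow-four structure theorem
for `(C(z) ∩ G_a) / ⟨z⟩`.
-/

set_option autoImplicit false

namespace CfsgLib.TwoTransAFive

open Subgroup MulAction

universe u

variable {G : Type u} [Group G] {Ω : Type*} [MulAction G Ω]

/-- What `X / ⟨z⟩` provides: order, Sylow order four, an `A₅`, equal centralisers. -/
def FourQuot (h : ℕ) (X : Type u) [Group X] : Prop :=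
  (∀ S : Sylow 2 X, Nat.card (S : Subgroup X) = 4) ∧
    ∃ (D : Subgroup X) (t : X), Nonempty (D ≃* Model.A5) ∧ t ∈ D ∧ t * t = 1 ∧ t ≠ 1 ∧
      Nat.card (centralizer ({t} : Set X)) = 2 * (h - 1) ∧
      Nat.card (centralizer ((Five.four D t : Subgroup X) : Set X)) = 2 * (h - 1) ∧
      Nat.card X = 2 * (h - 1) * (2 * h + 1)

namespace Hyp

variable (H : Hyp G Ω) [Finite G] [Finite Ω]
include H

theorem exists_fourQuot {a b c : Ω} {z t v : G} (hodd : Odd (Nat.card Ω)) (L : Loc a b c z t v) :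
    ∃ (X : Type u) (_ : Group X) (_ : Finite X), FourQuot H.hNum X := by
  obtain ⟨e⟩ := H.iso a b L.swap.1
  obtain ⟨hW, hzW, htW, hWel⟩ := H.four_z L.swap L.isT L.ht L.ht1 L.hc L.hca L.htc
  have hnot := H.not_mem_of_swap L.swap
  set X0 := xGrp a z with hX0
  have hzX : z ∈ X0 := ⟨mem_centralizer_singleton_iff.2 rfl, L.swap.2.2.1⟩
  let N : Subgroup X0 := zpowers (⟨z, hzX⟩ : X0)
  have hzord : orderOf (⟨z, hzX⟩ : X0) = 2 := orderOf_eq_prime (Subtype.ext (by
    rw [Subgroup.coe_pow, pow_two]; exact L.z_sq)) fun h => L.isT.2.1 (congrArg Subtype.val h)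
  have hNmem : ∀ g : X0, g ∈ N ↔ (g : G) = 1 ∨ (g : G) = z := by
    intro g
    rw [mem_zpowers_iff]
    constructor
    · rintro ⟨i, rfl⟩
      rw [← zpow_mod_orderOf, hzord]
      rcases Int.emod_two_eq i with h | h <;> rw [Nat.cast_ofNat, h]
      · exact Or.inl (by simp)
      · exact Or.inr (by simp)
    · rintro (h | h)
      · exact ⟨0, by rw [zpow_zero]; exact Subtype.ext h.symm⟩
      · exact ⟨1, by rw [zpow_one]; exact Subtype.ext h.symm⟩
  haveI hNn : N.Normal := ⟨fun x hx g => by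
    rcases (hNmem x).1 hx with h | h
    · refine (hNmem _).2 (Or.inl ?_)
      show (g : G) * x * (g : G)⁻¹ = 1
      rw [h]; group
    · refine (hNmem _).2 (Or.inr ?_)
      show (g : G) * x * (g : G)⁻¹ = z
      rw [h, mul_inv_eq_iff_eq_mul]
      exact mem_centralizer_singleton_iff.1 g.2.1⟩
  have hN2 : Nat.card N = 2 := by rw [Nat.card_zpowers, hzord]
  have hcX : Nat.card (X0 ⧸ N) = 2 * (H.hNum - 1) * (2 * H.hNum + 1) := by
    have h1 := N.card_eq_card_quotient_mul_card_subgroup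
    rw [hN2, H.card_xGrp L] at h1
    have hF := H.fNum_of_swap hodd L.swap L.isT
    have h2 := H.two_le_hNum
    obtain ⟨h', hh'⟩ : ∃ h', H.hNum = h' + 1 := ⟨H.hNum - 1, by omega⟩
    rw [hh'] at hF ⊢
    have e1 : 2 * ((h' + 1) * (h' + 1)) = h' * (2 * h' + 3) + 1 + (h' + 1) := by ring
    have hf : H.fNum - 1 = h' * (2 * h' + 3) := by omega
    rw [hf] at h1
    rw [show h' + 1 - 1 = h' by omega, show 2 * (h' + 1) + 1 = 2 * h' + 3 by omega]
    have e2 : 4 * (h' * (2 * h' + 3)) = 2 * h' * (2 * h' + 3) * 2 := by ring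
    omega
  refine ⟨X0 ⧸ N, inferInstance, inferInstance, ?_, ?_⟩
  · intro S
    haveI : Fact (Nat.Prime 2) := ⟨Nat.prime_two⟩
    have h4 := H.hNum_sub_one hodd L
    refine CfsgLib.Small.card_sylow_of_card_eq (k := 2) (m := (H.hNum - 1) / 2 * (2 * H.hNum + 1)) ?_ ?_ S
    · rw [hcX]
      generalize H.hNum - 1 = m at h4 ⊢
      obtain ⟨o, rfl⟩ : ∃ o, m = 4 * o + 2 := ⟨m / 4, by omega⟩
      rw [show (4 * o + 2) / 2 = 2 * o + 1 by omega]
      ring
    · rw [Nat.prime_two.dvd_mul]
      omega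
  set π := QuotientGroup.mk' N
  have hDX : pairStab a b ≤ X0 := fun d hd =>
    Subgroup.mem_inf.2 ⟨mem_centralizer_singleton_iff.2 (L.swap.2.2.2.2 d hd), (mem_pairStab.1 hd).1⟩
  let ι : (pairStab a b : Subgroup G) →* X0 ⧸ N := π.comp (inclusion hDX)
  have hι : ∀ d : (pairStab a b : Subgroup G), ι d = 1 ↔ (d : G) = 1 := by
    intro d
    show ((inclusion hDX d : X0) : X0 ⧸ N) = 1 ↔ _
    rw [QuotientGroup.eq_one_iff, hNmem]
    exact ⟨fun h => h.resolve_right fun h' => hnot (h' ▸ d.2), Or.inl⟩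
  have hinj : Function.Injective ι := by
    rw [injective_iff_map_eq_one]
    exact fun d hd => Subtype.ext ((hι d).1 hd)
  let t0 : (pairStab a b : Subgroup G) := ⟨t, L.ht⟩
  have htD : ι t0 ∈ ι.range := ⟨t0, rfl⟩
  have ht2 : ι t0 * ι t0 = 1 := by rw [← map_mul, hι]; exact L.ht2
  have ht1 : ι t0 ≠ 1 := fun h => L.ht1 ((hι t0).1 h)
  -- the preimages of the centralisers
  have hpre : ∀ g : X0, π g * ι t0 = ι t0 * π g ↔ (g : G) ∈ yGrp a c z := by
    intro g
    have hcz : (g : G) * z = z * g := mem_centralizer_singleton_iff.1 g.2.1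
    have hgz : (g : G) * z * (g : G)⁻¹ = z := mul_inv_eq_iff_eq_mul.2 hcz
    constructor
    · intro h
      have hN' : (g * inclusion hDX t0 * g⁻¹) * (inclusion hDX t0)⁻¹ ∈ N := by
        rw [← QuotientGroup.eq_one_iff]
        show π (g * inclusion hDX t0 * g⁻¹ * (inclusion hDX t0)⁻¹) = 1
        rw [map_mul, map_mul, map_mul, map_inv, map_inv]
        show π g * ι t0 * (π g)⁻¹ * (ι t0)⁻¹ = 1
        rw [h]; group
      have himg : (g : G) * t * (g : G)⁻¹ = t ∨ (g : G) * t * (g : G)⁻¹ = z * t := by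
        rcases (hNmem _).1 hN' with h' | h' <;>
          change (g : G) * t * (g : G)⁻¹ * t⁻¹ = _ at h'
        · exact Or.inl (mul_inv_eq_one.1 h')
        · exact Or.inr (mul_inv_eq_iff_eq_mul.1 h')
      have key : ∀ w ∈ Five.four (pairStab a c) z, (g : G) * w * (g : G)⁻¹ ∈ Five.four (pairStab a c) z := by
        intro w hw
        rcases hWel w hw with rfl | rfl | rfl | rfl
        · rw [mul_one, mul_inv_cancel]; exact one_mem _
        · rw [hgz]; exact hzW
        · rcases himg with h' | h' <;> rw [h']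
          · exact htW
          · exact mul_mem hzW htW
        · rw [show (g : G) * (z * t) * (g : G)⁻¹ = (g : G) * z * (g : G)⁻¹ * ((g : G) * t * (g : G)⁻¹) by group, hgz]
          rcases himg with h' | h' <;> rw [h']
          · exact mul_mem hzW htW
          · exact mul_mem hzW (mul_mem hzW htW)
      have hfin : (Five.four (pairStab a c) z).map (MulAut.conj (g : G)).toMonoidHom =
          Five.four (pairStab a c) z := Subgroup.eq_of_le_of_card_ge
        (by rintro _ ⟨w, hw, rfl⟩; exact key w hw)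
        (by rw [Subgroup.card_map_of_injective (MulAut.conj (g : G)).injective])
      refine Subgroup.mem_inf.2 ⟨⟨g.2.1, (Subgroup.mem_normalizer_iff (H := Five.four (pairStab a c) z)).2
        fun w => ⟨key w, fun hw => ?_⟩⟩, g.2.2⟩
      rw [← hfin] at hw
      obtain ⟨w', hw', hww⟩ := hw
      rwa [← (MulAut.conj (g : G)).injective hww]
    · intro hg
      have h := conj_mem_of_cn (Subgroup.mem_inf.1 hg).1 htW
      rw [← mul_inv_eq_iff_eq_mul]
      show π g * π (inclusion hDX t0) * (π g)⁻¹ = π (inclusion hDX t0)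
      rw [← map_mul, ← map_inv, ← map_mul, ← mul_inv_eq_one, ← map_inv, ← map_mul, QuotientGroup.mk'_apply,
        QuotientGroup.eq_one_iff, hNmem]
      show (g : G) * t * (g : G)⁻¹ * t⁻¹ = 1 ∨ (g : G) * t * (g : G)⁻¹ * t⁻¹ = z
      rcases hWel _ h with h' | h' | h' | h'
      · exact absurd (conj_eq_one_iff.1 h') L.ht1
      · exact absurd ((mul_left_cancel (mul_right_cancel (h'.trans hgz.symm))) ▸ L.ht) hnot
      · exact Or.inl (by rw [h', mul_inv_cancel])
      · exact Or.inr (by rw [h', mul_inv_cancel_right])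
  have hcard : ∀ M : Subgroup (X0 ⧸ N), (∀ g : X0, π g ∈ M ↔ (g : G) ∈ yGrp a c z) →
      Nat.card M = 2 * (H.hNum - 1) := by
    intro M hM
    have h1 : Nat.card (M.comap π) = Nat.card (yGrp a c z) := Nat.card_congr
      { toFun := fun g => ⟨((g : X0) : G), (hM g).1 g.2⟩
        invFun := fun g => ⟨⟨g, ⟨g.2.1.1, g.2.2⟩⟩, (hM _).2 g.2⟩
        left_inv := fun g => rfl
        right_inv := fun g => rfl }
    rw [CfsgLib.PCore.card_comap_mk', hN2, H.card_yGrp L] at h1
    omega
  refine ⟨ι.range, ι t0, ⟨(MonoidHom.ofInjective hinj).symm.trans e⟩, htD, ht2, ht1,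
    hcard _ fun g => by rw [mem_centralizer_singleton_iff]; exact hpre g, ?_, hcX⟩
  refine hcard _ fun g => ?_
  rw [mem_centralizer_iff]
  constructor
  · intro h
    refine (hpre g).1 (h (ι t0) ?_).symm
    exact ⟨htD, mem_centralizer_singleton_iff.2 rfl⟩
  · intro hg w hw
    obtain ⟨⟨d, rfl⟩, hwt⟩ := hw
    have hdV : (d : G) ∈ Five.four (pairStab a b) t := by
      refine Five.mem_four.2 ⟨d.2, ?_⟩
      have h := mem_centralizer_singleton_iff.1 hwt
      rw [← map_mul, ← map_mul] at h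
      exact congrArg Subtype.val (hinj h)
    -- it suffices to treat `t` and `v`
    let v0 : (pairStab a b : Subgroup G) := ⟨v, L.hvV.1⟩
    have ht : π g * ι t0 = ι t0 * π g := (hpre g).2 hg
    have hv : π g * ι v0 = ι v0 * π g := by
      rw [← mul_inv_eq_iff_eq_mul]
      show π g * π (inclusion hDX v0) * (π g)⁻¹ = π (inclusion hDX v0)
      rw [← map_mul, ← map_inv, ← map_mul, ← mul_inv_eq_one, ← map_inv, ← map_mul, QuotientGroup.mk'_apply,
        QuotientGroup.eq_one_iff, hNmem]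
      show (g : G) * v * (g : G)⁻¹ * v⁻¹ = 1 ∨ (g : G) * v * (g : G)⁻¹ * v⁻¹ = z
      rcases H.conj_v hodd L hg with h | h
      · exact Or.inl (by rw [h, mul_inv_cancel])
      · exact Or.inr (by rw [h, L.z_comm L.hvV, mul_inv_cancel_right])
    rcases H.four_ab L hdV with h | h | h | h
    · rw [show d = 1 from Subtype.ext h, map_one, one_mul, mul_one]
    · rw [show d = t0 from Subtype.ext h]; exact ht.symm
    · rw [show d = v0 from Subtype.ext h]; exact hv.symm
    · rw [show d = t0 * v0 from Subtype.ext h, map_mul]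
      exact ((show Commute (π g) (ι t0) from ht).mul_right hv).symm.eq

end Hyp

end CfsgLib.TwoTransAFive
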