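import Cfsg.Agent.Lib.TwoTransAFive.SwapTLocal
import Cfsg.Agent.Lib.Small.Basic
import Mathlib.GroupTheory.GroupAction.Quotient

/-!
`S3262`: the Sylow 13 count excluding a swap with `h = 7`, `f = 91`.
-/

set_option autoImplicit false

namespace CfsgLib.TwoTransAFive

open Subgroup MulAction

variable {G : Type*} [Group G] {Ω : Type*} [MulAction G Ω]

/-- an element of prime order without fixed points moves a point to `p` distinct points -/
theorem thirteen_le_ncard [Finite Ω] {d : G} {p : ℕ} (hp : p.Prime) (hd : orderOf d = p) {x : Ω}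
    (hx : d • x ≠ x) (S : Set Ω) (hS : ∀ y ∈ S, d • y ∈ S) (hxS : x ∈ S) : p ≤ S.ncard := by
  have hmem : ∀ i : ℕ, d ^ i • x ∈ S := by
    intro i
    induction i with
    | zero => simpa using hxS
    | succ i ih => rw [pow_succ', mul_smul]; exact hS _ ih
  have key : ∀ i j : ℕ, i < j → j < p → d ^ i • x ≠ d ^ j • x := by
    intro i j hij hjp heq
    have hfix : d ^ (j - i) • x = x := by
      apply (smul_left_cancel_iff (d ^ i)).1
      rw [← mul_smul, ← pow_add, Nat.add_sub_cancel' hij.le, heq]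
    refine hx ?_
    have hne : d ^ (j - i) ≠ 1 := pow_ne_one_of_lt_orderOf (by omega) (by omega)
    have hcard : Nat.card (stabilizer G x ⊓ zpowers d : Subgroup G) = p := by
      have hdvd : Nat.card (stabilizer G x ⊓ zpowers d : Subgroup G) ∣ Nat.card (zpowers d) :=
        Subgroup.card_dvd_of_le inf_le_right
      rw [Nat.card_zpowers, hd] at hdvd
      rcases (Nat.dvd_prime hp).1 hdvd with h | h
      · exfalso
        rw [Subgroup.card_eq_one] at h
        refine hne ?_
        have hm : d ^ (j - i) ∈ (stabilizer G x ⊓ zpowers d : Subgroup G) := ⟨hfix, npow_mem_zpowers _ _⟩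
        rwa [h, mem_bot] at hm
      · exact h
    haveI : Finite (zpowers d) := Nat.finite_of_card_ne_zero (by rw [Nat.card_zpowers, hd]; exact hp.ne_zero)
    have htop : (stabilizer G x ⊓ zpowers d : Subgroup G) = zpowers d :=
      Subgroup.eq_of_le_of_card_ge inf_le_right (by rw [hcard, Nat.card_zpowers, hd])
    have : d ∈ (stabilizer G x ⊓ zpowers d : Subgroup G) := by rw [htop]; exact mem_zpowers d
    exact this.1
  have hinj : Function.Injective fun i : Fin p => (⟨d ^ (i : ℕ) • x, hmem _⟩ : S) := by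
    intro i j hij
    have h : d ^ (i : ℕ) • x = d ^ (j : ℕ) • x := congrArg Subtype.val hij
    rcases lt_trichotomy (i : ℕ) (j : ℕ) with hl | hl | hl
    · exact absurd h (key _ _ hl j.2)
    · exact Fin.ext hl
    · exact absurd h.symm (key _ _ hl i.2)
  have := Nat.card_le_card_of_injective _ hinj
  rwa [Nat.card_fin, Nat.card_coe_set_eq] at this

namespace Hyp

variable (H : Hyp G Ω) [Finite G] [Finite Ω]
include H

/-- a 2-element of `C(z)` has an odd number of fixed points on those of `z` -/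
theorem odd_fixed {z : G} (hT : IsT Ω z) (hf : Odd H.fNum) :
    ∀ (k : ℕ) {q : G}, q ∈ centralizer ({z} : Set G) → q ^ 2 ^ k = 1 →
      {x ∈ fix Ω z | q • x = x}.ncard % 2 = 1
  | 0, q, _, h => by
    rw [pow_zero, pow_one] at h
    subst h
    rw [show {x ∈ fix Ω z | (1 : G) • x = x} = fix Ω z by ext; simp, H.ncard_fix hT]
    exact Nat.odd_iff.1 hf
  | k + 1, q, hq, h => by
    have h' : (q * q) ^ 2 ^ k = 1 := by rw [← pow_two, ← pow_mul, ← pow_succ', h]
    have ih := odd_fixed hT hf k (mul_mem hq hq) h'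
    have hm := ncard_mod_two {x ∈ fix Ω z | (q * q) • x = x} (Set.toFinite _) (fun x => q • x)
      (fun x hx => ⟨cent_smul_mem_fix hq hx.1, by
        show (q * q) • q • x = q • x
        rw [← mul_smul, mul_assoc, mul_smul, hx.2]⟩)
      (fun x hx => by rw [← mul_smul]; exact hx.2)
    rw [ih] at hm
    rw [hm]
    refine congrArg (fun S : Set Ω => S.ncard % 2) ?_
    ext x
    exact ⟨fun hx => ⟨⟨hx.1, by show (q * q) • x = x; rw [mul_smul, hx.2, hx.2]⟩, hx.2⟩, fun hx => ⟨hx.1.1, hx.2⟩⟩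

theorem sq_one_cent {a b c : Ω} {z t v : G} (hodd : Odd (Nat.card Ω)) (L : Loc a b c z t v) {q : G}
    (hq : q ∈ centralizer ({z} : Set G)) {k : ℕ} (hk : q ^ 2 ^ k = 1) : q * q = 1 := by
  obtain ⟨-, hf⟩ := H.odd_hNum hodd
  have h := H.odd_fixed L.isT hf k hq hk
  obtain ⟨p, hp, hqp⟩ : {x ∈ fix Ω z | q • x = x}.Nonempty :=
    Set.nonempty_of_ncard_ne_zero (by omega)
  by_cases hpa : p = a
  · exact H.sq_one_xGrp hodd L ⟨hq, hpa ▸ hqp⟩ hk
  obtain ⟨w, hw, hwp, -⟩ := H.cent_pair L.isT hpa hp L.swap.2.2.1 (Ne.symm hpa) L.swap.2.2.1 hp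
  have hmem : w * q * w⁻¹ ∈ xGrp a z :=
    Subgroup.mem_inf.2 ⟨mul_mem (mul_mem hw hq) (inv_mem hw), by
      show (w * q * w⁻¹) • a = a
      rw [mul_smul, mul_smul, ← hwp, inv_smul_smul, hqp]⟩
  have h2 := H.sq_one_xGrp hodd L hmem (k := k) (by rw [conj_pow, hk]; group)
  calc q * q = w⁻¹ * (w * q * w⁻¹ * (w * q * w⁻¹)) * w := by group
    _ = 1 := by rw [h2]; group

theorem false_of_seven {a b c : Ω} {z t v : G} (hodd : Odd (Nat.card Ω)) (L : Loc a b c z t v)
    (h7 : H.hNum = 7) (h91 : H.fNum = 91) : False := by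
  classical
  haveI hp13 : Fact (Nat.Prime 13) := ⟨by norm_num⟩
  set C := centralizer ({z} : Set G) with hCdef
  have hC : Nat.card C = 32760 := by rw [hCdef, H.card_cent L.isT, h91]
  obtain ⟨P⟩ : Nonempty (Sylow 13 C) := inferInstance
  have hP : Nat.card (P : Subgroup C) = 13 := by
    rw [CfsgLib.Small.card_sylow_of_card_eq (k := 1) (m := 2520) (by rw [hC]; norm_num) (by norm_num) P]
    norm_num
  obtain ⟨d, hd⟩ := exists_prime_orderOf_dvd_card' (G := (P : Subgroup C)) 13 (by rw [hP])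
  rw [← Subgroup.orderOf_coe] at hd
  set dC : C := (d : C) with hdC
  have hdG : orderOf (dC : G) = 13 := by rw [Subgroup.orderOf_coe, hd]
  have hPz : (P : Subgroup C) = zpowers dC :=
    (Subgroup.eq_of_le_of_card_ge (zpowers_le.2 d.2) (by rw [Nat.card_zpowers, hd, hP])).symm
  have hfpf : ∀ p ∈ fix Ω z, (dC : G) • p ≠ p := by
    intro p hp hdp
    have h := (C ⊓ stabilizer G p).orderOf_dvd_natCard (x := (dC : G)) ⟨dC.2, hdp⟩
    rw [hdG, hCdef, H.card_cent_stab L.isT hp, h91] at h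
    norm_num at h
  set CC := centralizer ((P : Subgroup C) : Set C) with hCC
  have hcd : ∀ x ∈ CC, (x : G) * dC = dC * x := fun x hx =>
    congrArg Subtype.val (mem_centralizer_iff.1 hx dC (by rw [hPz]; exact mem_zpowers dC)).symm
  let zC : C := ⟨z, mem_centralizer_singleton_iff.2 rfl⟩
  have hzc : zC ∈ CC := mem_centralizer_iff.2 fun y _ =>
    Subtype.ext (mem_centralizer_singleton_iff.1 y.2)
  -- point stabilisers in `CC`
  have hstab : ∀ x ∈ CC, ∀ p ∈ fix Ω z, (x : G) • p = p → (x : G) = 1 ∨ (x : G) = z := by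
    intro x hx p hp hxp
    by_contra hne
    push Not at hne
    have hinv : ∀ y ∈ {y ∈ fix Ω z | (x : G) • y = y}, (dC : G) • y ∈ {y ∈ fix Ω z | (x : G) • y = y} :=
      fun y hy => ⟨cent_smul_mem_fix dC.2 hy.1, by
        show (x : G) • (dC : G) • y = (dC : G) • y
        rw [← mul_smul, hcd x hx, mul_smul, hy.2]⟩
    have h13 := thirteen_le_ncard hp13.out hdG (hfpf p hp) _ hinv ⟨hp, hxp⟩
    obtain ⟨q, hq, hxq, hqp⟩ : ∃ q ∈ fix Ω z, (x : G) • q = q ∧ q ≠ p :=
      ⟨(dC : G) • p, cent_smul_mem_fix dC.2 hp, (hinv p ⟨hp, hxp⟩).2, hfpf p hp⟩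
    obtain ⟨e⟩ := H.iso q p hqp
    have hV : (x : G) ∈ Five.four (pairStab q p) z :=
      Five.mem_four.2 ⟨mem_pairStab.2 ⟨hxq, hxp⟩, mem_centralizer_singleton_iff.1 x.2⟩
    have hx2 := Five.sq_of_mem_four e (mem_pairStab.2 ⟨hq, hp⟩) L.isT.1 L.isT.2.1 hV
    rw [H.fix_inter_eq L.isT ⟨x.2, Or.inl hx2, hne.1, hne.2⟩ hqp hq hp hxq hxp,
      H.ncard_fixSub (H.isFour_four hqp (mem_pairStab.2 ⟨hq, hp⟩) L.isT.1 L.isT.2.1), h7] at h13
    omega
  -- the orbits of `CC` on the fixed points of `z`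
  let F := {x : Ω // x ∈ fix Ω z}
  letI : MulAction CC F :=
    { smul := fun g x => ⟨((g : C) : G) • (x : Ω), cent_smul_mem_fix (g : C).2 x.2⟩
      one_smul := fun x => Subtype.ext (one_smul G (x : Ω))
      mul_smul := fun g k x => Subtype.ext (mul_smul ((g : C) : G) ((k : C) : G) (x : Ω)) }
  have hst : ∀ x : F, Nat.card (MulAction.stabilizer CC x) = 2 := by
    intro x
    rw [Nat.card_eq_two_iff]
    refine ⟨1, ⟨⟨zC, hzc⟩, Subtype.ext x.2⟩, fun h => ?_, ?_⟩
    · exact L.isT.2.1 (congrArg (fun g : MulAction.stabilizer CC x => (((g : CC) : C) : G)) h).symm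
    · refine Set.eq_univ_iff_forall.2 fun g => ?_
      rcases hstab ((g : CC) : C) (g : CC).2 x x.2 (congrArg Subtype.val g.2) with h | h
      · exact Or.inl (Subtype.ext (Subtype.ext (Subtype.ext h)))
      · exact Or.inr (Subtype.ext (Subtype.ext (Subtype.ext h)))
  have hidx : ∀ x : F, (MulAction.stabilizer CC x).index * 2 = Nat.card CC := fun x => by
    rw [← hst x, mul_comm]; exact (MulAction.stabilizer CC x).card_mul_index
  have hF : Nat.card F = 91 := by
    rw [show Nat.card F = (fix Ω z).ncard from Nat.card_coe_set_eq _, H.ncard_fix L.isT, h91]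
  have hCC2 : Nat.card CC ∣ 182 := by
    have e := Nat.card_congr (MulAction.selfEquivSigmaOrbitsQuotientStabilizer CC F)
    haveI : Fintype (Quotient (MulAction.orbitRel CC F)) := Fintype.ofFinite _
    rw [hF, Nat.card_sigma] at e
    have e2 : 182 = Fintype.card (Quotient (MulAction.orbitRel CC F)) * Nat.card CC := by
      rw [show 182 = 91 * 2 by norm_num, e, Finset.sum_mul, Finset.sum_congr rfl fun q _ => ?_,
        Finset.sum_const, Finset.card_univ, smul_eq_mul]
      rw [← Subgroup.index_eq_card]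
      exact hidx _
    exact ⟨_, by rw [e2, mul_comm]⟩
  have h26 : 26 ∣ Nat.card CC := by
    have h13 : 13 ∣ Nat.card CC := by
      have hdc : dC ∈ CC := mem_centralizer_iff.2 fun y hy => by
        rw [hPz, SetLike.mem_coe, mem_zpowers_iff] at hy
        obtain ⟨i, rfl⟩ := hy
        exact (Commute.refl dC).zpow_left i |>.eq
      have := CC.orderOf_dvd_natCard hdc
      rwa [hd] at this
    have h2 : 2 ∣ Nat.card CC := by
      obtain ⟨x, hx⟩ : Nonempty F := by
        have : 0 < Nat.card F := by rw [hF]; norm_num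
        exact (Nat.card_pos_iff.1 this).1
      exact ⟨_, by rw [← hidx ⟨x, hx⟩, mul_comm]⟩
    exact Nat.Coprime.mul_dvd_of_dvd_of_dvd (m := 2) (n := 13) (by norm_num) h2 h13
  have hrel := CfsgLib.Small.relIndex_centralizer_normalizer_dvd_of_prime (p := 13) hP
  have hmul := CfsgLib.Small.card_centralizer_mul_relIndex (P : Subgroup C)
  have hn := CfsgLib.Small.card_normalizer_mul_card_sylow P
  have hmod : Nat.card (Sylow 13 C) % 13 = 1 := card_sylow_modEq_one 13 C
  rw [hC] at hn
  rw [← hCC] at hmul hrel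
  have hN : Nat.card (normalizer ((P : Subgroup C) : Set C)) = 312 ∧ Nat.card CC = 26 := by
    generalize Nat.card CC = k at hCC2 h26 hmul ⊢
    generalize CC.relIndex (normalizer ((P : Subgroup C) : Set C)) = r at hrel hmul
    generalize Nat.card (Sylow 13 C) = s at hn hmod
    generalize Nat.card (normalizer ((P : Subgroup C) : Set C)) = N at hn hmul ⊢
    subst hmul
    obtain ⟨o, rfl⟩ := h26
    have ho : o ∣ 7 := Nat.dvd_of_mul_dvd_mul_left (by norm_num : 0 < 26) (by simpa using hCC2)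
    have hr : r ∈ Nat.divisors 12 := Nat.mem_divisors.2 ⟨by simpa using hrel, by norm_num⟩
    rw [show Nat.divisors 12 = {1, 2, 3, 4, 6, 12} by decide] at hr
    simp only [Finset.mem_insert, Finset.mem_singleton] at hr
    rcases (Nat.dvd_prime (by norm_num)).1 ho with rfl | rfl <;>
      rcases hr with rfl | rfl | rfl | rfl | rfl | rfl <;> omega
  -- an elementary abelian group of order eight cannot act
  haveI : Fact (Nat.Prime 2) := ⟨Nat.prime_two⟩
  obtain ⟨Q, hQ⟩ := Sylow.exists_subgroup_card_pow_prime (G := normalizer ((P : Subgroup C) : Set C)) 2 (n := 3)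
    (by rw [hN.1]; norm_num)
  have := Fintype.ofFinite Q
  let φ : Q → C := fun q => ((q : normalizer ((P : Subgroup C) : Set C)) : C)
  have hφ : Function.Injective φ := Subtype.val_injective.comp Subtype.val_injective
  have hφ1 : ∀ q : Q, φ q * φ q = 1 := by
    intro q
    have h : q ^ Nat.card Q = 1 := pow_card_eq_one'
    rw [hQ] at h
    refine Subtype.ext (H.sq_one_cent hodd L (φ q).2 (k := 3) ?_)
    have h' := congrArg (fun q : Q => (φ q : G)) h
    simpa [φ] using h'
  have himg : ∀ q : Q, φ q * dC * (φ q)⁻¹ = dC ∨ φ q * dC * (φ q)⁻¹ = dC⁻¹ := by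
    intro q
    have hn' := ((Subgroup.mem_normalizer_iff (H := (P : Subgroup C))).1
      (q : normalizer ((P : Subgroup C) : Set C)).2 dC).1 d.2
    change φ q * dC * (φ q)⁻¹ ∈ (P : Subgroup C) at hn'
    rw [hPz] at hn'
    obtain ⟨i, hi⟩ := mem_zpowers_iff.1 hn'
    have h2 : dC ^ (i * i) = dC := by
      rw [zpow_mul, hi, conj_zpow, hi]
      calc φ q * (φ q * dC * (φ q)⁻¹) * (φ q)⁻¹ = (φ q * φ q) * dC * (φ q * φ q)⁻¹ := by group
        _ = dC := by rw [hφ1]; group
    have h3 : dC ^ (i * i - 1) = 1 := by rw [zpow_sub, h2, zpow_one, mul_inv_cancel]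
    have h4 := orderOf_dvd_iff_zpow_eq_one.2 h3
    rw [hd, show i * i - 1 = (i - 1) * (i + 1) by ring] at h4
    rcases (Nat.prime_iff_prime_int.1 hp13.out).dvd_mul.1 h4 with h | h
    · left
      have : dC ^ (i - 1) = 1 := orderOf_dvd_iff_zpow_eq_one.1 (by rw [hd]; exact h)
      rw [← hi, show i = (i - 1) + 1 by ring, zpow_add, this, one_mul, zpow_one]
    · right
      have : dC ^ (i + 1) = 1 := orderOf_dvd_iff_zpow_eq_one.1 (by rw [hd]; exact h)
      rw [← hi, show i = (i + 1) + (-1) by ring, zpow_add, this, one_mul, zpow_neg_one]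
  have hcount := Finset.card_le_mul_card_image (s := (Finset.univ : Finset Q))
    (f := fun q => φ q * dC * (φ q)⁻¹) 2 ?_
  · have hle : ((Finset.univ : Finset Q).image fun q => φ q * dC * (φ q)⁻¹).card ≤ 2 := by
      refine (Finset.card_le_card (t := {dC, dC⁻¹}) ?_).trans Finset.card_le_two
      intro y hy
      obtain ⟨q, -, rfl⟩ := Finset.mem_image.1 hy
      rcases himg q with h | h <;> simp [h]
    rw [Finset.card_univ, ← Nat.card_eq_fintype_card, hQ] at hcount
    omega
  intro y hy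
  -- two elements of `Q` with the same image differ in `CC`
  obtain ⟨q₀, -, hq₀⟩ := Finset.mem_image.1 hy
  by_contra hgt
  rw [not_le, Finset.two_lt_card] at hgt
  obtain ⟨q₁, h₁, q₂, h₂, q₃, h₃, h12, h13, h23⟩ := hgt
  have hmem : ∀ q : Q, φ q * dC * (φ q)⁻¹ = y → φ q₀⁻¹ * φ q ∈ CC := by
    intro q hq
    have h0 : φ q₀⁻¹ = (φ q₀)⁻¹ := rfl
    have hc : (φ q₀⁻¹ * φ q) * dC = dC * (φ q₀⁻¹ * φ q) := by
      have h := hq.trans hq₀.symm
      rw [h0]
      calc (φ q₀)⁻¹ * φ q * dC = (φ q₀)⁻¹ * (φ q * dC * (φ q)⁻¹) * φ q := by group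
        _ = (φ q₀)⁻¹ * (φ q₀ * dC * (φ q₀)⁻¹) * φ q := by rw [h]
        _ = _ := by group
    refine mem_centralizer_iff.2 fun w hw => ?_
    rw [hPz, SetLike.mem_coe, mem_zpowers_iff] at hw
    obtain ⟨i, rfl⟩ := hw
    exact ((show Commute (φ q₀⁻¹ * φ q) dC from hc).zpow_right i).symm.eq
  let Q' : Subgroup Q := (CC.comap ((normalizer ((P : Subgroup C) : Set C)).subtype.comp Q.subtype))
  have hQ' : Nat.card Q' ≤ 2 := by
    have d1 : Nat.card Q' ∣ 8 := by have := Subgroup.card_subgroup_dvd_card Q'; rwa [hQ] at this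
    have d2 : Nat.card Q' ∣ Nat.card CC := by
      refine Subgroup.card_dvd_of_injective
        ((((normalizer ((P : Subgroup C) : Set C)).subtype.comp Q.subtype).comp Q'.subtype).codRestrict CC
          fun g => g.2) ?_
      intro g k h
      have h' := congrArg (fun x : CC => (x : C)) h
      exact Subtype.ext (hφ h')
    rw [hN.2] at d2
    exact Nat.le_of_dvd two_pos ((Nat.dvd_gcd d1 d2).trans (by norm_num))
  have hsub : ∀ q ∈ (Finset.univ.filter fun q : Q => φ q * dC * (φ q)⁻¹ = y), q₀⁻¹ * q ∈ Q' := by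
    intro q hq
    exact hmem q (Finset.mem_filter.1 hq).2
  have h3 : 3 ≤ Nat.card Q' := by
    rw [← SetLike.coe_sort_coe, Nat.card_coe_set_eq]
    have hsub' : ({q₀⁻¹ * q₁, q₀⁻¹ * q₂, q₀⁻¹ * q₃} : Set Q) ⊆ (Q' : Set Q) :=
      Set.insert_subset (hsub q₁ h₁) (Set.insert_subset (hsub q₂ h₂) (Set.singleton_subset_iff.2 (hsub q₃ h₃)))
    refine le_trans ?_ (Set.ncard_le_ncard hsub' (Set.toFinite _))
    rw [Set.ncard_eq_three.2 ⟨_, _, _, fun h => h12 (mul_left_cancel h), fun h => h13 (mul_left_cancel h),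
      fun h => h23 (mul_left_cancel h), rfl⟩]
  omega

end Hyp

end CfsgLib.TwoTransAFive
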